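import Cfsg.Agent.Lib.A9Three.Hom

set_option autoImplicit false
set_option maxRecDepth 8000
set_option maxHeartbeats 400000
set_option synthInstance.maxSize 2000

/-!
The embedded alternating group of degree nine and the centralizers known to lie in it.
-/

namespace CfsgLib.A9Three

open CfsgLib.A9Local Equiv Equiv.Perm CfsgLib.ShortPres

universe u

/-- The embedding of pairs of permutations of four and five points. -/
def inc45 : Perm (Fin 4) × Perm (Fin 5) →* Perm (Fin 9) :=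
  (finSumFinEquiv (m := 4) (n := 5)).permCongrHom.toMonoidHom.comp (sumCongrHom (Fin 4) (Fin 5))

theorem inc45_injective : Function.Injective inc45 :=
  (finSumFinEquiv (m := 4) (n := 5)).permCongrHom.injective.comp sumCongrHom_injective

theorem sign_inc45 (x : Perm (Fin 4) × Perm (Fin 5)) : sign (inc45 x) = sign x.1 * sign x.2 := by
  obtain ⟨p, q⟩ := x
  show sign ((finSumFinEquiv (m := 4) (n := 5)).permCongr (Equiv.Perm.sumCongr p q)) = _
  rw [sign_permCongr, sign_sumCongr]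

/-- What commutes with `(0 1)(2 3)` preserves the first four points. -/
theorem exists_inc45 {σ : Perm (Fin 9)} (hσ : σ * fourU.v1 = fourU.v1 * σ) : ∃ x, inc45 x = σ := by
  set e := (finSumFinEquiv (m := 4) (n := 5)).permCongrHom with he
  obtain ⟨⟨p, q⟩, hpq⟩ := mem_sumCongrHom_range_of_perm_mapsTo_inl (m := Fin 4) (n := Fin 5) (σ := e.symm σ) (by
    rintro _ ⟨i, rfl⟩
    set a := finSumFinEquiv (m := 4) (n := 5) (Sum.inl i) with ha
    have hmoved : fourU.v1 a ≠ a :=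
      (by decide +kernel : ∀ i : Fin 4, fourU.v1 (finSumFinEquiv (m := 4) (n := 5) (Sum.inl i)) ≠
        finSumFinEquiv (m := 4) (n := 5) (Sum.inl i)) i
    have hmov2 : fourU.v1 (σ a) ≠ σ a := by
      rw [← Perm.mul_apply, ← hσ, Perm.mul_apply]
      exact fun h => hmoved (σ.injective h)
    have h1 : (σ a).val < 4 := (by decide +kernel : ∀ c : Fin 9, fourU.v1 c ≠ c → c.val < 4) _ hmov2
    refine ⟨⟨_, h1⟩, ?_⟩
    show _ = (finSumFinEquiv (m := 4) (n := 5)).symm (σ a)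
    rw [← finSumFinEquiv.injective.eq_iff, apply_symm_apply]
    exact Fin.ext rfl)
  refine ⟨(p, q), ?_⟩
  show e (sumCongrHom (Fin 4) (Fin 5) (p, q)) = σ
  rw [hpq, MulEquiv.apply_symm_apply]

theorem InBlk.sign {r : HM} {σ : Perm (Fin 9)} (h : InBlk r σ) : Equiv.Perm.sign σ = 1 := by
  have h1 := h.1
  rwa [map_mul, map_mul, map_inv, theta_even, inv_one, one_mul, mul_one] at h1

variable {G : Type u} [Group G] [Finite G] {L : Loc G}

/-- The alternating group of degree nine in the group, compatible with the local data. -/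
structure Big (F : Frame L) where
  /-- the embedding -/
  φ : alternatingGroup (Fin 9) →* G
  inj : Function.Injective φ
  agree : ∀ h : HM, φ ⟨theta h, mem_alternatingGroup.mpr (theta_even h)⟩ = L.ι h
  agree_val : ∀ (r : HM) (σ : Perm (Fin 9)) (hs : σ ∈ alternatingGroup (Fin 9)), InBlk r σ → φ ⟨σ, hs⟩ = F.val r σ

theorem Frame.exists_big (F : Frame L) : Nonempty (Big F) := by
  obtain ⟨φ, h1, h2, h3⟩ := F.exists_alt
  exact ⟨⟨φ, h1, h2, h3⟩⟩

namespace Big

variable {F : Frame L} (B : Big F)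

/-- The embedded group. -/
abbrev R : Subgroup G := B.φ.range

/-- The embedding, as a total function. -/
noncomputable def at' (σ : Perm (Fin 9)) : G :=
  if h : sign σ = 1 then B.φ ⟨σ, mem_alternatingGroup.mpr h⟩ else 1

theorem at_eq {σ : Perm (Fin 9)} (h : sign σ = 1) : B.at' σ = B.φ ⟨σ, mem_alternatingGroup.mpr h⟩ :=
  dif_pos h

theorem at_φ (x : alternatingGroup (Fin 9)) : B.at' x.1 = B.φ x := B.at_eq (mem_alternatingGroup.mp x.2)

theorem at_mem (σ : Perm (Fin 9)) : B.at' σ ∈ B.R := by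
  unfold at'
  split
  · exact ⟨_, rfl⟩
  · exact one_mem _

theorem at_one : B.at' 1 = 1 := by
  rw [B.at_eq (map_one _), ← map_one B.φ]
  rfl

theorem at_mul {σ τ : Perm (Fin 9)} (hσ : sign σ = 1) (hτ : sign τ = 1) : B.at' (σ * τ) = B.at' σ * B.at' τ := by
  have h : sign (σ * τ) = 1 := by rw [map_mul, hσ, hτ, mul_one]
  rw [B.at_eq hσ, B.at_eq hτ, B.at_eq h]
  exact map_mul B.φ ⟨σ, mem_alternatingGroup.mpr hσ⟩ ⟨τ, mem_alternatingGroup.mpr hτ⟩

theorem at_inv {σ : Perm (Fin 9)} (hσ : sign σ = 1) : B.at' σ⁻¹ = (B.at' σ)⁻¹ := by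
  have h : sign σ⁻¹ = 1 := by rw [map_inv, hσ, inv_one]
  rw [B.at_eq hσ, B.at_eq h]
  exact map_inv B.φ ⟨σ, mem_alternatingGroup.mpr hσ⟩

theorem at_pow {σ : Perm (Fin 9)} (hσ : sign σ = 1) (n : ℕ) : B.at' (σ ^ n) = B.at' σ ^ n := by
  have h : sign (σ ^ n) = 1 := by rw [map_pow, hσ, one_pow]
  rw [B.at_eq hσ, B.at_eq h]
  exact map_pow B.φ ⟨σ, mem_alternatingGroup.mpr hσ⟩ n

theorem at_conj {σ τ : Perm (Fin 9)} (hσ : sign σ = 1) (hτ : sign τ = 1) :
    B.at' (σ * τ * σ⁻¹) = B.at' σ * B.at' τ * (B.at' σ)⁻¹ := by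
  rw [B.at_mul (by rw [map_mul, hσ, hτ, mul_one]) (by rw [map_inv, hσ, inv_one]), B.at_mul hσ hτ, B.at_inv hσ]

theorem at_inj {σ τ : Perm (Fin 9)} (hσ : sign σ = 1) (hτ : sign τ = 1) (h : B.at' σ = B.at' τ) : σ = τ := by
  rw [B.at_eq hσ, B.at_eq hτ] at h
  exact congrArg Subtype.val (B.inj h)

theorem at_commute {σ τ : Perm (Fin 9)} (hσ : sign σ = 1) (hτ : sign τ = 1) (h : σ * τ = τ * σ) :
    Commute (B.at' σ) (B.at' τ) := by
  show _ * _ = _ * _
  rw [← B.at_mul hσ hτ, ← B.at_mul hτ hσ, h]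

theorem of_commute {σ τ : Perm (Fin 9)} (hσ : sign σ = 1) (hτ : sign τ = 1) (h : Commute (B.at' σ) (B.at' τ)) :
    σ * τ = τ * σ := by
  refine B.at_inj (by rw [map_mul, hσ, hτ, mul_one]) (by rw [map_mul, hσ, hτ, mul_one]) ?_
  rw [B.at_mul hσ hτ, B.at_mul hτ hσ, h.eq]

theorem at_val {r : HM} {σ : Perm (Fin 9)} (h : InBlk r σ) : B.at' σ = F.val r σ := by
  rw [B.at_eq h.sign]
  exact B.agree_val r σ _ h

theorem at_im {σ : Perm (Fin 9)} (h : σ ∈ M2) : B.at' σ = FourPerm.im F σ := B.at_val (inBlk_one.mpr h)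

theorem at_theta (h : HM) : B.at' (theta h) = L.ι h := by
  rw [B.at_eq (theta_even h)]
  exact B.agree h

theorem exists_at {g : G} (hg : g ∈ B.R) : ∃ σ, sign σ = 1 ∧ B.at' σ = g := by
  obtain ⟨x, rfl⟩ := hg
  exact ⟨x.1, mem_alternatingGroup.mp x.2, B.at_φ x⟩

include B in
theorem val_mem {r : HM} {σ : Perm (Fin 9)} (h : InBlk r σ) : F.val r σ ∈ B.R := B.at_val h ▸ B.at_mem σ

/-- The normalizer of the short translation. -/
theorem norm_z_le {g : G} (hg : g * FourPerm.im F z9 * g⁻¹ = FourPerm.im F z9 ∨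
    g * FourPerm.im F z9 * g⁻¹ = (FourPerm.im F z9)⁻¹) : g ∈ B.R := by
  obtain ⟨σ, hσ, rfl⟩ := F.exists_val 1 (g := g) (by
    rw [one_mul, inv_one, mul_one]
    rw [show FourPerm.im F z9 = L.ι (tr aV) from F.val_z] at hg
    exact hg)
  exact B.val_mem hσ

/-- The centralizer of the four-group on four points. -/
theorem fourU_le {g : G} (hg : g ∈ fourU.K F) : g ∈ B.R := by
  obtain ⟨e⟩ := fourU_iso F
  obtain ⟨f, hf, p, hp, hpf⟩ := fourU_lift F e ⟨g, hg⟩
  have hv : f⁻¹ * ⟨g, hg⟩ ∈ fourU.V F := by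
    rw [← QuotientGroup.eq_one_iff, ← QuotientGroup.mk'_apply (fourU.V F), map_mul, map_inv, hf, inv_mul_cancel]
  have hle : Subgroup.closure ({FourPerm.im F fourU.v1, FourPerm.im F fourU.v2} : Set G) ≤ B.R := by
    refine (Subgroup.closure_le _).mpr ?_
    rintro _ (rfl | rfl)
    · exact B.at_im fourU.m1 ▸ B.at_mem _
    · exact B.at_im fourU.m2 ▸ B.at_mem _
  have hfR : (f : G) ∈ B.R := by
    rw [← hpf]
    exact B.val_mem (lift6_inBlk hp)
  have := mul_mem hfR (hle (show (f : G)⁻¹ * g ∈ _ from hv))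
  rwa [mul_inv_cancel_left] at this

/-- The centralizer of the four-group on six points. -/
theorem fourR_le {g : G} (hg : g ∈ fourR.K F) : g ∈ B.R := B.norm_z_le (fourR_small F g hg)

/-- Its elements of odd order have order dividing three. -/
theorem fourR_odd {g : G} (hg : g ∈ fourR.K F) {n : ℕ} (hn : Odd n) (hgn : g ^ n = 1) : g ^ 3 = 1 := by
  have hcomm : Commute g (FourPerm.im F z9) := by
    rcases fourR_small F g hg with e | e
    · exact mul_inv_eq_iff_eq_mul.mp e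
    · have h2 : Commute (g * g) (FourPerm.im F z9) := by
        refine mul_inv_eq_iff_eq_mul.mp ?_
        calc g * g * FourPerm.im F z9 * (g * g)⁻¹ = g * (g * FourPerm.im F z9 * g⁻¹) * g⁻¹ := by group
          _ = FourPerm.im F z9 := by rw [e, ← conj_inv, e, inv_inv]
      obtain ⟨m, hm⟩ := hn
      have := h2.pow_left (m + 1)
      rwa [← pow_two, ← pow_mul, show 2 * (m + 1) = 2 * m + 1 + 1 by ring, ← hm, pow_succ, hgn, one_mul] at this
  obtain ⟨k, v, hv, e⟩ := fourR.comm_z F hg hcomm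
  have hv2 : v ^ 2 = 1 := by
    have := fourR.V_sq F (v := ⟨v, fourR.closure_le_K F hv⟩) hv
    rw [pow_two]; exact congrArg Subtype.val this
  have h6 : g ^ 6 = 1 := by
    rw [e, ((fourR.V_comm_z F hv).pow_right _).mul_pow, show (6 : ℕ) = 2 * 3 from rfl, pow_mul, hv2, one_pow, one_mul,
      ← pow_mul, show k.val * (2 * 3) = 3 * (k.val * 2) by ring, pow_mul, FourPerm.im_z_pow, one_pow]
  have hd : orderOf g ∣ 2 * 3 := orderOf_dvd_of_pow_eq_one h6
  have hodd : (orderOf g).Coprime 2 :=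
    Nat.Coprime.coprime_dvd_left (orderOf_dvd_of_pow_eq_one hgn) (Nat.coprime_two_right.mpr hn)
  exact orderOf_dvd_iff_pow_eq_one.mp (hodd.dvd_of_dvd_mul_left hd)

end Big

end CfsgLib.A9Three
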