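import Cfsg.Agent.Lib.A9Three.Frame
import Cfsg.Agent.Lib.A9Local.Normalizer

set_option autoImplicit false
set_option maxRecDepth 8000
set_option synthInstance.maxSize 2000

/-!
The three conjugate copies of the stabilizer of a block.
-/

namespace CfsgLib.A9Three

open CfsgLib.A9Local Equiv Equiv.Perm

universe u

theorem theta_mem_M2_iff : ∀ h : HM, theta h ∈ M2 ↔ act h.g aV = aV ∨ act h.g aV = (2 : ℕ) • aV := by
  intro h
  have h1 : ∀ h : HM, (∀ i : Fin 9, 6 ≤ (theta h i).val ↔ 6 ≤ i.val) ↔ (act h.g aV = aV ∨ act h.g aV = (2 : ℕ) • aV) := by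
    decide +kernel
  rw [mem_M2_iff, ← h1 h]
  exact and_iff_right (theta_even h)

/-- The permutations in the copy of the stabilizer carried by `r`. -/
def InBlk (r : HM) (σ : Perm (Fin 9)) : Prop := (theta r)⁻¹ * σ * theta r ∈ M2

instance (r : HM) (σ : Perm (Fin 9)) : Decidable (InBlk r σ) := inferInstanceAs (Decidable (_ ∈ M2))

theorem InBlk.mul {r : HM} {σ τ : Perm (Fin 9)} (hσ : InBlk r σ) (hτ : InBlk r τ) : InBlk r (σ * τ) := by
  have := mul_mem (show (theta r)⁻¹ * σ * theta r ∈ M2 from hσ) hτ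
  show (theta r)⁻¹ * (σ * τ) * theta r ∈ M2
  rwa [show (theta r)⁻¹ * (σ * τ) * theta r = (theta r)⁻¹ * σ * theta r * ((theta r)⁻¹ * τ * theta r) by group]

theorem InBlk.inv {r : HM} {σ : Perm (Fin 9)} (hσ : InBlk r σ) : InBlk r σ⁻¹ := by
  have := inv_mem (show (theta r)⁻¹ * σ * theta r ∈ M2 from hσ)
  show (theta r)⁻¹ * σ⁻¹ * theta r ∈ M2
  rwa [show (theta r)⁻¹ * σ⁻¹ * theta r = ((theta r)⁻¹ * σ * theta r)⁻¹ by group]

theorem InBlk.one (r : HM) : InBlk r 1 := by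
  show (theta r)⁻¹ * 1 * theta r ∈ M2
  rw [mul_one, inv_mul_cancel]; exact one_mem _

theorem inBlk_one {σ : Perm (Fin 9)} : InBlk 1 σ ↔ σ ∈ M2 := by
  show (theta 1)⁻¹ * σ * theta 1 ∈ M2 ↔ _
  rw [map_one, inv_one, one_mul, mul_one]

variable {G : Type u} [Group G] [Finite G] {L : Loc G} (F : Frame L)

/-- The identification, as a total function. -/
noncomputable def Frame.φ₀ (σ : Perm (Fin 9)) : G :=
  if h : σ ∈ M2 then F.φ ⟨σ, h⟩ else 1

/-- The copy carried by `r`. -/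
noncomputable def Frame.val (r : HM) (σ : Perm (Fin 9)) : G :=
  L.ι r * F.φ₀ ((theta r)⁻¹ * σ * theta r) * (L.ι r)⁻¹

theorem Frame.φ₀_eq {σ : Perm (Fin 9)} (h : σ ∈ M2) : F.φ₀ σ = F.φ ⟨σ, h⟩ := dif_pos h

theorem Frame.val_one_eq {σ : Perm (Fin 9)} (h : σ ∈ M2) : F.val 1 σ = F.φ ⟨σ, h⟩ := by
  rw [Frame.val, map_one L.ι, map_one theta, inv_one, inv_one, one_mul, mul_one, one_mul, mul_one, F.φ₀_eq h]

theorem Frame.φ₀_mul {σ τ : Perm (Fin 9)} (hσ : σ ∈ M2) (hτ : τ ∈ M2) : F.φ₀ (σ * τ) = F.φ₀ σ * F.φ₀ τ := by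
  rw [F.φ₀_eq hσ, F.φ₀_eq hτ, F.φ₀_eq (mul_mem hσ hτ), ← map_mul]
  rfl

theorem Frame.val_mul {r : HM} {σ τ : Perm (Fin 9)} (hσ : InBlk r σ) (hτ : InBlk r τ) :
    F.val r (σ * τ) = F.val r σ * F.val r τ := by
  rw [Frame.val, Frame.val, Frame.val,
    show (theta r)⁻¹ * (σ * τ) * theta r = (theta r)⁻¹ * σ * theta r * ((theta r)⁻¹ * τ * theta r) by group,
    F.φ₀_mul hσ hτ]
  group

theorem Frame.val_one (r : HM) : F.val r 1 = 1 := by
  rw [Frame.val, mul_one, inv_mul_cancel, F.φ₀_eq (one_mem _),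
    show (⟨1, one_mem M2⟩ : M2) = 1 from rfl, map_one, mul_one, mul_inv_cancel]

theorem Frame.val_inv {r : HM} {σ : Perm (Fin 9)} (hσ : InBlk r σ) : F.val r σ⁻¹ = (F.val r σ)⁻¹ := by
  refine eq_inv_of_mul_eq_one_left ?_
  rw [← F.val_mul hσ.inv hσ, inv_mul_cancel, F.val_one]

theorem Frame.val_pow {r : HM} {σ : Perm (Fin 9)} (hσ : InBlk r σ) (n : ℕ) :
    InBlk r (σ ^ n) ∧ F.val r (σ ^ n) = F.val r σ ^ n := by
  induction n with
  | zero => exact ⟨by rw [pow_zero]; exact InBlk.one r, by rw [pow_zero, pow_zero, F.val_one]⟩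
  | succ n ih =>
    obtain ⟨h1, h2⟩ := ih
    exact ⟨by rw [pow_succ]; exact h1.mul hσ, by rw [pow_succ, pow_succ, F.val_mul h1 hσ, h2]⟩

theorem Frame.val_conj {r : HM} {σ τ : Perm (Fin 9)} (hσ : InBlk r σ) (hτ : InBlk r τ) :
    F.val r (σ * τ * σ⁻¹) = F.val r σ * F.val r τ * (F.val r σ)⁻¹ := by
  rw [F.val_mul (hσ.mul hτ) hσ.inv, F.val_mul hσ hτ, F.val_inv hσ]

theorem Frame.val_injective {r : HM} {σ τ : Perm (Fin 9)} (hσ : InBlk r σ) (hτ : InBlk r τ)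
    (h : F.val r σ = F.val r τ) : σ = τ := by
  rw [Frame.val, Frame.val] at h
  have h' := mul_left_cancel (mul_right_cancel h)
  rw [F.φ₀_eq hσ, F.φ₀_eq hτ] at h'
  exact mul_left_cancel (mul_right_cancel (congrArg Subtype.val (F.inj h')))

theorem Frame.val_commute {r : HM} {σ τ : Perm (Fin 9)} (hσ : InBlk r σ) (hτ : InBlk r τ) (h : σ * τ = τ * σ) :
    Commute (F.val r σ) (F.val r τ) := by
  show F.val r σ * F.val r τ = F.val r τ * F.val r σ
  rw [← F.val_mul hσ hτ, ← F.val_mul hτ hσ, h]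

theorem Frame.val_theta {r h : HM} (hh : InBlk r (theta h)) : F.val r (theta h) = L.ι h := by
  have e : theta (r⁻¹ * h * r) = (theta r)⁻¹ * theta h * theta r := by rw [map_mul, map_mul, map_inv]
  have hm : theta (r⁻¹ * h * r) ∈ M2 := e ▸ hh
  rw [Frame.val, ← e, F.φ₀_eq hm, F.agree, map_mul, map_mul, map_inv]
  group

theorem Frame.val_shift (r h : HM) (σ : Perm (Fin 9)) :
    F.val (h * r) (theta h * σ * (theta h)⁻¹) = L.ι h * F.val r σ * (L.ι h)⁻¹ := by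
  rw [Frame.val, Frame.val, map_mul, map_mul, show (theta h * theta r)⁻¹ * (theta h * σ * (theta h)⁻¹) *
    (theta h * theta r) = (theta r)⁻¹ * σ * theta r by group]
  group

theorem InBlk.shift {r h : HM} {σ : Perm (Fin 9)} (hσ : InBlk r σ) : InBlk (h * r) (theta h * σ * (theta h)⁻¹) := by
  show (theta (h * r))⁻¹ * (theta h * σ * (theta h)⁻¹) * theta (h * r) ∈ M2
  rw [map_mul, show (theta h * theta r)⁻¹ * (theta h * σ * (theta h)⁻¹) *
    (theta h * theta r) = (theta r)⁻¹ * σ * theta r by group]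
  exact hσ

/-- Only the block matters. -/
theorem Frame.val_block {r r' : HM} (h : theta (r⁻¹ * r') ∈ M2) {σ : Perm (Fin 9)} (hσ : InBlk r σ) :
    InBlk r' σ ∧ F.val r' σ = F.val r σ := by
  set s := r⁻¹ * r' with hs
  have hr' : r' = r * s := by rw [hs, mul_inv_cancel_left]
  have hσ' : (theta r)⁻¹ * σ * theta r ∈ M2 := hσ
  have e : (theta r')⁻¹ * σ * theta r' = (theta s)⁻¹ * ((theta r)⁻¹ * σ * theta r) * theta s := by
    rw [hr', map_mul]; group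
  have hm : (theta r')⁻¹ * σ * theta r' ∈ M2 := e ▸ mul_mem (mul_mem (inv_mem h) hσ') h
  refine ⟨hm, ?_⟩
  rw [Frame.val, Frame.val, e, F.φ₀_mul (mul_mem (inv_mem h) hσ') h, F.φ₀_mul (inv_mem h) hσ', F.φ₀_eq h,
    F.φ₀_eq hσ', F.φ₀_eq (inv_mem h), show (⟨(theta s)⁻¹, inv_mem h⟩ : M2) = (⟨theta s, h⟩ : M2)⁻¹ from rfl,
    map_inv, F.agree s h, hr', map_mul]
  group

/-- The whole centralizer of a short translation. -/
theorem Frame.exists_val (r : HM) {g : G}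
    (hg : g * L.ι (r * tr aV * r⁻¹) * g⁻¹ = L.ι (r * tr aV * r⁻¹) ∨
      g * L.ι (r * tr aV * r⁻¹) * g⁻¹ = (L.ι (r * tr aV * r⁻¹))⁻¹) :
    ∃ σ, InBlk r σ ∧ F.val r σ = g := by
  rw [map_mul, map_mul, map_inv] at hg
  obtain ⟨σ, hσ⟩ := F.norm ((L.ι r)⁻¹ * g * L.ι r) (by
    rcases hg with hg | hg
    · left
      calc (L.ι r)⁻¹ * g * L.ι r * L.ι (tr aV) * ((L.ι r)⁻¹ * g * L.ι r)⁻¹
          = (L.ι r)⁻¹ * (g * (L.ι r * L.ι (tr aV) * (L.ι r)⁻¹) * g⁻¹) * L.ι r := by group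
        _ = L.ι (tr aV) := by rw [hg]; group
    · right
      calc (L.ι r)⁻¹ * g * L.ι r * L.ι (tr aV) * ((L.ι r)⁻¹ * g * L.ι r)⁻¹
          = (L.ι r)⁻¹ * (g * (L.ι r * L.ι (tr aV) * (L.ι r)⁻¹) * g⁻¹) * L.ι r := by group
        _ = (L.ι (tr aV))⁻¹ := by rw [hg]; group)
  refine ⟨theta r * σ * (theta r)⁻¹, ?_, ?_⟩
  · show (theta r)⁻¹ * (theta r * σ * (theta r)⁻¹) * theta r ∈ M2
    rw [show (theta r)⁻¹ * (theta r * σ * (theta r)⁻¹) * theta r = (σ : Perm (Fin 9)) by group]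
    exact σ.2
  · rw [Frame.val, show (theta r)⁻¹ * (theta r * σ * (theta r)⁻¹) * theta r = (σ : Perm (Fin 9)) by group,
      F.φ₀_eq σ.2, Subtype.coe_eta, hσ]
    group

end CfsgLib.A9Three
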