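import Mathlib
import Cfsg.Agent.Lib.Basic
import Cfsg.Agent.S3341

set_option autoImplicit false

/-!
A group with a self-centralizing Sylow 3-subgroup of order nine, whose normalizer has order dividing 36,
is three-closed or alternating of degree six.
-/

namespace CfsgLib.A9Three

universe u

variable {M : Type u} [Group M] [Finite M]

/-- The local hypotheses. -/
structure SixLocal (W : Sylow 3 M) : Prop where
  card : Nat.card (W : Subgroup M) = 9
  ab : ∀ s ∈ (W : Subgroup M), ∀ t ∈ (W : Subgroup M), s * t = t * s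
  exp : ∀ t ∈ (W : Subgroup M), t ^ 3 = 1
  cent : ∀ w ∈ (W : Subgroup M), w ≠ 1 → ∀ q, q * w = w * q → q ∈ (W : Subgroup M)
  core : ∀ K : Subgroup M, K.Normal → (Nat.card K).Coprime 3 → K = ⊥
  norm : Nat.card (Subgroup.normalizer ((W : Subgroup M) : Set M)) ∣ 36
  moved : ∀ x ∈ (W : Subgroup M), x ≠ 1 →
    ∃ n ∈ Subgroup.normalizer ((W : Subgroup M) : Set M), n * x * n⁻¹ ∉ Subgroup.zpowers x
  fus : ∃ x ∈ (W : Subgroup M), ∃ y ∈ (W : Subgroup M), x ≠ 1 ∧ y ≠ 1 ∧
    ∀ n ∈ Subgroup.normalizer ((W : Subgroup M) : Set M), n * x * n⁻¹ ≠ y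

variable {W : Sylow 3 M} (h : SixLocal W)

include h in
theorem SixLocal.two_gen {K : Subgroup M} {x y : M} (hx : x ∈ (W : Subgroup M)) (hy : y ∈ (W : Subgroup M))
    (hx1 : x ≠ 1) (hxy : y ∉ Subgroup.zpowers x) (hxK : x ∈ K) (hyK : y ∈ K) : (W : Subgroup M) ≤ K := by
  have hle : Subgroup.zpowers x < (W : Subgroup M) ⊓ K :=
    lt_of_le_of_ne (Subgroup.zpowers_le.mpr ⟨hx, hxK⟩) fun e => hxy (e.symm ▸ (show y ∈ (W : Subgroup M) ⊓ K from ⟨hy, hyK⟩))
  haveI : Fact (Nat.Prime 3) := ⟨Nat.prime_three⟩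
  have h3 : Nat.card (Subgroup.zpowers x) = 3 := by
    rw [Nat.card_zpowers]
    exact orderOf_eq_prime (h.exp x hx) hx1
  have hlt : 3 < Nat.card ↥((W : Subgroup M) ⊓ K) := by
    by_contra hc
    exact hle.ne (Subgroup.eq_of_le_of_card_ge hle.le (by rw [h3]; omega))
  have hd : Nat.card ↥((W : Subgroup M) ⊓ K) ∣ 3 ^ 2 := by
    have := Subgroup.card_dvd_of_le (inf_le_left : (W : Subgroup M) ⊓ K ≤ W)
    rwa [h.card] at this
  obtain ⟨i, hi, e⟩ := (Nat.dvd_prime_pow Nat.prime_three).mp hd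
  rw [e] at hlt
  have : i = 2 := by
    interval_cases i <;> simp_all
  subst this
  have := Subgroup.eq_of_le_of_card_ge (inf_le_left : (W : Subgroup M) ⊓ K ≤ W) (by rw [e, h.card]; norm_num)
  exact this ▸ inf_le_right

include h in
/-- A nontrivial normal subgroup contains the Sylow subgroup. -/
theorem SixLocal.le_normal {K : Subgroup M} (hK : K.Normal) (hK1 : K ≠ ⊥) : (W : Subgroup M) ≤ K := by
  haveI := hK
  haveI : Fact (Nat.Prime 3) := ⟨Nat.prime_three⟩
  have h3 : 3 ∣ Nat.card K := by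
    by_contra hn
    exact hK1 (h.core K hK ((Nat.prime_three.coprime_iff_not_dvd).mpr hn).symm)
  obtain ⟨⟨z, hzK⟩, hz⟩ := exists_prime_orderOf_dvd_card' 3 h3
  rw [Subgroup.orderOf_mk] at hz
  obtain ⟨Q, hQ⟩ := (IsPGroup.of_card (p := 3) (n := 1) (G := Subgroup.zpowers z)
    (by rw [Nat.card_zpowers, hz, pow_one])).exists_le_sylow
  obtain ⟨c, hc⟩ := MulAction.exists_smul_eq M Q W
  have hzW : c * z * c⁻¹ ∈ (W : Subgroup M) := by
    rw [← hc, Sylow.coe_subgroup_smul, Subgroup.mem_pointwise_smul_iff_inv_smul_mem]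
    simpa [mul_assoc] using hQ (Subgroup.mem_zpowers z)
  have hz1 : c * z * c⁻¹ ≠ 1 := fun e => by
    rw [conj_eq_one_iff] at e
    rw [e, orderOf_one] at hz
    omega
  obtain ⟨n, hn, hne⟩ := h.moved _ hzW hz1
  exact h.two_gen hzW ((Subgroup.mem_normalizer_iff.mp hn _).mp hzW) hz1 hne (hK.conj_mem _ hzK c)
    (hK.conj_mem _ (hK.conj_mem _ hzK c) n)

include h in
/-- Alternating of degree six, unless three-closed. -/
theorem SixLocal.alt6 (hW : Subgroup.normalizer ((W : Subgroup M) : Set M) ≠ ⊤) :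
    Nonempty (M ≃* alternatingGroup (Fin 6)) := by
  haveI : Fact (Nat.Prime 3) := ⟨Nat.prime_three⟩
  set K : Subgroup M := Subgroup.normalClosure ((W : Subgroup M) : Set M) with hKdef
  have hWK : (W : Subgroup M) ≤ K := Subgroup.le_normalClosure
  have hKn : K.Normal := Subgroup.normalClosure_normal
  let WK : Sylow 3 K := W.subtype hWK
  have hFr : ∀ g : M, ∃ k ∈ K, ∃ n ∈ Subgroup.normalizer ((W : Subgroup M) : Set M), k * n = g := fun g => by
    have := WK.normalizer_sup_eq_top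
    rw [show (WK : Subgroup K).map K.subtype = (W : Subgroup M) from Subgroup.map_subgroupOf_eq_of_le hWK,
      sup_comm] at this
    exact Subgroup.mem_sup_of_normal_left.mp (this ▸ Subgroup.mem_top g)
  -- a subgroup of the closure normalized by it and containing `W` is everything
  have hfull : ∀ T : Subgroup M, (W : Subgroup M) ≤ T → (∀ k ∈ K, ∀ t ∈ T, k * t * k⁻¹ ∈ T) → K ≤ T := by
    intro T hWT hT
    have hc : ∀ g : M, ∀ w ∈ (W : Subgroup M), g * w * g⁻¹ ∈ T := fun g w hw => by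
      obtain ⟨k, hk, n, hn, rfl⟩ := hFr g
      have := hT k hk _ (hWT ((Subgroup.mem_normalizer_iff.mp hn w).mp hw))
      simpa [mul_assoc] using this
    rw [hKdef, Subgroup.normalClosure, Subgroup.closure_le]
    intro x hx
    rw [Group.mem_conjugatesOfSet_iff] at hx
    obtain ⟨w, hw, hwx⟩ := hx
    obtain ⟨g, rfl⟩ := isConj_iff.mp hwx
    exact hc g w hw
  have hK1 : K ≠ ⊥ := fun e => by
    have := h.card
    rw [le_bot_iff.mp (hWK.trans e.le), Subgroup.card_bot] at this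
    omega
  have hWnn : ¬ ∀ k ∈ K, ∀ w ∈ (W : Subgroup M), k * w * k⁻¹ ∈ (W : Subgroup M) := fun hcl => hW <| by
    have e : K = (W : Subgroup M) := le_antisymm (hfull _ le_rfl hcl) hWK
    have : (W : Subgroup M).Normal := e ▸ inferInstance
    exact (Subgroup.normalizer_eq_top_iff).mpr this
  have hcoreK : Cfsg.pPrimeCore 3 K = ⊥ := by
    have h1 := CfsgLib.map_pPrimeCore_le 3 K
    have h2 : Cfsg.pPrimeCore 3 M = ⊥ := h.core _ inferInstance (CfsgLib.card_pPrimeCore_coprime 3)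
    rw [h2, le_bot_iff, Subgroup.map_eq_bot_iff_of_injective _ K.subtype_injective] at h1
    exact h1
  -- every nontrivial subgroup of the closure normalized by it has order divisible by three
  have hmeet : ∀ T : Subgroup M, T ≤ K → (∀ k ∈ K, ∀ t ∈ T, k * t * k⁻¹ ∈ T) → T ≠ ⊥ →
      ∃ z ∈ T, z ∈ (W : Subgroup M) ∧ z ≠ 1 := by
    intro T hTK hT hT1
    haveI : (T.subgroupOf K).Normal := ⟨fun t ht k => hT k k.2 t ht⟩
    have h3 : 3 ∣ Nat.card T := by
      by_contra hn
      have hco : (Nat.card (T.subgroupOf K)).Coprime 3 := by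
        rw [Nat.card_congr (Subgroup.subgroupOfEquivOfLe hTK).toEquiv]
        exact ((Nat.prime_three.coprime_iff_not_dvd).mpr hn).symm
      have := CfsgLib.le_pPrimeCore hco
      rw [hcoreK, le_bot_iff, Subgroup.subgroupOf_eq_bot, disjoint_iff, inf_eq_left.mpr hTK] at this
      exact hT1 this
    obtain ⟨⟨z, hzT⟩, hz⟩ := exists_prime_orderOf_dvd_card' 3 h3
    rw [Subgroup.orderOf_mk] at hz
    obtain ⟨Q, hQ⟩ := (IsPGroup.of_card (p := 3) (n := 1) (G := Subgroup.zpowers (⟨z, hTK hzT⟩ : K))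
      (by rw [Nat.card_zpowers, Subgroup.orderOf_mk, hz, pow_one])).exists_le_sylow
    obtain ⟨c, hc⟩ := MulAction.exists_smul_eq K Q WK
    refine ⟨(c : M) * z * (c : M)⁻¹, hT c c.2 z hzT, ?_, fun e => ?_⟩
    · have hmem : c * ⟨z, hTK hzT⟩ * c⁻¹ ∈ (WK : Subgroup K) := by
        rw [← hc, Sylow.coe_subgroup_smul, Subgroup.mem_pointwise_smul_iff_inv_smul_mem]
        simpa [mul_assoc] using hQ (Subgroup.mem_zpowers (⟨z, hTK hzT⟩ : K))
      exact hmem
    · rw [conj_eq_one_iff] at e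
      rw [e, orderOf_one] at hz
      omega
  haveI hKs : IsSimpleGroup K := by
    haveI : Nontrivial K := (Subgroup.nontrivial_iff_ne_bot K).mpr hK1
    refine ⟨fun S hS => or_iff_not_imp_left.mpr fun hS1 => ?_⟩
    set T : Subgroup M := S.map K.subtype with hTdef
    have hTK : T ≤ K := Subgroup.map_subtype_le S
    have hT : ∀ k ∈ K, ∀ t ∈ T, k * t * k⁻¹ ∈ T := by
      rintro k hk _ ⟨s, hs, rfl⟩
      exact ⟨_, hS.conj_mem s hs ⟨k, hk⟩, rfl⟩
    have hT1 : T ≠ ⊥ := fun e => hS1 ((Subgroup.map_eq_bot_iff_of_injective _ K.subtype_injective).mp e)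
    suffices hWT : (W : Subgroup M) ≤ T by
      rw [eq_top_iff]
      intro k _
      obtain ⟨s, hs, e⟩ := hfull T hWT hT k.2
      rwa [← Subtype.ext (show (s : M) = (k : M) from e)]
    by_contra hWT
    obtain ⟨x, hxT, hxW, hx1⟩ := hmeet T hTK hT hT1
    obtain ⟨n, hn, hne⟩ := h.moved x hxW hx1
    set T' : Subgroup M := T.map (MulAut.conj n).toMonoidHom with hT'def
    have hT'K : T' ≤ K := by
      rintro _ ⟨t, ht, rfl⟩
      exact hKn.conj_mem t (hTK ht) n
    have hT' : ∀ k ∈ K, ∀ t ∈ T', k * t * k⁻¹ ∈ T' := by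
      rintro k hk _ ⟨t, ht, rfl⟩
      refine ⟨(n⁻¹ * k * n) * t * (n⁻¹ * k * n)⁻¹, hT _ ?_ t ht, ?_⟩
      · have := hKn.conj_mem k hk n⁻¹
        simpa using this
      · show n * _ * n⁻¹ = k * (n * t * n⁻¹) * k⁻¹
        group
    have hx' : n * x * n⁻¹ ∈ T' := ⟨x, hxT, rfl⟩
    have hxW' : n * x * n⁻¹ ∈ (W : Subgroup M) := (Subgroup.mem_normalizer_iff.mp hn x).mp hxW
    have hzT : ∀ z ∈ T, z ∈ (W : Subgroup M) → z ∈ Subgroup.zpowers x := fun z hz hzW => by
      by_contra hzx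
      exact hWT (h.two_gen hxW hzW hx1 hzx hxT hz)
    have hTT' : ∀ z ∈ T, z ∈ T' → z = 1 := by
      intro z hz hz'
      by_contra hz1
      obtain ⟨y, ⟨hy, hy'⟩, hyW, hy1⟩ := hmeet (T ⊓ T') (inf_le_left.trans hTK)
        (fun k hk t ht => ⟨hT k hk t ht.1, hT' k hk t ht.2⟩)
        (fun e => hz1 ((Subgroup.eq_bot_iff_forall _).mp e z ⟨hz, hz'⟩))
      have hxy : x ∈ Subgroup.zpowers y := by
        obtain ⟨i, hi⟩ := Subgroup.mem_zpowers_iff.mp (hzT y hy hyW)
        have h3 : orderOf y = 3 := orderOf_eq_prime (h.exp y hyW) hy1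
        have hle : Subgroup.zpowers y ≤ Subgroup.zpowers x := Subgroup.zpowers_le.mpr (hzT y hy hyW)
        rw [Subgroup.eq_of_le_of_card_ge hle (by rw [Nat.card_zpowers, Nat.card_zpowers, h3, orderOf_eq_prime (h.exp x hxW) hx1])]
        exact Subgroup.mem_zpowers x
      have hxT' : x ∈ T' := (Subgroup.zpowers_le.mpr hy') hxy
      have hWT' : (W : Subgroup M) ≤ T' := h.two_gen hxW hxW' hx1 hne hxT' hx'
      have hKT := hfull T' hWT' hT'
      have hKT2 : K ≤ T := fun k hk => by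
        obtain ⟨t, ht, e⟩ := hKT (hKn.conj_mem k hk n)
        rwa [mul_left_cancel (mul_right_cancel (show n * t * n⁻¹ = n * k * n⁻¹ from e))] at ht
      exact hWT (hWK.trans hKT2)
    have hcomm : ∀ t ∈ T, ∀ t' ∈ T', t * t' = t' * t := by
      intro t ht t' ht'
      have h1 : t * t' * t⁻¹ * t'⁻¹ ∈ T := by
        rw [show t * t' * t⁻¹ * t'⁻¹ = t * (t' * t⁻¹ * t'⁻¹) by group]
        exact mul_mem ht (hT t' (hT'K ht') _ (inv_mem ht))
      have h2 : t * t' * t⁻¹ * t'⁻¹ ∈ T' := mul_mem (hT' t (hTK ht) t' ht') (inv_mem ht')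
      calc t * t' = (t * t' * t⁻¹ * t'⁻¹) * (t' * t) := by group
        _ = t' * t := by rw [hTT' _ h1 h2, one_mul]
    have hx1' : n * x * n⁻¹ ≠ 1 := fun e => hx1 (conj_eq_one_iff.mp e)
    have hTW : T ≤ (W : Subgroup M) := fun t ht => h.cent _ hxW' hx1' t (hcomm t ht _ hx')
    have hT'W : T' ≤ (W : Subgroup M) := fun t ht => h.cent _ hxW hx1 t (hcomm x hxT t ht).symm
    refine hWnn fun k hk w hw => ?_
    have hWle : (W : Subgroup M) ≤ T ⊔ T' :=
      h.two_gen hxW hxW' hx1 hne (Subgroup.mem_sup_left hxT) (Subgroup.mem_sup_right hx')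
    have hkinv : T ⊔ T' ≤ (W : Subgroup M).comap (MulAut.conj k).toMonoidHom :=
      sup_le (fun t ht => hTW (hT k hk t ht)) (fun t ht => hT'W (hT' k hk t ht))
    exact hkinv (hWle hw)
  -- the closure is alternating of degree six
  have hWKc : Nat.card (WK : Subgroup K) = 9 := by
    show Nat.card ((W : Subgroup M).subgroupOf K) = 9
    rw [Nat.card_congr (Subgroup.subgroupOfEquivOfLe hWK).toEquiv, h.card]
  have hWKm : ∀ k : K, k ∈ (WK : Subgroup K) ↔ (k : M) ∈ (W : Subgroup M) := fun k => Iff.rfl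
  obtain ⟨x, hx, y, hy, hx1, hy1, hxy⟩ := h.fus
  obtain ⟨e⟩ := Cfsg.Agent.S3341.result WK (WK : Subgroup K) rfl
    ⟨⟨fun a b => Subtype.ext (Subtype.ext (h.ab _ a.2 _ b.2))⟩⟩
    (fun a ha => Subtype.ext (h.exp (a : M) ha)) hWKc
    ⟨⟨x, hWK hx⟩, ⟨y, hWK hy⟩, by rw [Subgroup.orderOf_mk]; exact orderOf_eq_prime (h.exp x hx) hx1,
      by rw [Subgroup.orderOf_mk]; exact orderOf_eq_prime (h.exp y hy) hy1, fun g hg => by
        have hg' : (g : M) * x * (g : M)⁻¹ = y := congrArg Subtype.val hg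
        have hs : ∀ t ∈ (W : Subgroup M), t ∈ Subgroup.centralizer ((W : Subgroup M) : Set M) :=
          fun t ht => Subgroup.mem_centralizer_iff.mpr fun s hs => h.ab s hs t ht
        obtain ⟨m, hm, hme⟩ := W.conj_eq_normalizer_conj_of_mem_centralizer x (g : M)⁻¹ (hs x hx)
          (by rw [inv_inv, hg']; exact hs y hy)
        rw [inv_inv, hg'] at hme
        exact hxy m⁻¹ (inv_mem hm) (by rw [inv_inv]; exact hme.symm)⟩
    (fun s hs hs1 => le_antisymm
      (fun (q : K) (hq : q ∈ Subgroup.centralizer ({s} : Set K)) => h.cent (s : M) hs (fun e => hs1 (Subtype.ext e)) (q : M)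
        (congrArg Subtype.val (Subgroup.mem_centralizer_singleton_iff.mp hq)))
      fun q hq => Subgroup.mem_centralizer_singleton_iff.mpr (Subtype.ext (h.ab _ hq _ hs)))
  -- the normalizer lies in the closure
  have hK360 : Nat.card K = 360 := by
    rw [Nat.card_congr e.toEquiv, nat_card_alternatingGroup, Nat.card_fin]
    rfl
  set N : Subgroup K := Subgroup.normalizer ((WK : Subgroup K) : Set K) with hNdef
  have hNle : N.map K.subtype ≤ Subgroup.normalizer ((W : Subgroup M) : Set M) := by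
    rintro _ ⟨k, hk, rfl⟩
    rw [Subgroup.mem_normalizer_iff]
    intro z
    refine ⟨fun hz => (Subgroup.mem_normalizer_iff.mp hk ⟨z, hWK hz⟩).mp hz, fun hz => ?_⟩
    have hzK : z ∈ K := by
      have := mul_mem (mul_mem (inv_mem k.2) (hWK hz)) k.2
      simpa [mul_assoc] using this
    exact (Subgroup.mem_normalizer_iff.mp hk ⟨z, hzK⟩).mpr hz
  have hNd : Nat.card N ∣ 36 := by
    rw [← Subgroup.card_map_of_injective K.subtype_injective]
    exact (Subgroup.card_dvd_of_le hNle).trans h.norm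
  have h9 : 9 ∣ Nat.card N := hWKc ▸ Subgroup.card_dvd_of_le Subgroup.le_normalizer
  have hmul : Nat.card N * N.index = 360 := by rw [Subgroup.card_mul_index, hK360]
  have hmod : N.index % 3 = 1 := by
    have h1 := card_sylow_modEq_one 3 K
    rw [WK.card_eq_index_normalizer] at h1
    exact h1
  have hN9 : Nat.card N ≠ 9 := by
    intro he
    have heq : (WK : Subgroup K) = N := Subgroup.eq_of_le_of_card_ge Subgroup.le_normalizer (by rw [he, hWKc])
    have hNC : Subgroup.normalizer ((WK : Subgroup K) : Set K) ≤ Subgroup.centralizer ((WK : Subgroup K) : Set K) := by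
      rw [← hNdef, ← heq]
      exact fun a ha => Subgroup.mem_centralizer_iff.mpr fun b hb => Subtype.ext (h.ab _ hb _ ha)
    rcases IsSimpleGroup.eq_bot_or_eq_top_of_normal _ (MonoidHom.normal_ker (MonoidHom.transferSylow WK hNC)) with h0 | h0
    · have := (MonoidHom.ker_transferSylow_isComplement' WK hNC).card_mul
      rw [h0, Subgroup.card_bot, hWKc, hK360] at this
      omega
    · have := (MonoidHom.ker_transferSylow_isComplement' WK hNC).card_mul
      rw [h0, Subgroup.card_top, hWKc] at this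
      have := Nat.card_pos (α := K)
      omega
  obtain ⟨q, hq⟩ := h9
  have hN36 : Nat.card N = 36 := by
    rw [hq] at hNd hmul hN9 ⊢
    have hq4 : q ∣ 4 := Nat.dvd_of_mul_dvd_mul_left (by norm_num : 0 < 9) hNd
    have : q ≤ 4 := Nat.le_of_dvd (by norm_num) hq4
    interval_cases q <;> omega
  have hNM : Subgroup.normalizer ((W : Subgroup M) : Set M) ≤ K := by
    have e36 : N.map K.subtype = Subgroup.normalizer ((W : Subgroup M) : Set M) :=
      Subgroup.eq_of_le_of_card_ge hNle (by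
        rw [Subgroup.card_map_of_injective K.subtype_injective, hN36]
        exact Nat.le_of_dvd (by norm_num) h.norm)
    rw [← e36]
    exact Subgroup.map_subtype_le N
  have hKtop : K = ⊤ := by
    rw [eq_top_iff]
    intro g _
    obtain ⟨k, hk, n, hn, rfl⟩ := hFr g
    exact mul_mem hk (hNM hn)
  exact ⟨(Subgroup.topEquiv.symm.trans (MulEquiv.subgroupCongr hKtop.symm)).trans e⟩

end CfsgLib.A9Three
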