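import Cfsg.Agent.Lib.A9Three.CentB
import Cfsg.Agent.Lib.A9Three.SixType
import Cfsg.Agent.S0074

set_option autoImplicit false
set_option synthInstance.maxSize 2000

/-!
The centralizer of a translation moving one block: the model is the whole group, or that centralizer is
the translation times an alternating group of degree six.
-/

namespace CfsgLib.A9Three

open CfsgLib.A9Local
open scoped commutatorElement

universe u

/-- The vector moving the last block. -/
abbrev aV : Vec := (0, 0, 1)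

/-- Two of the coordinates are nonzero. -/
def two (u : Vec) : Bool :=
  (u.1 != 0 && u.2.1 != 0) || (u.1 != 0 && u.2.2 != 0) || (u.2.1 != 0 && u.2.2 != 0)

theorem two_cases : ∀ u : Vec, two u = true →
    ∃ r : Fin 24, act r (1, 1, 0) = u ∨ act r (1, 1, 1) = u := by decide +kernel

theorem weight_cases : ∀ u : Vec, u ≠ 0 → two u = true ∨ ∃ r : Fin 24, act r aV = u := by decide +kernel

theorem alpha_sylow : ∀ h : HM, h * tr aV = tr aV * h → cube (cube (cube (cube h))) = 1 → h.g = 0 := by decide +kernel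

theorem alpha_shift : ∀ w : Vec, (∀ k : Fin 3, w ≠ k.val • aV) → ∀ j : Fin 3, ∃ k : Fin 3,
    two (w + k.val • aV) = true ∧ two (w + j.val • aV + k.val • aV) = true := by decide +kernel

theorem alpha_good : ∀ h : HM, h * tr aV = tr aV * h → h.g ≠ 0 →
    ∀ w : Vec, (∀ k : Fin 3, w ≠ k.val • aV) → ∀ k : Fin 3, h * tr w * h⁻¹ ≠ tr (w + k.val • aV) := by decide +kernel

theorem alpha_fus : ∀ h : HM, h * tr aV = tr aV * h → ∀ k : Fin 3,
    h * tr (1, 0, 0) * h⁻¹ ≠ tr ((1, 1, 0) + k.val • aV) := by decide +kernel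

theorem alpha_moved : ∀ w : Vec, (∀ k : Fin 3, w ≠ k.val • aV) → ∀ j k : Fin 3,
    act 9 w + k.val • aV ≠ j.val • w := by decide +kernel

/-- The part of the centralizer of a translation which fixes the last block. -/
def DA : Subgroup HM where
  carrier := {h | act h.g aV = aV ∧ h.v.2.2 = 0}
  mul_mem' {a b} ha hb := by
    have h3 : ∀ r : Fin 24, act r aV = aV → ∀ w : Vec, (act r w).2.2 = w.2.2 := by decide +kernel
    refine ⟨?_, ?_⟩
    · show act (rMul a.g b.g) aV = aV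
      rw [act_mul, hb.1, ha.1]
    · show (a.v + act a.g b.v).2.2 = 0
      rw [Prod.snd_add, Prod.snd_add, h3 _ ha.1, ha.2, hb.2, add_zero]
  one_mem' := ⟨act_one aV, rfl⟩
  inv_mem' {a} ha := by
    have h3 : ∀ r : Fin 24, act r aV = aV → act (rInv r) aV = aV ∧ ∀ w : Vec, (-act (rInv r) w).2.2 = -w.2.2 := by
      decide +kernel
    exact ⟨(h3 _ ha.1).1, by show (-act (rInv a.g) a.v).2.2 = 0; rw [(h3 _ ha.1).2, ha.2, neg_zero]⟩

instance : DecidablePred (· ∈ DA) := fun h => decidable_of_iff (act h.g aV = aV ∧ h.v.2.2 = 0) Iff.rfl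

theorem card_DA : Nat.card DA = 36 := by
  rw [Nat.card_eq_fintype_card (α := DA)]
  decide +kernel

theorem alpha_split : ∀ h : HM, h * tr aV = tr aV * h →
    act h.g aV = aV ∧ ∃ k : Fin 3, (h * tr (k.val • aV)).v.2.2 = 0 := by decide +kernel

theorem mem_DA_comm : ∀ h : HM, act h.g aV = aV ∧ h.v.2.2 = 0 → h * tr aV = tr aV * h := by decide +kernel

theorem DA_comm : ∀ r s : Fin 24, act r aV = aV → act s aV = aV → rMul r s = rMul s r := by decide +kernel

theorem mem_DA_iff_mul (h : HM) (k : Fin 3) (hh : h ∈ DA) (he : h = tr (k.val • aV)) : k = 0 := by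
  have h2 := hh.2
  rw [he] at h2
  have : ∀ k : Fin 3, (k.val • aV).2.2 = 0 → k = 0 := by decide +kernel
  exact this k h2

theorem comm_mem_DA (a b : HM) (ha : act a.g aV = aV) (hb : act b.g aV = aV) : ⁅a, b⁆ ∈ DA := by
  have hi : ∀ r : Fin 24, act r aV = aV → act (rInv r) aV = aV := by decide +kernel
  have h3 : ∀ r : Fin 24, act r aV = aV → ∀ w : Vec, (act r w).2.2 = w.2.2 := by decide +kernel
  have hm : ∀ r s : Fin 24, act r aV = aV → act s aV = aV → act (rMul r s) aV = aV := fun r s hr hs => by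
    rw [act_mul, hs, hr]
  rw [commutatorElement_def]
  refine ⟨hm _ _ (hm _ _ (hm _ _ ha hb) (hi _ ha)) (hi _ hb), ?_⟩
  show (a.v + act a.g b.v + act (rMul a.g b.g) (-act (rInv a.g) a.v) +
    act (rMul (rMul a.g b.g) (rInv a.g)) (-act (rInv b.g) b.v)).2.2 = 0
  simp only [Prod.snd_add, h3 _ ha, h3 _ (hm _ _ ha hb), h3 _ (hm _ _ (hm _ _ ha hb) (hi _ ha)), Prod.snd_neg,
    h3 _ (hi _ ha), h3 _ (hi _ hb)]
  abel

variable {G : Type u} [Group G] [Finite G]

namespace Loc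

variable (L : Loc G)

theorem cent_act_le {u : Vec} (r : Fin 24) (h : Subgroup.centralizer ({L.ι (tr u)} : Set G) ≤ L.ι.range) :
    Subgroup.centralizer ({L.ι (tr (act r u))} : Set G) ≤ L.ι.range := by
  intro g hg
  have e : L.ι (tr (act r u)) = L.ι ⟨0, r⟩ * L.ι (tr u) * (L.ι ⟨0, r⟩)⁻¹ := by
    rw [← map_inv, ← map_mul, ← map_mul, conj_transl]
  have hg' : (L.ι ⟨0, r⟩)⁻¹ * g * L.ι ⟨0, r⟩ ∈ Subgroup.centralizer ({L.ι (tr u)} : Set G) := by
    rw [Subgroup.mem_centralizer_singleton_iff]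
    have hc := Subgroup.mem_centralizer_singleton_iff.mp hg
    rw [e] at hc
    calc (L.ι ⟨0, r⟩)⁻¹ * g * L.ι ⟨0, r⟩ * L.ι (tr u)
        = (L.ι ⟨0, r⟩)⁻¹ * (g * (L.ι ⟨0, r⟩ * L.ι (tr u) * (L.ι ⟨0, r⟩)⁻¹)) * L.ι ⟨0, r⟩ := by group
      _ = L.ι (tr u) * ((L.ι ⟨0, r⟩)⁻¹ * g * L.ι ⟨0, r⟩) := by rw [hc]; group
  have := mul_mem (mul_mem (⟨_, rfl⟩ : L.ι ⟨0, r⟩ ∈ L.ι.range) (h hg')) (inv_mem (⟨_, rfl⟩ : L.ι ⟨0, r⟩ ∈ L.ι.range))
  simpa [mul_assoc] using this

theorem cent_two_le {u : Vec} (hu : two u = true) : Subgroup.centralizer ({L.ι (tr u)} : Set G) ≤ L.ι.range := by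
  obtain ⟨r, hr | hr⟩ := two_cases u hu
  · exact hr ▸ L.cent_act_le r L.cent_beta_le
  · refine hr ▸ L.cent_act_le r ?_
    rw [L.cent_xi_eq]
    exact L.P_le

/-- If the centralizer of the short translation is small, the model is the whole group. -/
theorem top_of_cent_alpha (h : L.Cv aV ≤ L.ι.range) : L.ι.range = ⊤ := by
  refine A9Local.range_eq_top L.inj L.norm fun k hk hk1 => ?_
  obtain ⟨u, rfl⟩ := (mem_transl_iff k).mp hk
  rcases weight_cases u (fun e => hk1 (by rw [e]; rfl)) with h2 | ⟨r, hr⟩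
  · exact L.cent_two_le h2
  · exact hr ▸ L.cent_act_le r h

theorem alt6_quot (hne : L.ι.range ≠ ⊤) : Nonempty (L.Cv aV ⧸ L.Zv aV ≃* alternatingGroup (Fin 6)) := by
  have hv0 : aV ≠ 0 := by decide +kernel
  obtain ⟨W, hW9, hWimg, hmem, hnorm⟩ := L.exists_sylow_quot aV alpha_sylow hv0
  have hlift : ∀ n ∈ Subgroup.normalizer ((W : Subgroup (L.Cv aV ⧸ L.Zv aV)) : Set (L.Cv aV ⧸ L.Zv aV)),
      ∃ g : L.Cv aV, L.π aV g = n ∧ ∃ h : HM, L.ι h = g ∧ h * tr aV = tr aV * h := by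
    intro n hn
    obtain ⟨g, hg, h, hh⟩ := hnorm n hn
    refine ⟨g, hg, h, hh, L.inj ?_⟩
    rw [map_mul, map_mul, hh]
    exact Subgroup.mem_centralizer_singleton_iff.mp g.2
  have hnz : ∀ a : Vec, L.img aV a ≠ 1 → ∀ k : Fin 3, a ≠ k.val • aV := fun a ha k e => ha (by
    rw [e]
    unfold img
    refine (QuotientGroup.eq_one_iff _).mpr (Subgroup.mem_zpowers_iff.mpr ⟨(k.val : ℤ), Subtype.ext ?_⟩)
    show (((L.zv aV) ^ (k.val : ℤ) : L.Cv aV) : G) = L.ι (tr (k.val • aV))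
    rw [zpow_natCast, Subgroup.coe_pow, ← tr_pow, map_pow]
    rfl)
  have h9C : L.ι ⟨0, 9⟩ ∈ L.Cv aV := by
    rw [Subgroup.mem_centralizer_singleton_iff, ← map_mul, ← map_mul]
    exact congrArg L.ι (mem_DA_comm _ (show act 9 aV = aV ∧ ((0 : Vec)).2.2 = 0 from ⟨rfl, rfl⟩))
  have h9conj : ∀ a : Vec, L.π aV ⟨_, h9C⟩ * L.img aV a * (L.π aV ⟨_, h9C⟩)⁻¹ = L.img aV (act 9 a) := by
    intro a
    unfold img
    rw [← map_mul, ← map_inv, ← map_mul]
    refine congrArg (L.π aV) (Subtype.ext ?_)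
    show L.ι ⟨0, 9⟩ * L.ι (tr a) * (L.ι ⟨0, 9⟩)⁻¹ = L.ι (tr (act 9 a))
    rw [← map_inv, ← map_mul, ← map_mul, conj_transl]
  have h9W : L.π aV ⟨_, h9C⟩ ∈ Subgroup.normalizer ((W : Subgroup (L.Cv aV ⧸ L.Zv aV)) : Set (L.Cv aV ⧸ L.Zv aV)) := by
    rw [Subgroup.mem_normalizer_iff]
    intro w
    constructor
    · intro hw
      obtain ⟨a, rfl⟩ := hWimg w hw
      rw [h9conj]
      exact hmem _
    · intro hw
      obtain ⟨b, hb⟩ := hWimg _ hw
      obtain ⟨a, rfl⟩ := (by decide +kernel : ∀ b : Vec, ∃ a, act 9 a = b) b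
      rw [← h9conj, mul_left_inj, mul_right_inj] at hb
      rw [hb]
      exact hmem a
  refine SixLocal.alt6 (W := W) ⟨hW9, ?_, ?_, ?_, ?_, ?_, ?_, ?_⟩ ?_
  · intro s hs t ht
    obtain ⟨a, rfl⟩ := hWimg s hs
    obtain ⟨b, rfl⟩ := hWimg t ht
    rw [L.img_mul, L.img_mul, add_comm]
  · intro t ht
    obtain ⟨a, rfl⟩ := hWimg t ht
    unfold img
    rw [← map_pow, ← map_one (L.π aV)]
    exact congrArg (L.π aV) (Subtype.ext (L.tr_pow_three a))
  · intro w hw hw1 q hq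
    obtain ⟨a, rfl⟩ := hWimg w hw
    obtain ⟨g, rfl⟩ := QuotientGroup.mk'_surjective _ q
    obtain ⟨j, hj⟩ := L.lift_conj aV (mul_inv_eq_iff_eq_mul.mpr hq)
    obtain ⟨k, hk, -⟩ := alpha_shift a (hnz a hw1) j
    have hgv : (g : G) * L.ι (tr aV) * (g : G)⁻¹ = L.ι (tr aV) :=
      mul_inv_eq_iff_eq_mul.mpr (Subgroup.mem_centralizer_singleton_iff.mp g.2)
    have hgr : (g : G) ∈ L.ι.range := by
      refine L.mem_range_of_source (L.cent_two_le hk) (k := a + k.val • aV) (k' := a + j.val • aV + k.val • aV) ?_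
      rw [← tr_mul a, ← tr_mul (a + j.val • aV), map_mul, map_mul, ← tr_pow, map_pow, ← hj]
      calc (g : G) * (L.ι (tr a) * L.ι (tr aV) ^ k.val) * (g : G)⁻¹
          = ((g : G) * L.ι (tr a) * (g : G)⁻¹) * ((g : G) * L.ι (tr aV) * (g : G)⁻¹) ^ k.val := by
            rw [conj_pow]; group
        _ = _ := by rw [hgv]
    obtain ⟨h, hh⟩ := hgr
    have hc : h * tr aV = tr aV * h := L.inj (by
      rw [map_mul, map_mul, hh]; exact Subgroup.mem_centralizer_singleton_iff.mp g.2)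
    by_cases hg0 : h.g = 0
    · obtain ⟨b, rfl⟩ := (mem_transl_iff h).mp hg0
      convert hmem b using 1
      exact congrArg (L.π aV) (Subtype.ext hh.symm)
    · exact absurd (L.inj (by rw [map_mul, map_mul, map_inv, hh, hj])) (alpha_good h hc hg0 a (hnz a hw1) j)
  · exact fun K hK hco =>
      quotient_core (L.cores (tr aV) (by decide +kernel) (by decide +kernel)) (L.Zv aV) (L.Zv_center aV)
        (L.card_Zv aV hv0) K hK hco
  · let f : DA →* L.Cv aV ⧸ L.Zv aV :=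
      (L.π aV).comp ((L.ι.comp DA.subtype).codRestrict (L.Cv aV) fun h => by
        show L.ι h ∈ L.Cv aV
        rw [Subgroup.mem_centralizer_singleton_iff, ← map_mul, ← map_mul, mem_DA_comm _ h.2])
    refine (Subgroup.card_dvd_of_le (fun n hn => ?_ : _ ≤ f.range)).trans ((Subgroup.card_range_dvd f).trans card_DA.dvd)
    obtain ⟨g, rfl, h, hh, hc⟩ := hlift n hn
    obtain ⟨hr, k, hk⟩ := alpha_split h hc
    have hD : h * tr (k.val • aV) ∈ DA :=
      ⟨by show act (rMul h.g 0) aV = aV; rw [(rMul_one h.g).2]; exact hr, hk⟩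
    refine ⟨⟨_, hD⟩, ?_⟩
    show L.π aV _ = L.π aV g
    rw [QuotientGroup.mk'_eq_mk']
    refine ⟨((L.zv aV) ^ k.val)⁻¹, inv_mem (Subgroup.pow_mem _ (Subgroup.mem_zpowers _) _), Subtype.ext ?_⟩
    show L.ι (h * tr (k.val • aV)) * (((L.zv aV) ^ k.val : L.Cv aV) : G)⁻¹ = (g : G)
    rw [Subgroup.coe_pow, map_mul, ← tr_pow, map_pow, show ((L.zv aV : L.Cv aV) : G) = L.ι (tr aV) from rfl,
      mul_inv_cancel_right, hh]
  · intro w hw hw1
    obtain ⟨a, rfl⟩ := hWimg w hw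
    refine ⟨_, h9W, fun hz => ?_⟩
    rw [h9conj, ← mem_powers_iff_mem_zpowers] at hz
    obtain ⟨j, hj⟩ := hz
    have hpow : ∀ i : ℕ, L.img aV a ^ i = L.img aV (i • a) := fun i => by
      unfold img
      rw [← map_pow]
      refine congrArg (L.π aV) (Subtype.ext ?_)
      show L.ι (tr a) ^ i = _
      rw [← map_pow, tr_pow]
    have hj' : L.img aV a ^ j = L.img aV (act 9 a) := hj
    rw [hpow, smul_mod] at hj'
    obtain ⟨k, hk⟩ := L.img_eq_one aV (w := (j % 3) • a + -act 9 a) (by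
      rw [← L.img_mul, hj', ← L.img_inv, mul_inv_cancel])
    refine alpha_moved a (hnz a hw1) ⟨j % 3, Nat.mod_lt _ (by norm_num)⟩ k ?_
    show act 9 a + k.val • aV = (j % 3) • a
    rw [← hk]
    abel
  · have hne1 : ∀ u : Vec, (∀ k : Fin 3, u ≠ k.val • aV) → L.img aV u ≠ 1 := fun u hu e => by
      obtain ⟨k, hk⟩ := L.img_eq_one aV e
      exact hu k hk
    refine ⟨_, hmem (1, 0, 0), _, hmem (1, 1, 0), hne1 _ (by decide +kernel), hne1 _ (by decide +kernel),
      fun n hn e => ?_⟩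
    obtain ⟨g, rfl, h, hh, hc⟩ := hlift n hn
    obtain ⟨k, hk⟩ := L.lift_conj aV e
    exact alpha_fus h hc k (L.inj (by rw [map_mul, map_mul, map_inv, hh, hk]))
  · intro htop
    refine hne (L.top_of_cent_alpha fun x hx => ?_)
    obtain ⟨g, hg, h, hh, -⟩ := hlift (L.π aV ⟨x, hx⟩) (htop ▸ Subgroup.mem_top _)
    have : ((⟨x, hx⟩ : L.Cv aV)⁻¹ * g) ∈ L.Zv aV := by
      rw [← QuotientGroup.eq]
      exact hg.symm
    obtain ⟨k, hk⟩ := mem_powers_iff_mem_zpowers.mpr this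
    have hk' : L.ι (tr aV) ^ k = x⁻¹ * (g : G) := congrArg Subtype.val hk
    rw [show x = (g : G) * (L.ι (tr aV) ^ k)⁻¹ by rw [hk']; group, ← hh]
    exact mul_mem (MonoidHom.mem_range.mpr ⟨h, rfl⟩)
      (inv_mem (Subgroup.pow_mem _ (MonoidHom.mem_range.mpr ⟨tr aV, rfl⟩) k))

/-- The alternating group of degree six centralizing the short translation. -/
structure Six where
  /-- the embedding -/
  φ : alternatingGroup (Fin 6) →* G
  inj : Function.Injective φ
  comm : ∀ p, φ p * L.ι (tr aV) = L.ι (tr aV) * φ p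
  split : ∀ g : G, g * L.ι (tr aV) = L.ι (tr aV) * g → ∃ p, ∃ k : Fin 3, g = φ p * L.ι (tr (k.val • aV))
  disj : ∀ p, ∀ k : Fin 3, φ p = L.ι (tr (k.val • aV)) → k = 0 ∧ p = 1
  local_le : DA.map L.ι ≤ φ.range

theorem exists_six (hne : L.ι.range ≠ ⊤) : Nonempty L.Six := by
  obtain ⟨e⟩ := L.alt6_quot hne
  set C := L.Cv aV with hCdef
  obtain ⟨S, hS⟩ : ∃ S : Sylow 3 C, (S : Subgroup C) = L.J.subgroupOf C := L.exists_sylow aV alpha_sylow
  have hab : IsMulCommutative (S : Subgroup C) := by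
    rw [hS]
    exact ⟨⟨fun a b => Subtype.ext (Subtype.ext (L.J_comm _ a.2 _ b.2))⟩⟩
  -- the commutator subgroup avoids the translation
  have hdisj : ∀ z ∈ commutator C, z ∈ L.Zv aV → z = 1 := by
    intro z hz hzZ
    have hzS : z ∈ (S : Subgroup C) := by
      rw [hS]
      exact (Subgroup.zpowers_le.mpr (show L.zv aV ∈ L.J.subgroupOf C from ⟨tr aV, rfl, rfl⟩)) hzZ
    have hz2 : z ∈ ⁅Subgroup.normalizer ((S : Subgroup C) : Set C), Subgroup.normalizer ((S : Subgroup C) : Set C)⁆ ⊓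
        (S : Subgroup C) := by
      rw [← (by haveI : Fact (Nat.Prime 3) := ⟨Nat.prime_three⟩; exact Cfsg.Agent.S0074.result S hab :
        commutator C ⊓ (S : Subgroup C) = ⁅Subgroup.normalizer ((S : Subgroup C) : Set C), Subgroup.normalizer ((S : Subgroup C) : Set C)⁆ ⊓
          (S : Subgroup C))]
      exact ⟨hz, hzS⟩
    set N := Subgroup.normalizer ((S : Subgroup C) : Set C) with hN
    have hNr : ∀ n ∈ N, ∃ h : HM, L.ι h = (n : G) ∧ h * tr aV = tr aV * h := by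
      intro n hn
      have hnJ : (n : G) ∈ Subgroup.normalizer (L.J : Set G) := by
        rw [Subgroup.mem_normalizer_iff]
        intro x
        rw [hN, hS] at hn
        refine ⟨fun hx => (Subgroup.mem_normalizer_iff.mp hn ⟨x, L.J_le_Cv aV hx⟩).mp hx, fun hx => ?_⟩
        have hxC : x ∈ C := by
          have := mul_mem (mul_mem (inv_mem n.2) (L.J_le_Cv aV hx)) n.2
          simpa [mul_assoc] using this
        exact (Subgroup.mem_normalizer_iff.mp hn ⟨x, hxC⟩).mpr hx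
      rw [L.norm] at hnJ
      obtain ⟨h, hh⟩ := hnJ
      refine ⟨h, hh, L.inj ?_⟩
      rw [map_mul, map_mul, hh]
      exact Subgroup.mem_centralizer_singleton_iff.mp n.2
    have hzD : (z : G) ∈ DA.map L.ι := by
      have hle : ⁅N, N⁆ ≤ (DA.map L.ι).comap C.subtype := by
        rw [Subgroup.commutator_le]
        intro x hx y hy
        obtain ⟨a, ha, hac⟩ := hNr x hx
        obtain ⟨b, hb, hbc⟩ := hNr y hy
        refine ⟨⁅a, b⁆, ?_, by rw [map_commutatorElement, ha, hb]; rfl⟩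
        obtain ⟨hra, -⟩ := alpha_split a hac
        obtain ⟨hrb, -⟩ := alpha_split b hbc
        exact comm_mem_DA a b hra hrb
      exact hle hz2.1
    obtain ⟨h, hh, hhz⟩ := hzD
    obtain ⟨k, hk⟩ := mem_powers_iff_mem_zpowers.mpr hzZ
    have hk' : L.ι (tr aV) ^ k = (z : G) := congrArg Subtype.val hk
    rw [← hhz, ← map_pow, tr_pow, smul_mod] at hk'
    have := mem_DA_iff_mul h ⟨k % 3, Nat.mod_lt _ (by norm_num)⟩ hh (L.inj hk').symm
    refine Subtype.ext ?_
    show (z : G) = 1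
    rw [← hhz, ← hk', show k % 3 = 0 from congrArg Fin.val this, zero_smul]
    exact map_one L.ι
  set π := L.π aV with hπ
  let f : ↥(commutator C) →* C ⧸ L.Zv aV := π.comp (commutator C).subtype
  have hfinj : Function.Injective f := by
    rw [injective_iff_map_eq_one]
    intro x hx
    exact Subtype.ext (hdisj x x.2 ((QuotientGroup.eq_one_iff (x : C)).mp hx))
  have hfsurj : Function.Surjective f := by
    have htop : (commutator C).map π = ⊤ := by
      rw [commutator_def, Subgroup.map_commutator, Subgroup.map_top_of_surjective _ (QuotientGroup.mk'_surjective _)]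
      apply Subgroup.map_injective (f := e.toMonoidHom) e.injective
      rw [Subgroup.map_commutator, Subgroup.map_top_of_surjective e.toMonoidHom e.surjective, ← commutator_def,
        commutator_alternatingGroup_eq_top (by simp)]
    intro y
    obtain ⟨x, hx, hxy⟩ := htop.symm ▸ Subgroup.mem_top y
    exact ⟨⟨x, hx⟩, hxy⟩
  let E : ↥(commutator C) ≃* alternatingGroup (Fin 6) := (MulEquiv.ofBijective f ⟨hfinj, hfsurj⟩).trans e
  let φ : alternatingGroup (Fin 6) →* G := C.subtype.comp ((commutator C).subtype.comp E.symm.toMonoidHom)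
  have hrange : ∀ g : C, g ∈ commutator C → (g : G) ∈ φ.range := fun g hg =>
    ⟨E ⟨g, hg⟩, by show ((E.symm (E ⟨g, hg⟩) : ↥(commutator C)) : C).1 = _; rw [E.symm_apply_apply]⟩
  have hinj : Function.Injective φ :=
    C.subtype_injective.comp ((commutator C).subtype_injective.comp E.symm.injective)
  have hdis : ∀ p, ∀ k : Fin 3, φ p = L.ι (tr (k.val • aV)) → k = 0 ∧ p = 1 := by
    intro p k hp
    have hz : ((E.symm p : ↥(commutator C)) : C) ∈ L.Zv aV := by
      refine Subgroup.mem_zpowers_iff.mpr ⟨(k.val : ℤ), Subtype.ext ?_⟩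
      rw [zpow_natCast, Subgroup.coe_pow, show ((L.zv aV : C) : G) = L.ι (tr aV) from rfl, ← map_pow, tr_pow]
      exact hp.symm
    have h1 : φ p = 1 := congrArg Subtype.val (hdisj _ (E.symm p).2 hz)
    refine ⟨?_, hinj (by rw [h1, map_one])⟩
    rw [h1, ← map_one L.ι] at hp
    exact (by decide +kernel : ∀ k : Fin 3, (1 : HM) = tr (k.val • aV) → k = 0) k (L.inj hp)
  have hsplit : ∀ g : G, g * L.ι (tr aV) = L.ι (tr aV) * g → ∃ p, ∃ k : Fin 3, g = φ p * L.ι (tr (k.val • aV)) := by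
    intro g hg
    obtain ⟨x, hx⟩ := hfsurj (π ⟨g, Subgroup.mem_centralizer_singleton_iff.mpr hg⟩)
    have := QuotientGroup.eq.mp hx
    obtain ⟨k, hk⟩ := mem_powers_iff_mem_zpowers.mpr this
    have hk' : L.ι (tr aV) ^ k = ((x : C) : G)⁻¹ * g := congrArg Subtype.val hk
    refine ⟨E x, ⟨k % 3, Nat.mod_lt _ (by norm_num)⟩, ?_⟩
    show g = ((E.symm (E x) : ↥(commutator C)) : C).1 * L.ι (tr ((k % 3) • aV))
    rw [E.symm_apply_apply, ← smul_mod, ← tr_pow, map_pow, hk', mul_inv_cancel_left]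
  refine ⟨⟨φ, hinj, fun p => Subgroup.mem_centralizer_singleton_iff.mp ((E.symm p : ↥(commutator C)) : C).2, hsplit,
    hdis, ?_⟩⟩
  rintro _ ⟨h, hh, rfl⟩
  have hC : ∀ h : HM, h ∈ DA → L.ι h ∈ C := fun h hh => by
    rw [Subgroup.mem_centralizer_singleton_iff, ← map_mul, ← map_mul, mem_DA_comm h hh]
  have hT : ∀ u : Vec, tr u ∈ DA → L.ι (tr u) ∈ φ.range := by
    intro u hu
    have h3 : (⟨0, 3⟩ : HM) ∈ DA := ⟨rfl, rfl⟩
    have e3 : ∀ u : Vec, u.2.2 = 0 → ⁅(⟨0, 3⟩ : HM), tr u⁆ = tr u := by decide +kernel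
    have := hrange ⁅(⟨_, hC _ h3⟩ : C), ⟨_, hC _ hu⟩⁆ (Subgroup.commutator_mem_commutator (Subgroup.mem_top _) (Subgroup.mem_top _))
    rwa [show ((⁅(⟨_, hC _ h3⟩ : C), ⟨_, hC _ hu⟩⁆ : C) : G) = L.ι ⁅(⟨0, 3⟩ : HM), tr u⁆ from
      (map_commutatorElement (f := L.ι) _ _).symm, e3 u hu.2] at this
  have hR : ∀ r : Fin 24, (⟨0, r⟩ : HM) ∈ DA → L.ι ⟨0, r⟩ ∈ φ.range := by
    intro r hr
    obtain ⟨p, k, hp⟩ := hsplit _ (Subgroup.mem_centralizer_singleton_iff.mp (hC _ hr))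
    have h4 : ∀ r : Fin 24, act r aV = aV → fourth ⟨0, r⟩ = 1 := by decide +kernel
    have hp4 : φ (p ^ 4) = L.ι (tr ((4 * (3 - k.val)) • aV)) := by
      have hc : Commute (φ p) (L.ι (tr (k.val • aV))) := by
        have : L.ι (tr (k.val • aV)) = L.ι (tr aV) ^ k.val := by rw [← map_pow, tr_pow]
        rw [this]
        exact (show Commute (φ p) (L.ι (tr aV)) from
          Subgroup.mem_centralizer_singleton_iff.mp ((E.symm p : ↥(commutator C)) : C).2).pow_right _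
      have e1 := congrArg (fun x => x ^ 4) hp
      simp only [hc.mul_pow, ← map_pow, ← fourth_eq, h4 r hr.1, map_one] at e1
      have e2 := eq_inv_of_mul_eq_one_left e1.symm
      rw [e2, ← map_inv, fourth_eq]
      exact congrArg L.ι ((by decide +kernel : ∀ k : Fin 3, (tr (k.val • aV) ^ 4)⁻¹ = tr ((4 * (3 - k.val)) • aV)) k)
    rw [smul_mod] at hp4
    obtain ⟨hk0, -⟩ := hdis (p ^ 4) ⟨(4 * (3 - k.val)) % 3, Nat.mod_lt _ (by norm_num)⟩ hp4
    have hk : k = 0 := (by decide +kernel : ∀ k : Fin 3, (4 * (3 - k.val)) % 3 = 0 → k = 0) k (Fin.mk_eq_mk.mp hk0)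
    subst hk
    exact ⟨p, by rw [hp]; show φ p = φ p * L.ι (tr ((0 : ℕ) • aV)); rw [zero_smul, show tr 0 = (1 : HM) from rfl, map_one, mul_one]⟩
  rw [split_eq h, map_mul]
  exact mul_mem (hT h.v ⟨act_one aV, hh.2⟩) (hR h.g ⟨hh.1, rfl⟩)

end Loc

end CfsgLib.A9Three
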