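import Cfsg.Agent.Lib.A9Three.Centre
import Cfsg.Agent.Lib.InvertedNine.Main

set_option autoImplicit false
set_option synthInstance.maxSize 2000

/-!
The centralizer of a translation moving two blocks normalizes the translations.
-/

namespace CfsgLib.A9Three

open CfsgLib.A9Local

universe u

theorem beta_sylow : ∀ h : HM, h * betaH = betaH * h → cube (cube (cube (cube h))) = 1 → h.g = 0 := by decide +kernel

theorem beta_norm : ∀ h : HM, h * betaH = betaH * h →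
    h.g = 0 ∨ ∀ w : Vec, ∃ k : Fin 3, h * tr w * h⁻¹ = tr (-w + k.val • (1, 1, 0)) := by decide +kernel

theorem beta_good : ∀ h : HM, h * betaH = betaH * h → ∀ w : Vec, w ∈ [((0, 0, 1) : Vec), (1, 0, 1), (1, 0, 2)] →
    (∃ k : Fin 3, h * tr w * h⁻¹ = tr (w + k.val • (1, 1, 0))) → h.g = 0 := by decide +kernel

theorem beta_shift : ∀ w : Vec, w ∈ [((0, 0, 1) : Vec), (1, 0, 1), (1, 0, 2)] →
    (w + (1, 1, 0)).1 ≠ 0 ∧ (w + (1, 1, 0)).2.1 ≠ 0 ∧ (w + (1, 1, 0)).2.2 ≠ 0 := by decide +kernel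

/-- The vector moving two blocks. -/
abbrev bV : Vec := (1, 1, 0)

variable {G : Type u} [Group G] [Finite G]

namespace Loc

variable (L : Loc G)

theorem cent_beta_le : Subgroup.centralizer ({L.ι betaH} : Set G) ≤ L.ι.range := by
  have hv0 : bV ≠ 0 := by decide +kernel
  obtain ⟨W, hW9, hWimg, hmem, hnorm⟩ := L.exists_sylow_quot bV beta_sylow hv0
  have hab : ∀ s ∈ (W : Subgroup (L.Cv bV ⧸ L.Zv bV)), ∀ t ∈ (W : Subgroup (L.Cv bV ⧸ L.Zv bV)), s * t = t * s := by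
    intro s hs t ht
    obtain ⟨a, rfl⟩ := hWimg s hs
    obtain ⟨b, rfl⟩ := hWimg t ht
    rw [L.img_mul, L.img_mul, add_comm]
  have hexp : ∀ t ∈ (W : Subgroup (L.Cv bV ⧸ L.Zv bV)), t ^ 3 = 1 := by
    intro t ht
    obtain ⟨a, rfl⟩ := hWimg t ht
    unfold img
    rw [← map_pow, ← map_one (L.π bV)]
    exact congrArg (L.π bV) (Subtype.ext (L.tr_pow_three a))
  -- the effect of an element of the model on the quotient
  have hact : ∀ (g : L.Cv bV) (h : HM), L.ι h = g → ∀ w : Vec, ∀ w' : Vec,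
      (∃ k : Fin 3, h * tr w * h⁻¹ = tr (w' + k.val • bV)) → L.π bV g * L.img bV w * (L.π bV g)⁻¹ = L.img bV w' := by
    rintro g h hg w w' ⟨k, hk⟩
    unfold img
    rw [← map_mul, ← map_inv, ← map_mul, eq_comm, QuotientGroup.mk'_apply, QuotientGroup.mk'_apply, QuotientGroup.eq]
    refine Subgroup.mem_zpowers_iff.mpr ⟨(k.val : ℤ), Subtype.ext ?_⟩
    show (((L.zv bV) ^ (k.val : ℤ) : L.Cv bV) : G) = (L.ι (tr w'))⁻¹ * ((g : G) * L.ι (tr w) * (g : G)⁻¹)
    rw [zpow_natCast, Subgroup.coe_pow, ← hg, ← map_mul, ← map_inv L.ι h, ← map_mul, hk, ← tr_mul, map_mul, inv_mul_cancel_left, ← tr_pow, map_pow]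
    rfl
  have hj : (⟨0, 8⟩ : HM) * betaH = betaH * ⟨0, 8⟩ := by decide +kernel
  have hjC : L.ι ⟨0, 8⟩ ∈ L.Cv bV := by
    rw [Subgroup.mem_centralizer_singleton_iff, ← map_mul, ← map_mul]
    exact congrArg L.ι hj
  have hjinv : ∀ w ∈ (W : Subgroup (L.Cv bV ⧸ L.Zv bV)), L.π bV ⟨_, hjC⟩ * w * (L.π bV ⟨_, hjC⟩)⁻¹ = w⁻¹ := by
    intro w hw
    obtain ⟨a, rfl⟩ := hWimg w hw
    rw [L.img_inv]
    exact hact _ _ rfl a (-a) (((beta_norm _ hj).resolve_left (by decide)) a)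
  have hjW : L.π bV ⟨_, hjC⟩ ∈ Subgroup.normalizer ((W : Subgroup (L.Cv bV ⧸ L.Zv bV)) : Set (L.Cv bV ⧸ L.Zv bV)) := by
    rw [Subgroup.mem_normalizer_iff]
    intro w
    refine ⟨fun hw => by rw [hjinv w hw]; exact inv_mem hw, fun hw => ?_⟩
    have h2 := hjinv _ hw
    have hw2 : L.π bV ⟨_, hjC⟩ * (L.π bV ⟨_, hjC⟩ * w * (L.π bV ⟨_, hjC⟩)⁻¹) * (L.π bV ⟨_, hjC⟩)⁻¹ = w := by
      have hsq : L.π bV ⟨_, hjC⟩ * L.π bV ⟨_, hjC⟩ = 1 := by
        rw [← map_mul, ← map_one (L.π bV)]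
        refine congrArg (L.π bV) (Subtype.ext ?_)
        show L.ι ⟨0, 8⟩ * L.ι ⟨0, 8⟩ = 1
        rw [← map_mul, show (⟨0, 8⟩ : HM) * ⟨0, 8⟩ = 1 by decide +kernel, map_one]
      have hinv : (L.π bV ⟨_, hjC⟩)⁻¹ = L.π bV ⟨_, hjC⟩ := inv_eq_of_mul_eq_one_right hsq
      rw [hinv]
      calc L.π bV ⟨_, hjC⟩ * (L.π bV ⟨_, hjC⟩ * w * L.π bV ⟨_, hjC⟩) * L.π bV ⟨_, hjC⟩
          = (L.π bV ⟨_, hjC⟩ * L.π bV ⟨_, hjC⟩) * w * (L.π bV ⟨_, hjC⟩ * L.π bV ⟨_, hjC⟩) := by group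
        _ = w := by rw [hsq, one_mul, mul_one]
    rw [← hw2, h2]
    exact inv_mem hw
  -- elements with small centralizer in the quotient
  have hgood : ∀ w : Vec, w ∈ [((0, 0, 1) : Vec), (1, 0, 1), (1, 0, 2)] →
      ∀ q, q * L.img bV w = L.img bV w * q → q ∈ (W : Subgroup (L.Cv bV ⧸ L.Zv bV)) := by
    intro w hw q hq
    obtain ⟨g, rfl⟩ := QuotientGroup.mk'_surjective _ q
    obtain ⟨k, hk⟩ := L.lift_conj bV (mul_inv_eq_iff_eq_mul.mpr hq)
    have hgv : (g : G) * L.ι (tr bV) * (g : G)⁻¹ = L.ι (tr bV) :=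
      mul_inv_eq_iff_eq_mul.mpr (Subgroup.mem_centralizer_singleton_iff.mp g.2)
    obtain ⟨h1, h2, h3⟩ := beta_shift w hw
    have hgr : (g : G) ∈ L.ι.range := by
      refine L.mem_range_of_source (L.cent_weight_three (w + bV) h1 h2 h3) (k := w + bV) (k' := w + k.val • bV + bV) ?_
      rw [← tr_mul w bV, ← tr_mul (w + k.val • bV) bV, map_mul, map_mul, ← hk]
      conv_rhs => arg 2; rw [← hgv]
      group
    obtain ⟨h, hh⟩ := hgr
    have hc : h * betaH = betaH * h := L.inj (by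
      rw [map_mul, map_mul, hh]; exact Subgroup.mem_centralizer_singleton_iff.mp g.2)
    have hg0 := beta_good h hc w hw ⟨k, L.inj (by rw [map_mul, map_mul, map_inv, hh, hk])⟩
    obtain ⟨a, rfl⟩ := (mem_transl_iff h).mp hg0
    convert hmem a using 1
    exact congrArg (L.π bV) (Subtype.ext hh.symm)
  have hne : ∀ a : Vec, (∀ k : Fin 3, a ≠ k.val • bV) → L.img bV a ≠ 1 := fun a ha e => by
    obtain ⟨k, hk⟩ := L.img_eq_one bV e
    exact ha k hk
  let D : CfsgLib.InvertedNine.Data (L.Cv bV ⧸ L.Zv bV) :=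
    { W := W
      card := hW9
      ab := hab
      exp := hexp
      inv := ⟨_, hjW, hjinv⟩
      norm := by
        intro n hn
        obtain ⟨g, rfl, h, hh⟩ := hnorm n hn
        have hc : h * betaH = betaH * h := L.inj (by
          rw [map_mul, map_mul, hh]; exact Subgroup.mem_centralizer_singleton_iff.mp g.2)
        rcases beta_norm h hc with h0 | h0
        · obtain ⟨a, rfl⟩ := (mem_transl_iff h).mp h0
          left
          convert hmem a using 1
          exact congrArg (L.π bV) (Subtype.ext hh.symm)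
        · right
          intro w hw
          obtain ⟨a, rfl⟩ := hWimg w hw
          rw [L.img_inv]
          exact hact g h hh a (-a) (h0 a)
      x := L.img bV (0, 0, 1)
      y := L.img bV (1, 0, 1)
      hx := hmem _
      hy := hmem _
      hx1 := hne _ (by decide +kernel)
      hy1 := hne _ (by decide +kernel)
      hyx := fun e => hne ((1, 0, 1) + -(0, 0, 1)) (by decide +kernel)
        (by rw [← L.img_mul, e, ← L.img_inv, mul_inv_cancel])
      hyx2 := fun e => hne ((1, 0, 1) + (0, 0, 1)) (by decide +kernel)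
        (by rw [← L.img_mul, e, inv_mul_cancel])
      goodx := hgood _ (by simp)
      goody := hgood _ (by simp)
      goodxy := by
        rw [L.img_mul, show ((0, 0, 1) : Vec) + (1, 0, 1) = (1, 0, 2) by decide +kernel]
        exact hgood _ (by simp) }
  have htop := D.normalizer_eq_top fun K hK hco =>
    quotient_core (L.cores (tr bV) (by decide +kernel) (by decide +kernel)) (L.Zv bV) (L.Zv_center bV)
      (L.card_Zv bV hv0) K hK hco
  intro x hx
  obtain ⟨g, hg, hgr⟩ := hnorm (L.π bV ⟨x, hx⟩) (htop ▸ Subgroup.mem_top _)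
  have : ((⟨x, hx⟩ : L.Cv bV)⁻¹ * g) ∈ L.Zv bV := by
    rw [← QuotientGroup.eq]
    exact hg.symm
  obtain ⟨k, hk⟩ := mem_powers_iff_mem_zpowers.mpr this
  have hk' : L.ι (tr bV) ^ k = x⁻¹ * (g : G) := congrArg Subtype.val hk
  have e : x = (g : G) * (L.ι (tr bV) ^ k)⁻¹ := by rw [hk']; group
  rw [e]
  exact mul_mem hgr (inv_mem (Subgroup.pow_mem _ (MonoidHom.mem_range.mpr ⟨tr bV, rfl⟩) k))

end Loc

end CfsgLib.A9Three
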