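import Cfsg.Agent.Lib.A9Three.Invol
import Cfsg.Agent.Lib.A8ThreeLocal.Main

set_option autoImplicit false
set_option maxRecDepth 8000
set_option maxHeartbeats 800000
set_option synthInstance.maxSize 2000

/-!
The centralizer of an involution moving eight points lies in the embedded alternating group.
-/

namespace CfsgLib.A9Three

open CfsgLib.A9Local Equiv Equiv.Perm

universe u

/-- `(0 3)(1 4)`. -/
abbrev eS : Perm (Fin 9) := swap 0 3 * swap 1 4

/-- `(0 3)(2 5)`. -/
abbrev tS : Perm (Fin 9) := swap 0 3 * swap 2 5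

theorem four_s9 : (eS * eS = 1 ∧ sign eS = 1 ∧ eS * s9 = s9 * eS) ∧ (tS * tS = 1 ∧ sign tS = 1 ∧ tS * s9 = s9 * tS) ∧
    eS * tS = tS * eS ∧ eS ≠ 1 ∧ tS ≠ 1 ∧ eS ≠ tS := by decide +kernel

theorem four_s9_conj : ∀ x : Perm (Fin 9), x = eS ∨ x = tS ∨ x = tS * eS →
    ∃ p : Perm (Fin 6), sign p = 1 ∧ inc63 (p, 1) * x * (inc63 (p, 1))⁻¹ = fourU.v1 := by
  rintro x (rfl | rfl | rfl) <;> decide +kernel

theorem hS_six : ∀ h : HM, h * hS = hS * h → h * betaH = betaH * h → ∃ k : Fin 6, h = (betaH * hS) ^ k.val := by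
  decide +kernel

theorem hS_facts : hS * hS = 1 ∧ hS ≠ 1 := by decide +kernel

theorem card_cent_s9 : Nat.card (Subgroup.centralizer ({s9} : Set (Perm (Fin 9)))) = 384 := by
  rw [nat_card_centralizer, cycleType_s9]
  decide

theorem no_large_prime {x : Perm (Fin 9)} {q : ℕ} (hq : q.Prime) (h5 : 5 ≤ q) (hx : x ^ q = 1)
    (hs : x * s9 = s9 * x) : x = 1 := by
  haveI := Fact.mk hq
  by_contra hne
  have hxC : x ∈ Subgroup.centralizer ({s9} : Set (Perm (Fin 9))) := Subgroup.mem_centralizer_singleton_iff.mpr hs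
  have h := Subgroup.orderOf_dvd_natCard _ hxC
  rw [orderOf_eq_prime hx hne, card_cent_s9, show (384 : ℕ) = 2 ^ 7 * 3 by norm_num] at h
  rcases hq.dvd_mul.mp h with h | h
  · have := Nat.le_of_dvd (by norm_num) (hq.dvd_of_dvd_pow h)
    omega
  · have := Nat.le_of_dvd (by norm_num) h
    omega

theorem cent_s9_alt {s : alternatingGroup (Fin 9)} (hs : (s : Perm (Fin 9)) = s9) :
    64 ∣ Nat.card (Subgroup.centralizer ({s} : Set (alternatingGroup (Fin 9)))) := by
  set C := Subgroup.centralizer ({s9} : Set (Perm (Fin 9))) with hC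
  let σ : C →* ℤˣ := Equiv.Perm.sign.comp C.subtype
  have h03 : swap 0 3 ∈ C := Subgroup.mem_centralizer_singleton_iff.mpr s9_basics.2.2.2.1.symm
  have hrange : Nat.card σ.range = 2 := by
    have hsurj : Function.Surjective σ := fun e => by
      rcases Int.units_eq_one_or e with rfl | rfl
      · exact ⟨1, map_one σ⟩
      · exact ⟨⟨swap 0 3, h03⟩, sign_swap (by decide : (0 : Fin 9) ≠ 3)⟩
    rw [MonoidHom.range_eq_top.mpr hsurj, Subgroup.card_top, Nat.card_eq_fintype_card, Fintype.card_units_int]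
  let e : σ.ker ≃ Subgroup.centralizer ({s} : Set (alternatingGroup (Fin 9))) :=
    { toFun := fun y => ⟨⟨y.1.1, mem_alternatingGroup.mpr y.2⟩, Subgroup.mem_centralizer_singleton_iff.mpr
        (Subtype.ext (by
          show y.1.1 * (s : Perm (Fin 9)) = (s : Perm (Fin 9)) * y.1.1
          rw [hs]; exact Subgroup.mem_centralizer_singleton_iff.mp y.1.2))⟩
      invFun := fun y => ⟨⟨y.1.1, Subgroup.mem_centralizer_singleton_iff.mpr (by
          have := congrArg Subtype.val (Subgroup.mem_centralizer_singleton_iff.mp y.2)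
          rwa [Subgroup.coe_mul, Subgroup.coe_mul, hs] at this)⟩, mem_alternatingGroup.mp y.1.2⟩
      left_inv := fun y => rfl
      right_inv := fun y => rfl }
  have h := σ.ker.card_mul_index
  rw [Subgroup.index_ker, hrange, card_cent_s9, Nat.card_congr e] at h
  exact ⟨3, by omega⟩

variable {G : Type u} [Group G] [Finite G] {L : Loc G} {F : Frame L} (B : Big F)

include B in
theorem Big.cent_s {g₀ : G} (hg₀ : Commute g₀ (B.at' s9)) : g₀ ∈ B.R := by
  classical
  haveI := Fact.mk Nat.prime_two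
  have ss : sign s9 = 1 := s9_basics.1
  set s := B.at' s9 with hs
  set X := Subgroup.centralizer ({s} : Set G) with hX
  have memX : ∀ g, g ∈ X ↔ Commute g s := fun g => Subgroup.mem_centralizer_singleton_iff
  suffices X ≤ B.R from this ((memX _).mpr hg₀)
  have hs2 : s * s = 1 := by rw [hs, ← B.at_mul ss ss, s9_basics.2.1, B.at_one]
  have hs1 : s ≠ 1 := fun e => s9_basics.2.2.1 (B.at_inj ss (map_one _) (by rw [B.at_one]; exact e))
  -- the four-group
  obtain ⟨⟨he2, hes, hec⟩, ⟨ht2, hts, htc⟩, hte, hne1, hnt1, hne⟩ := four_s9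
  set e := B.at' eS with he
  set t := B.at' tS with ht
  have hee : e * e = 1 := by rw [he, ← B.at_mul hes hes, he2, B.at_one]
  have htt : t * t = 1 := by rw [ht, ← B.at_mul hts hts, ht2, B.at_one]
  have htec : Commute t e := B.at_commute hts hes hte.symm
  have htX : t ∈ X := (memX _).mpr (B.at_commute hts ss htc)
  have heX : e ∈ X := (memX _).mpr (B.at_commute hes ss hec)
  let A : Subgroup G :=
    { carrier := {g | g = 1 ∨ g = t ∨ g = e ∨ g = t * e}
      one_mem' := Or.inl rfl
      inv_mem' := by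
        rintro g (rfl | rfl | rfl | rfl)
        · exact Or.inl inv_one
        · exact Or.inr (Or.inl (inv_eq_of_mul_eq_one_right htt))
        · exact Or.inr (Or.inr (Or.inl (inv_eq_of_mul_eq_one_right hee)))
        · refine Or.inr (Or.inr (Or.inr ?_))
          rw [mul_inv_rev, inv_eq_of_mul_eq_one_right htt, inv_eq_of_mul_eq_one_right hee, htec.eq]
      mul_mem' := by
        have e1 : ∀ v, t * (t * v) = v := fun v => by rw [← mul_assoc, htt, one_mul]
        have e3 : ∀ v, e * (t * v) = t * (e * v) := fun v => by rw [← mul_assoc, ← htec.eq, mul_assoc]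
        rintro g g' (rfl | rfl | rfl | rfl) (rfl | rfl | rfl | rfl) <;>
          simp [mul_assoc, e1, e3, htt, hee, ← htec.eq] }
  have hAX : A ≤ X := by
    rintro g (rfl | rfl | rfl | rfl)
    exacts [one_mem _, htX, heX, mul_mem htX heX]
  have hA2 : ∀ g ∈ A, g * g = 1 := by
    rintro g (rfl | rfl | rfl | rfl)
    · exact one_mul 1
    · exact htt
    · exact hee
    · rw [mul_assoc, ← mul_assoc e, ← htec.eq, mul_assoc t e e, hee, mul_one, htt]
  haveI hAc : IsMulCommutative A := ⟨⟨fun x y => Subtype.ext (by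
    show (x : G) * y = y * x
    have h := hA2 _ (mul_mem x.2 y.2)
    calc (x : G) * y = x * ((x : G) * y * (x * y)) * y := by rw [h, mul_one]
      _ = ((x : G) * x) * (y * x) * ((y : G) * y) := by group
      _ = y * x := by rw [hA2 _ x.2, hA2 _ y.2, one_mul, mul_one])⟩⟩
  have hAcent : ∀ g ∈ A, g ≠ 1 → Subgroup.centralizer ({g} : Set G) ≤ B.R := by
    intro g hg hg1 c hc
    replace hc : Commute c g := Subgroup.mem_centralizer_singleton_iff.mp hc
    have key : ∀ x : Perm (Fin 9), sign x = 1 → (x = eS ∨ x = tS ∨ x = tS * eS) → B.at' x = g → c ∈ B.R := by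
      intro x hx hx3 hxg
      obtain ⟨p, hp, hpe⟩ := four_s9_conj x hx3
      exact B.cent_four hx (k := inc63 (p, 1)) (by rw [sign_inc63, map_one, mul_one, hp]) hpe (hxg ▸ hc)
    rcases hg with rfl | rfl | rfl | rfl
    · exact absurd rfl hg1
    · exact key _ hts (Or.inr (Or.inl rfl)) rfl
    · exact key _ hes (Or.inl rfl) rfl
    · exact key _ (by rw [map_mul, hts, hes, mul_one]) (Or.inr (Or.inr rfl)) (B.at_mul hts hes)
  have he1' : e ≠ 1 := fun h => hne1 (B.at_inj hes (map_one _) (by rw [B.at_one]; exact h))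
  have ht1' : t ≠ 1 := fun h => hnt1 (B.at_inj hts (map_one _) (by rw [B.at_one]; exact h))
  have hte' : t ≠ e := fun h => hne (B.at_inj hts hes h).symm
  have hAnc : ¬ IsCyclic A := by
    intro hcy
    obtain ⟨v, hv⟩ := IsCyclic.exists_generator (α := A)
    have hsub : ∀ w : A, w = 1 ∨ w = v := by
      intro w
      obtain ⟨k, hk⟩ := Subgroup.mem_zpowers_iff.1 (hv w)
      have h2 : v ^ (2 : ℤ) = 1 := by
        rw [show (2 : ℤ) = ((2 : ℕ) : ℤ) from rfl, zpow_natCast, pow_two]; exact Subtype.ext (hA2 _ v.2)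
      rw [← Int.emod_add_mul_ediv k 2, zpow_add, zpow_mul, h2, one_zpow, mul_one] at hk
      obtain h | h : k % 2 = 0 ∨ k % 2 = 1 := by omega
      · left; rw [← hk, h, zpow_zero]
      · right; rw [← hk, h, zpow_one]
    have htA : t ∈ A := Or.inr (Or.inl rfl)
    have heA : e ∈ A := Or.inr (Or.inr (Or.inl rfl))
    rcases hsub ⟨t, htA⟩ with h | h
    · exact ht1' (congrArg Subtype.val h)
    rcases hsub ⟨e, heA⟩ with h' | h'
    · exact he1' (congrArg Subtype.val h')
    · exact hte' (congrArg Subtype.val (h.trans h'.symm))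
  -- the element of order three
  have hss : s = L.ι hS := B.at_s9
  obtain ⟨hsb, hb3, hb1⟩ := hS_beta
  set y := L.ι betaH with hy
  have hys : Commute y s := by rw [hss]; exact ((show Commute hS betaH from hsb).map L.ι).symm
  have hyX : y ∈ X := (memX _).mpr hys
  have hy3 : y ^ 3 = 1 := by rw [hy, ← map_pow, hb3, map_one]
  have hy1 : y ≠ 1 := fun h => hb1 (L.inj (h.trans (map_one L.ι).symm))
  -- the quotient
  let sX : X := ⟨s, (memX _).mpr (Commute.refl _)⟩
  let yX : X := ⟨y, hyX⟩
  set S := Subgroup.zpowers sX with hS'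
  have hSmem : ∀ x : X, x ∈ S → x = 1 ∨ x = sX := by
    intro x hx
    obtain ⟨k, rfl⟩ := Subgroup.mem_zpowers_iff.1 hx
    have h2 : sX ^ (2 : ℤ) = 1 := by
      rw [show (2 : ℤ) = ((2 : ℕ) : ℤ) from rfl, zpow_natCast, pow_two]; exact Subtype.ext hs2
    rw [← Int.emod_add_mul_ediv k 2, zpow_add, zpow_mul, h2, one_zpow, mul_one]
    obtain h | h : k % 2 = 0 ∨ k % 2 = 1 := by omega
    · left; rw [h, zpow_zero]
    · right; rw [h, zpow_one]
  have hsC : ∀ x : X, Commute x sX := fun x => Subtype.ext ((memX x.1).1 x.2).eq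
  haveI hSn : S.Normal := ⟨fun n hn g => by
    rcases hSmem n hn with rfl | rfl
    · rw [mul_one, mul_inv_cancel]; exact one_mem _
    · rw [(hsC g).eq, mul_inv_cancel_right]; exact Subgroup.mem_zpowers _⟩
  have hscent : S ≤ Subgroup.center X := (Subgroup.zpowers_le).2 (Subgroup.mem_center_iff.2 fun g => (hsC g).eq)
  set π := QuotientGroup.mk' S with hπ
  have hsorder : orderOf s = 2 := orderOf_eq_prime (by rw [pow_two]; exact hs2) hs1
  have hyorder : orderOf y = 3 := by
    haveI := Fact.mk Nat.prime_three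
    exact orderOf_eq_prime hy3 hy1
  have hsc3 : SelfCentThree.SC3 (π yX) := by
    refine ⟨?_, fun q hq => ?_⟩
    · haveI := Fact.mk Nat.prime_three
      refine orderOf_eq_prime (by rw [← map_pow, show yX ^ 3 = 1 from Subtype.ext hy3, map_one]) fun h => ?_
      rw [hπ, QuotientGroup.mk'_apply, QuotientGroup.eq_one_iff] at h
      rcases hSmem _ h with h' | h'
      · exact hy1 (congrArg Subtype.val h')
      · have : y = s := congrArg Subtype.val h'
        rw [this, hsorder] at hyorder; omega
    obtain ⟨g, rfl⟩ := QuotientGroup.mk'_surjective S q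
    have h : (yX * g)⁻¹ * (g * yX) ∈ S := by
      rw [← QuotientGroup.eq_one_iff, ← QuotientGroup.mk'_apply, map_mul, map_inv, map_mul _ yX, map_mul _ g,
        hq.eq, inv_mul_cancel]
    have hgy : Commute (g : G) y := by
      rcases hSmem _ h with h' | h'
      · rw [inv_mul_eq_one] at h'
        exact (congrArg Subtype.val h').symm
      · exfalso
        rw [inv_mul_eq_iff_eq_mul] at h'
        have e1 : (g : G) * y = y * g * s := congrArg Subtype.val h'
        have e2 : (g : G) * y * (g : G)⁻¹ = y * s := by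
          rw [e1, mul_assoc y, ((memX g.1).1 g.2).eq]; group
        have h3 : (y * s) ^ 3 = 1 := by rw [← e2, conj_pow, hy3]; group
        rw [hys.mul_pow, hy3, one_mul, pow_three, hs2, mul_one] at h3
        exact hs1 h3
    obtain ⟨k, hk⟩ := L.cent_beta_le (Subgroup.mem_centralizer_singleton_iff.mpr hgy.eq)
    obtain ⟨i, rfl⟩ := hS_six k
      (L.inj (by rw [map_mul, map_mul, hk, ← hss]; exact ((memX _).1 g.2).eq))
      (L.inj (by rw [map_mul, map_mul, hk]; exact hgy.eq))
    refine Subgroup.mem_zpowers_iff.mpr ⟨(i.val : ℤ), ?_⟩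
    have hg' : g = (yX * sX) ^ i.val := Subtype.ext (by
      rw [SubmonoidClass.coe_pow, ← hk, map_pow, map_mul]
      show (y * L.ι hS) ^ i.val = (y * s) ^ i.val
      rw [hss])
    rw [zpow_natCast, hg', map_pow, map_mul, show π sX = 1 from (QuotientGroup.eq_one_iff _).2 (Subgroup.mem_zpowers _),
      mul_one]
  -- two-subgroups of `X` containing the four-group
  have hAp : IsPGroup 2 (A.subgroupOf X) := fun x => ⟨1, Subtype.ext (Subtype.ext (by
    rw [pow_one, SubmonoidClass.coe_pow, SubmonoidClass.coe_pow, pow_two]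
    exact hA2 _ (Subgroup.mem_subgroupOf.1 x.2)))⟩
  obtain ⟨P, hAP⟩ := hAp.exists_le_sylow
  have hPle : (P : Subgroup X).map X.subtype ≤ B.R := by
    obtain ⟨p, hp, hpe⟩ := four_s9_conj tS (Or.inr (Or.inl rfl))
    exact B.two_le hts (k := inc63 (p, 1)) (by rw [sign_inc63, map_one, mul_one, hp]) hpe (P.2.map _)
      ⟨⟨t, htX⟩, hAP (Subgroup.mem_subgroupOf.2 (Or.inr (Or.inl rfl))), rfl⟩
  have hcardX : ∀ c : ℕ, Nat.card (X ⧸ S) = c → Nat.card X = 2 * c := by
    intro c hc
    rw [Subgroup.card_eq_card_quotient_mul_card_subgroup S, hc, Nat.card_zpowers]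
    rw [← Subgroup.orderOf_coe]
    show c * orderOf s = 2 * c
    rw [hsorder, mul_comm]
  have hP9 : Nat.card P ∣ 181440 := by
    have h1 : Nat.card P = Nat.card ((P : Subgroup X).map X.subtype) :=
      (Subgroup.card_map_of_injective X.subtype_injective).symm
    rw [h1]
    refine (Subgroup.card_dvd_of_le hPle).trans ((Subgroup.card_range_dvd B.φ).trans ?_)
    rw [nat_card_alternatingGroup, Nat.card_fin]
    decide
  have h64 : 64 ∣ Nat.card X := by
    set sA : alternatingGroup (Fin 9) := ⟨s9, mem_alternatingGroup.mpr ss⟩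
    have hsA : B.φ sA = s := (B.at_eq ss).symm
    have hle : (Subgroup.centralizer ({sA} : Set (alternatingGroup (Fin 9)))).map B.φ ≤ X := by
      rintro _ ⟨c, hc, rfl⟩
      exact (memX _).2 (hsA ▸ Commute.map (Subgroup.mem_centralizer_singleton_iff.1 hc) B.φ)
    have h := Subgroup.card_dvd_of_le hle
    rw [Subgroup.card_map_of_injective B.inj] at h
    exact (cent_s9_alt rfl).trans h
  rcases SelfCentThree.tri_of_sc3 _ (X ⧸ S) (π yX) rfl hsc3 with
    ⟨N, hN, hnil, hcop, hq⟩ | ⟨N, hN, hcomm, hel, heq⟩ | heq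
  · haveI := hN
    set Np := N.comap π with hNp
    haveI hNpn : Np.Normal := hN.comap π
    haveI hNpnil : Group.IsNilpotent Np := by
      let f : Np →* N := (π.comp Np.subtype).codRestrict N fun x => x.2
      refine Subgroup.isNilpotent_of_ker_le_center f fun x hx => ?_
      have hxS : (x : X) ∈ S := (QuotientGroup.eq_one_iff _).1 (congrArg Subtype.val hx)
      exact Subgroup.mem_center_iff.2 fun g => Subtype.ext (Subgroup.mem_center_iff.1 (hscent hxS) g.1)
    have hSNp : S ≤ Np := fun x hx => by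
      rw [hNp, Subgroup.mem_comap, hπ, QuotientGroup.mk'_apply, (QuotientGroup.eq_one_iff x).2 hx]; exact one_mem _
    have hcardNp : Nat.card Np = 2 * Nat.card N := by
      let f : Np →* N := (π.comp Np.subtype).codRestrict N fun x => x.2
      have hf : Function.Surjective f := by
        rintro ⟨q, hq'⟩
        obtain ⟨v, rfl⟩ := QuotientGroup.mk'_surjective S q
        exact ⟨⟨v, hq'⟩, rfl⟩
      have hk : f.ker = S.subgroupOf Np := by
        ext x
        rw [MonoidHom.mem_ker, Subgroup.mem_subgroupOf, Subtype.ext_iff]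
        exact QuotientGroup.eq_one_iff _
      have h := f.ker.card_mul_index
      rw [Subgroup.index_ker, MonoidHom.range_eq_top.2 hf, Subgroup.card_top, hk,
        Nat.card_congr (Subgroup.subgroupOfEquivOfLe hSNp).toEquiv, Nat.card_zpowers, ← Subgroup.orderOf_coe] at h
      rw [← h]
      show orderOf s * Nat.card N = 2 * Nat.card N
      rw [hsorder]
    have hNp3 : Nat.Coprime (Nat.card Np) 3 := by
      rw [hcardNp]; exact Nat.Coprime.mul_left (by norm_num) hcop
    have hNp2 : IsPGroup 2 Np := by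
      refine IsPGroup.of_card (n := (Nat.card Np).primeFactorsList.length) ?_
      refine Nat.eq_prime_pow_of_unique_prime_dvd Nat.card_pos.ne' fun {q} hqp hqd => ?_
      by_contra hq2
      haveI := Fact.mk hqp
      obtain ⟨Q⟩ : Nonempty (Sylow q Np) := inferInstance
      haveI : (Q : Subgroup Np).Normal := Sylow.normal_of_normalizerCondition
        Group.normalizerCondition_of_isNilpotent Q
      haveI : (Q : Subgroup Np).Characteristic := Sylow.characteristic_of_normal Q inferInstance
      set Q' := ((Q : Subgroup Np).map Np.subtype).map X.subtype with hQ'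
      have hQX : A ≤ Subgroup.normalizer (Q' : Set G) := by
        intro a ha
        refine A8ThreeLocal.Loc.normalises_of fun v hv => ?_
        obtain ⟨w, hw, rfl⟩ := hv
        refine ⟨⟨a, hAX ha⟩ * w * ⟨a, hAX ha⟩⁻¹, ?_, rfl⟩
        exact (inferInstance : ((Q : Subgroup Np).map Np.subtype).Normal).conj_mem w hw _
      have hQcard : Nat.card Q' = Nat.card Q := by
        rw [hQ', Subgroup.card_map_of_injective X.subtype_injective,
          Subgroup.card_map_of_injective Np.subtype_injective]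
      obtain ⟨m, hm⟩ := IsPGroup.iff_card.1 Q.2
      have hQcop : (Nat.card A).Coprime (Nat.card Q') := by
        rw [hQcard, hm]
        obtain ⟨l, hl⟩ := IsPGroup.iff_card.1 (show IsPGroup 2 A from fun x => ⟨1, Subtype.ext (by
          rw [SubmonoidClass.coe_pow, pow_one, pow_two]; exact hA2 _ x.2)⟩)
        rw [hl]
        exact Nat.Coprime.pow _ _ ((Nat.coprime_primes Nat.prime_two hqp).2 (Ne.symm hq2))
      have hQH : Q' ≤ B.R := by
        rw [← coprime_generated_by_centralizers hAnc hQX hQcop]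
        exact iSup₂_le fun v hv => inf_le_right.trans (hAcent v hv.1 hv.2)
      obtain ⟨w, hw⟩ := exists_prime_orderOf_dvd_card' q (hQcard ▸ Q.dvd_card_of_dvd_card hqd)
      obtain ⟨σ, hσs, hσ⟩ := B.exists_at (hQH w.2)
      have hwX : (w : G) ∈ X := by
        obtain ⟨v, -, hv⟩ := w.2
        rw [← hv]; exact v.2
      have hσq : σ ^ q = 1 := B.at_inj (by rw [map_pow, hσs, one_pow]) (map_one _) (by
        rw [B.at_pow hσs, hσ, B.at_one, ← SubmonoidClass.coe_pow, ← hw, pow_orderOf_eq_one]; rfl)
      have hσc : σ * s9 = s9 * σ := B.of_commute hσs ss (hσ ▸ (memX _).1 hwX)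
      have h5 : 5 ≤ q := by
        have h3 : q ≠ 3 := by
          rintro rfl
          exact (Nat.prime_three.coprime_iff_not_dvd.1 hNp3.symm) hqd
        have h2 := hqp.two_le
        have h4 : q ≠ 4 := fun h => by rw [h] at hqp; norm_num at hqp
        omega
      have hσ1 := no_large_prime hqp h5 hσq hσc
      have : orderOf w = 1 := by
        rw [orderOf_eq_one_iff]
        exact Subtype.ext (by rw [← hσ, hσ1, B.at_one]; rfl)
      rw [hw] at this
      exact hqp.one_lt.ne' this
    obtain ⟨c, hc⟩ := IsPGroup.iff_card.1 hNp2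
    have hidx : Nat.card X = 2 ^ c * 3 ∨ Nat.card X = 2 ^ (c + 1) * 3 := by
      have h := hcardX _ (Subgroup.card_eq_card_quotient_mul_card_subgroup N)
      rw [hc] at hcardNp
      rcases hq with h' | he'
      · left; rw [h, h', hcardNp]; ring
      · right
        obtain ⟨e'⟩ := he'
        rw [h, Nat.card_congr e'.toEquiv, Nat.card_perm, Nat.card_fin, pow_succ, hcardNp,
          show Nat.factorial 3 = 6 from rfl]
        ring
    set M := B.R.subgroupOf X with hM
    suffices M = ⊤ from Subgroup.subgroupOf_eq_top.1 this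
    have hPM : (P : Subgroup X) ≤ M := fun x hx => Subgroup.mem_subgroupOf.2 (hPle ⟨x, hx, rfl⟩)
    have hyM' : yX ∈ M := Subgroup.mem_subgroupOf.2 (by
      show L.ι betaH ∈ B.R
      rw [← B.at_theta]; exact B.at_mem _)
    refine Subgroup.eq_top_of_card_eq _ (Nat.dvd_antisymm (Subgroup.card_subgroup_dvd_card _) ?_)
    have h1 : Nat.card P ∣ Nat.card M := Subgroup.card_dvd_of_le hPM
    have h2 : 3 ∣ Nat.card M := by
      have := Subgroup.orderOf_dvd_natCard M hyM'
      rwa [← Subgroup.orderOf_coe, show ((yX : X) : G) = y from rfl, hyorder] at this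
    rw [Sylow.card_eq_multiplicity] at h1
    have h3 : ∀ m : ℕ, Nat.card X = 2 ^ m * 3 → Nat.card X ∣ Nat.card M := by
      intro m hm
      have hf : (Nat.card X).factorization 2 = m := by
        rw [hm, Nat.factorization_mul (by positivity) (by norm_num), Finsupp.add_apply,
          Nat.Prime.factorization_pow Nat.prime_two, Finsupp.single_eq_same,
          Nat.factorization_eq_zero_of_not_dvd (by norm_num : ¬ 2 ∣ 3)]
        rfl
      rw [hf] at h1
      rw [hm]
      exact (Nat.Coprime.pow_left m (by norm_num : Nat.Coprime 2 3)).mul_dvd_of_dvd_of_dvd h1 h2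
    rcases hidx with h | h
    exacts [h3 _ h, h3 _ h]
  · exfalso
    obtain ⟨eq⟩ := heq
    haveI := hN
    obtain ⟨m, hm⟩ := IsPGroup.iff_card.1 (show IsPGroup 2 N from fun x => ⟨1, Subtype.ext (by
      rw [SubmonoidClass.coe_pow, pow_one]; exact hel _ x.2)⟩)
    have hX2 : Nat.card X = 2 ^ (m + 3) * 15 := by
      rw [hcardX _ (Subgroup.card_eq_card_quotient_mul_card_subgroup N), Nat.card_congr eq.toEquiv,
        nat_card_alternatingGroup, Nat.card_fin, hm, show Nat.factorial 5 = 120 from rfl, pow_add]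
      ring
    have hm3 : 3 ≤ m := by
      have h1 : 2 ^ 6 ∣ 2 ^ (m + 3) * 15 := hX2 ▸ h64
      have h2 := Nat.Coprime.dvd_of_dvd_mul_right ((Nat.Coprime.pow_left 6 (by norm_num : Nat.Coprime 2 15))) h1
      have := Nat.pow_dvd_pow_iff_le_right (by norm_num : 1 < 2) |>.1 h2
      omega
    have hm3' : m ≤ 3 := by
      have hP : Nat.card P = 2 ^ (m + 3) := by
        rw [Sylow.card_eq_multiplicity, hX2, Nat.factorization_mul (by positivity) (by norm_num), Finsupp.add_apply,
          Nat.Prime.factorization_pow Nat.prime_two, Finsupp.single_eq_same,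
          Nat.factorization_eq_zero_of_not_dvd (by norm_num : ¬ 2 ∣ 15), add_zero]
      rw [hP] at hP9
      by_contra hm'
      have := (pow_dvd_pow 2 (show 7 ≤ m + 3 by omega)).trans hP9
      norm_num at this
    have hm' : m = 3 := by omega
    subst hm'
    -- a fixed-point-free element of order three
    haveI := Fact.mk Nat.prime_three
    let f : Function.End N := fun n => ⟨π yX * n.1 * (π yX)⁻¹, hN.conj_mem _ n.2 _⟩
    have hf : f ^ 3 ^ 1 = 1 := by
      funext n
      refine Subtype.ext ?_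
      show π yX * (π yX * (π yX * n.1 * (π yX)⁻¹) * (π yX)⁻¹) * (π yX)⁻¹ = n.1
      have h3 : π yX ^ 3 = 1 := by rw [← map_pow, show yX ^ 3 = 1 from Subtype.ext hy3, map_one]
      calc π yX * (π yX * (π yX * n.1 * (π yX)⁻¹) * (π yX)⁻¹) * (π yX)⁻¹ = π yX ^ 3 * n.1 * (π yX ^ 3)⁻¹ := by
            rw [pow_three]; group
        _ = n.1 := by rw [h3]; group
    have hsub : ∀ a b : Function.fixedPoints f, a = b := by
      have key : ∀ n : Function.fixedPoints f, n.1.1 = 1 := by
        intro n
        have hn : π yX * n.1.1 * (π yX)⁻¹ = n.1.1 := congrArg Subtype.val n.2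
        obtain ⟨k, hk⟩ := Subgroup.mem_zpowers_iff.1 (hsc3.cent _ (mul_inv_eq_iff_eq_mul.1 hn))
        have h3 : orderOf n.1.1 ∣ 3 := by
          rw [← hk, ← hsc3.ord]; exact orderOf_dvd_of_mem_zpowers (zpow_mem (Subgroup.mem_zpowers _) k)
        have h2 : orderOf n.1.1 ∣ 2 := orderOf_dvd_of_pow_eq_one (hel _ n.1.2)
        exact orderOf_eq_one_iff.1 (Nat.eq_one_of_dvd_coprimes (by norm_num : Nat.Coprime 3 2) h3 h2)
      exact fun a b => Subtype.ext (Subtype.ext ((key a).trans (key b).symm))
    haveI := Fintype.ofFinite N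
    have hmod := Equiv.Perm.card_fixedPoints_modEq hf
    have h0 : Nonempty (Function.fixedPoints f) := ⟨⟨1, Subtype.ext (by show π yX * 1 * (π yX)⁻¹ = 1; group)⟩⟩
    rw [Fintype.card_eq_one_iff.2 ⟨h0.some, fun b => hsub b _⟩, ← Nat.card_eq_fintype_card, hm] at hmod
    exact absurd hmod (by decide)
  · exfalso
    obtain ⟨eq⟩ := heq
    have h := hcardX _ (Nat.card_congr eq.toEquiv)
    have : 64 ∣ 2 * 336 := (h ▸ h64).trans (Nat.mul_dvd_mul_left 2 A8ThreeLocal.card_psl27_dvd)
    norm_num at this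

/-- The embedded group is everything. -/
theorem Big.range_eq_top : B.R = ⊤ := by
  rw [eq_top_iff]
  intro g _
  have su : sign fourU.v1 = 1 := fourU.m1.1
  have ss : sign s9 = 1 := s9_basics.1
  set x := g * B.at' fourU.v1 * g⁻¹ with hx
  have hxx : x * x = 1 := by
    rw [hx, show g * B.at' fourU.v1 * g⁻¹ * (g * B.at' fourU.v1 * g⁻¹) = g * (B.at' fourU.v1 * B.at' fourU.v1) * g⁻¹ by
      group, ← B.at_mul su su, fourU.sq1, B.at_one]
    group
  obtain ⟨c, hc2, hc1, hcx, hcs⟩ := A8ThreeLocal.exists_common_invol hxx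
    (by rw [← B.at_mul ss ss, s9_basics.2.1, B.at_one] : B.at' s9 * B.at' s9 = 1) fun k e => by
      refine B.not_fused (k * g) ?_
      rw [← e, hx]; group
  obtain ⟨σ, hs, rfl⟩ := B.exists_at (B.cent_s hcs)
  have hσ2 : σ * σ = 1 := B.at_inj (by rw [map_mul, hs, mul_one]) (map_one _)
    (by rw [B.at_mul hs hs, hc2, B.at_one])
  have hσ1 : σ ≠ 1 := fun e => hc1 (by rw [e, B.at_one])
  obtain ⟨k, hk, he | he⟩ := invol_nine hs hσ2 hσ1
  · exact B.ctrl (B.cent_four hs hk he hcx.symm)
  · have h := hcx.symm.map (MulAut.conj (B.at' k)).toMonoidHom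
    simp only [MulEquiv.coe_toMonoidHom, MulAut.conj_apply] at h
    rw [← B.at_conj hk hs, he] at h
    refine B.ctrl ?_
    have := mul_mem (mul_mem (inv_mem (B.at_mem k)) (B.cent_s h)) (B.at_mem k)
    rwa [show (B.at' k)⁻¹ * (B.at' k * x * (B.at' k)⁻¹) * B.at' k = x by group] at this

include B in
theorem Big.nonempty_equiv : Nonempty (G ≃* alternatingGroup (Fin 9)) :=
  ⟨(MulEquiv.ofBijective B.φ ⟨B.inj, MonoidHom.range_eq_top.mp B.range_eq_top⟩).symm⟩

/-- A group with the local data is the model or the alternating group of degree nine. -/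
theorem Loc.top_or_alt (L : Loc G) : L.ι.range = ⊤ ∨ Nonempty (G ≃* alternatingGroup (Fin 9)) := by
  by_cases hne : L.ι.range = ⊤
  · exact Or.inl hne
  · obtain ⟨F⟩ := L.exists_frame hne
    obtain ⟨B⟩ := F.exists_big
    exact Or.inr B.nonempty_equiv

end CfsgLib.A9Three
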