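import Cfsg.Agent.Lib.A9Three.Big
import Cfsg.Agent.Lib.A8ThreeLocal.EightChecks
import Cfsg.Agent.Lib.ZStar.Main
import Cfsg.Agent.Lib.Comp.PComp

set_option autoImplicit false
set_option maxRecDepth 8000
set_option maxHeartbeats 800000
set_option synthInstance.maxSize 2000

/-!
The centralizer of an involution moving four points lies in the embedded alternating group.
-/

namespace CfsgLib.A9Three

open CfsgLib.A9Local Equiv Equiv.Perm

universe u

/-- `(0 1)(2 3)` on four points. -/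
abbrev u4 : Perm (Fin 4) := swap 0 1 * swap 2 3

/-- `(0 3)(1 2)` on four points. -/
abbrev v4 : Perm (Fin 4) := swap 0 3 * swap 1 2

/-- `(1 2)(7 8)`. -/
abbrev h12 : Perm (Fin 9) := swap 1 2 * swap 7 8

theorem inc45_values : inc45 (u4, 1) = fourU.v1 ∧ inc45 (v4, 1) = fourU.v2 ∧
    inc45 (1, swap 2 3 * swap 3 4) = z9 ∧ inc45 (1, swap 0 1 * swap 2 3) = t9 := by decide +kernel

theorem four_swap : ∀ p : Perm (Fin 4), p * p = 1 → p * u4 = u4 * p → p * v4 * p⁻¹ = u4 * v4 →
    sign p = -1 ∧ (p = swap 0 1 ∨ p = swap 2 3) := by decide +kernel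

theorem four_comm : ∀ p : Perm (Fin 4), p * p = 1 → p * u4 = u4 * p → p * v4 = v4 * p →
    sign p = 1 ∧ (p = 1 ∨ p = u4 ∨ p = v4 ∨ p = u4 * v4) := by decide +kernel

theorem four_pow : ∀ p : Perm (Fin 4), p * u4 = u4 * p → p ^ 4 = 1 := by decide +kernel

theorem five_odd : ∀ r : Perm (Fin 5), r * r = 1 → sign r = -1 →
    ∃ k : Perm (Fin 5), sign k = 1 ∧ k * r * k⁻¹ = swap 0 1 := by decide +kernel

theorem five_even : ∀ r : Perm (Fin 5), r * r = 1 → sign r = 1 → r ≠ 1 →
    ∃ k : Perm (Fin 5), sign k = 1 ∧ k * r * k⁻¹ = swap 0 1 * swap 2 3 := by decide +kernel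

theorem five_three : ∀ r : Perm (Fin 5), r ^ 3 = 1 → r ≠ 1 → ∃ k : Perm (Fin 5), sign k = 1 ∧
    r * (k * r * k⁻¹) ≠ 1 ∧ (r * (k * r * k⁻¹)) * (r * (k * r * k⁻¹)) = 1 := by decide +kernel

theorem five_cz : ∀ r : Perm (Fin 5), r * (swap 2 3 * swap 3 4) = swap 2 3 * swap 3 4 * r → r ^ 6 = 1 := by
  decide +kernel

theorem R_moves : h12 * fourU.v1 * h12⁻¹ = fourR.v1 ∧
    ∀ p : Perm (Fin 4), p = swap 0 1 ∨ p = swap 2 3 →
      h12 * inc45 (p, swap 0 1) * h12⁻¹ = fourR.v2 ∨ h12 * inc45 (p, swap 0 1) * h12⁻¹ = fourR.v1 * fourR.v2 := by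
  refine ⟨by decide +kernel, ?_⟩
  rintro p (rfl | rfl) <;> decide +kernel

theorem s_rep : ∀ v : Perm (Fin 9), v = fourU.v1 ∨ v = fourU.v2 ∨ v = fourU.v1 * fourU.v2 →
    ∃ p : Perm (Fin 6), sign p = 1 ∧ inc63 (p, 1) * (v * t9) = theta hS * inc63 (p, 1) := by
  rintro v (rfl | rfl | rfl) <;> decide +kernel

/-- An element of odd period has a fixed point of its square only when it has one itself. -/
theorem pow_one_of_coprime {M : Type*} [Monoid M] {x : M} {m n : ℕ} (hm : x ^ m = 1) (hn : x ^ n = 1)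
    (h : m.Coprime n) : x = 1 :=
  orderOf_eq_one_iff.mp (Nat.eq_one_of_dvd_coprimes h (orderOf_dvd_of_pow_eq_one hm) (orderOf_dvd_of_pow_eq_one hn))

variable {G : Type u} [Group G] [Finite G] {L : Loc G} {F : Frame L} (B : Big F)

/-- The four-groups on six points containing `(0 1)(2 3)`. -/
theorem Big.four_le {σ : Perm (Fin 9)} (hs : sign σ = 1) (hσ : σ * σ = 1) (hu : σ * fourU.v1 = fourU.v1 * σ)
    (hv : σ * fourU.v2 * σ⁻¹ = fourU.v1 * fourU.v2) {g : G} (hgu : Commute g (B.at' fourU.v1))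
    (hgσ : Commute g (B.at' σ)) : g ∈ B.R ∧ ∀ n : ℕ, Odd n → g ^ n = 1 → g ^ 3 = 1 := by
  obtain ⟨⟨p, r⟩, rfl⟩ := exists_inc45 hu
  obtain ⟨e1, e2, -, -⟩ := inc45_values
  rw [← e1, ← map_mul, ← map_mul] at hu
  rw [← e1, ← e2, ← map_inv, ← map_mul, ← map_mul, ← map_mul] at hv
  rw [← map_mul, ← map_one inc45] at hσ
  obtain ⟨hsp, hp⟩ := four_swap p (congrArg Prod.fst (inc45_injective hσ))
    (congrArg Prod.fst (inc45_injective hu)) (congrArg Prod.fst (inc45_injective hv))
  have hsr : sign r = -1 := by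
    rw [sign_inc45, hsp] at hs
    rcases Int.units_eq_one_or (sign r) with e | e
    · rw [e] at hs; exact absurd hs (by decide)
    · exact e
  obtain ⟨k, hk, hkr⟩ := five_odd r (congrArg Prod.snd (inc45_injective hσ)) hsr
  have hsk : sign (inc45 (1, k)) = 1 := by rw [sign_inc45, map_one, one_mul, hk]
  obtain ⟨c, hc⟩ : ∃ c, c = h12 * inc45 (1, k) := ⟨_, rfl⟩
  have hsc : sign c = 1 := by rw [hc, map_mul, hsk, mul_one]; decide +kernel
  have hconj : c * inc45 (p, r) * c⁻¹ = h12 * inc45 (p, swap 0 1) * h12⁻¹ := by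
    rw [hc, show h12 * inc45 (1, k) * inc45 (p, r) * (h12 * inc45 (1, k))⁻¹ =
      h12 * (inc45 (1, k) * inc45 (p, r) * (inc45 (1, k))⁻¹) * h12⁻¹ by group, ← map_inv, ← map_mul, ← map_mul]
    congr 3
    exact Prod.ext (by simp) hkr
  have hconju : c * fourU.v1 * c⁻¹ = fourR.v1 := by
    rw [hc, show h12 * inc45 (1, k) * fourU.v1 * (h12 * inc45 (1, k))⁻¹ =
      h12 * (inc45 (1, k) * fourU.v1 * (inc45 (1, k))⁻¹) * h12⁻¹ by group, ← R_moves.1]
    congr 2
    rw [← e1, ← map_inv, ← map_mul, ← map_mul]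
    congr 1
    simp
  set g' := B.at' c * g * (B.at' c)⁻¹ with hg'
  have hmove : ∀ v, sign v = 1 → Commute g (B.at' v) → Commute g' (B.at' (c * v * c⁻¹)) := fun v hv h => by
    rw [B.at_conj hsc hv]
    exact h.map (MulAut.conj (B.at' c)).toMonoidHom
  have h1 : Commute g' (FourPerm.im F fourR.v1) := by
    rw [← B.at_im fourR.m1, ← hconju]
    exact hmove _ (by decide +kernel) hgu
  have h2 : Commute g' (FourPerm.im F fourR.v2) := by
    have h := hmove _ hs hgσ
    rw [hconj] at h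
    rcases R_moves.2 p hp with e | e <;> rw [e] at h
    · rwa [B.at_im fourR.m2] at h
    · rw [B.at_im (mul_mem fourR.m1 fourR.m2), FourPerm.im_mul F fourR.m1 fourR.m2] at h
      have := h1.mul_right h
      rwa [← mul_assoc, ← FourPerm.im_mul F fourR.m1 fourR.m1, fourR.sq1, FourPerm.im_one, one_mul] at this
  have hK := (fourR.mem_K F).mpr ⟨h1, h2⟩
  have hg : g = (B.at' c)⁻¹ * g' * B.at' c := by rw [hg']; group
  refine ⟨hg ▸ mul_mem (mul_mem (inv_mem (B.at_mem c)) (B.fourR_le hK)) (B.at_mem c), fun n hn hgn => ?_⟩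
  have h3 := Big.fourR_odd hK hn (by rw [hg', conj_pow, hgn, mul_one, mul_inv_cancel])
  rw [hg', conj_pow] at h3
  exact conj_eq_one_iff.mp h3

/-- No conjugate of an involution moving four points moves eight. -/
theorem Big.not_s {v w : Perm (Fin 9)} (hv : v = fourU.v2 ∨ v = fourU.v1 * fourU.v2)
    (hw : w = fourU.v1 ∨ w = fourU.v2 ∨ w = fourU.v1 * fourU.v2) (g : G) :
    g * B.at' v * g⁻¹ ≠ B.at' (w * t9) := by
  intro e
  obtain ⟨p, hp, hpe⟩ := s_rep w hw
  have hsp : sign (inc63 (p, 1)) = 1 := by rw [sign_inc63, map_one, mul_one, hp]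
  have hsw : sign (w * t9) = 1 := by rcases hw with rfl | rfl | rfl <;> decide +kernel
  have hS : B.at' (inc63 (p, 1)) * B.at' (w * t9) * (B.at' (inc63 (p, 1)))⁻¹ = L.ι hS := by
    rw [← B.at_conj hsp hsw, hpe, mul_inv_cancel_right, B.at_theta]
  have hvz : Commute (FourPerm.im F z9) (B.at' v) := by
    rcases hv with rfl | rfl
    · rw [B.at_im fourU.m2]; exact FourPerm.im_commute F z9_mem fourU.m2 fourU.z2
    · rw [B.at_im (mul_mem fourU.m1 fourU.m2)]
      exact FourPerm.im_commute F z9_mem (mul_mem fourU.m1 fourU.m2) (by decide +kernel)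
  refine not_comm_s F (B.at' (inc63 (p, 1)) * g) ?_
  have h := hvz.map (MulAut.conj (B.at' (inc63 (p, 1)) * g)).toMonoidHom
  simp only [MulEquiv.coe_toMonoidHom, MulAut.conj_apply] at h
  rw [← hS, ← e, ← F.val_z]
  calc B.at' (inc63 (p, 1)) * g * F.val 1 z9 * (B.at' (inc63 (p, 1)) * g)⁻¹ *
        (B.at' (inc63 (p, 1)) * (g * B.at' v * g⁻¹) * (B.at' (inc63 (p, 1)))⁻¹)
      = B.at' (inc63 (p, 1)) * g * FourPerm.im F z9 * (B.at' (inc63 (p, 1)) * g)⁻¹ *
        (B.at' (inc63 (p, 1)) * g * B.at' v * (B.at' (inc63 (p, 1)) * g)⁻¹) := by group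
    _ = _ := h.eq
    _ = _ := by group

/-- The normalizer of the four-group fixing `(0 1)(2 3)`. -/
theorem Big.norm_U {g : G} (hu : Commute g (B.at' fourU.v1))
    (hv : g * B.at' fourU.v2 * g⁻¹ = B.at' fourU.v2 ∨
      g * B.at' fourU.v2 * g⁻¹ = B.at' (fourU.v1 * fourU.v2)) : g ∈ B.R := by
  have key : ∀ f : G, Commute f (B.at' fourU.v1) → f * B.at' fourU.v2 * f⁻¹ = B.at' fourU.v2 → f ∈ B.R := by
    intro f h1 h2
    refine B.fourU_le ((fourU.mem_K F).mpr ⟨?_, ?_⟩)
    · rw [← B.at_im fourU.m1]; exact h1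
    · rw [← B.at_im fourU.m2]; exact mul_inv_eq_iff_eq_mul.mp h2
  rcases hv with hv | hv
  · exact key g hu hv
  · obtain ⟨j, hj⟩ : ∃ j : Perm (Fin 9), j = swap 0 1 * swap 4 5 := ⟨_, rfl⟩
    obtain ⟨hsj, hju, hjv⟩ : sign j = 1 ∧ j * fourU.v1 = fourU.v1 * j ∧
        j * (fourU.v1 * fourU.v2) * j⁻¹ = fourU.v2 := by rw [hj]; decide +kernel
    have h := key (B.at' j * g) ((B.at_commute hsj (by decide +kernel) hju).mul_left hu) (by
      rw [show B.at' j * g * B.at' fourU.v2 * (B.at' j * g)⁻¹ = B.at' j * (g * B.at' fourU.v2 * g⁻¹) * (B.at' j)⁻¹ by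
        group, hv, ← B.at_conj hsj (by decide +kernel), hjv])
    have := mul_mem (inv_mem (B.at_mem j)) h
    rwa [inv_mul_cancel_left] at this

include B in
theorem Big.cent_u {g₀ : G} (hg₀ : Commute g₀ (B.at' fourU.v1)) : g₀ ∈ B.R := by
  haveI := Fact.mk Nat.prime_two
  set u := B.at' fourU.v1 with hu
  set X := Subgroup.centralizer ({u} : Set G) with hX
  have memX : ∀ g, g ∈ X ↔ Commute g u := fun g => Subgroup.mem_centralizer_singleton_iff
  have su : sign fourU.v1 = 1 := fourU.m1.1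
  have sv : sign fourU.v2 = 1 := fourU.m2.1
  have suv : sign (fourU.v1 * fourU.v2) = 1 := (mul_mem fourU.m1 fourU.m2).1
  have huu : u * u = 1 := by rw [hu, ← B.at_mul su su, fourU.sq1, B.at_one]
  have hu1 : u ≠ 1 := fun e => fourU.ne1 (B.at_inj su (map_one _) (by rw [B.at_one]; exact e))
  let uX : X := ⟨u, (memX _).mpr (Commute.refl _)⟩
  set S := Subgroup.zpowers uX with hS
  have hSmem : ∀ x : X, x ∈ S ↔ x = 1 ∨ x = uX := by
    intro x
    constructor
    · intro hx
      obtain ⟨k, rfl⟩ := Subgroup.mem_zpowers_iff.mp hx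
      have h2 : uX ^ (2 : ℤ) = 1 := by rw [zpow_ofNat, pow_two]; exact Subtype.ext huu
      rw [← Int.emod_add_mul_ediv k 2, zpow_add, zpow_mul, h2, one_zpow, mul_one]
      rcases (show k % 2 = 0 ∨ k % 2 = 1 by omega) with h | h
      · left; rw [h, zpow_zero]
      · right; rw [h, zpow_one]
    · rintro (rfl | rfl)
      exacts [one_mem _, Subgroup.mem_zpowers _]
  have huC : ∀ x : X, Commute x uX := fun x => Subtype.ext ((memX x.1).mp x.2).eq
  haveI hSn : S.Normal := ⟨fun n hn g => by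
    rcases (hSmem n).mp hn with rfl | rfl
    · rw [mul_one, mul_inv_cancel]; exact one_mem _
    · rw [(huC g).eq, mul_inv_cancel_right]; exact Subgroup.mem_zpowers _⟩
  set π := QuotientGroup.mk' S with hπ
  have hkerS : ∀ x : X, π x = 1 → (x : G) = 1 ∨ (x : G) = u := fun x hx => by
    rcases (hSmem x).mp ((QuotientGroup.eq_one_iff x).mp hx) with e | e
    · exact Or.inl (congrArg Subtype.val e)
    · exact Or.inr (congrArg Subtype.val e)
  have hatX : ∀ σ : Perm (Fin 9), sign σ = 1 → σ * fourU.v1 = fourU.v1 * σ → B.at' σ ∈ X := fun σ hs h =>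
    (memX _).mpr (B.at_commute hs su h)
  let vX : X := ⟨B.at' fourU.v2, hatX _ sv fourU.comm.symm⟩
  -- isolation
  have hvv : B.at' fourU.v2 * B.at' fourU.v2 = 1 := by rw [← B.at_mul sv sv, fourU.sq2, B.at_one]
  have huv : u * B.at' fourU.v2 = B.at' (fourU.v1 * fourU.v2) := (B.at_mul su sv).symm
  have hiso : Cfsg.IsIsolated (π vX) := by
    intro q hq
    obtain ⟨g, rfl⟩ := QuotientGroup.mk'_surjective S q
    rw [← hπ, ← map_inv, ← map_mul, ← map_mul] at hq ⊢
    set w := g * vX * g⁻¹ with hw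
    have hgu : (g : G) * u * (g : G)⁻¹ = u := by rw [((memX _).mp g.2).eq, mul_inv_cancel_right]
    have hwG : (w : G) = (g : G) * B.at' fourU.v2 * (g : G)⁻¹ := rfl
    have hwu : Commute (w : G) u := (memX _).mp w.2
    have hww : (w : G) * w = 1 := by
      rw [hwG]
      calc (g : G) * B.at' fourU.v2 * (g : G)⁻¹ * ((g : G) * B.at' fourU.v2 * (g : G)⁻¹)
          = (g : G) * (B.at' fourU.v2 * B.at' fourU.v2) * (g : G)⁻¹ := by group
        _ = 1 := by rw [hvv]; group
    have hwv : (w : G) * B.at' fourU.v2 * (w : G)⁻¹ = B.at' fourU.v2 ∨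
        (w : G) * B.at' fourU.v2 * (w : G)⁻¹ = B.at' (fourU.v1 * fourU.v2) := by
      have h1 : π ((vX * w)⁻¹ * (w * vX)) = 1 := by
        rw [map_mul, map_inv, map_mul _ vX w, map_mul _ w vX, hq.eq, inv_mul_cancel]
      rcases hkerS _ h1 with e | e
      · left
        have e' : B.at' fourU.v2 * (w : G) = (w : G) * B.at' fourU.v2 := inv_mul_eq_one.mp e
        rw [← e', mul_inv_cancel_right]
      · right
        have e' : (w : G) * B.at' fourU.v2 = B.at' fourU.v2 * (w : G) * u := inv_mul_eq_iff_eq_mul.mp e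
        rw [e', mul_assoc _ (w : G), hwu.eq, ← mul_assoc, mul_inv_cancel_right, ← huv]
        exact (B.at_commute sv su fourU.comm.symm).eq
    obtain ⟨σ, hs, hσw⟩ := B.exists_at (B.norm_U hwu hwv)
    have hσ2 : σ * σ = 1 := B.at_inj (by rw [map_mul, hs, mul_one]) (map_one _)
      (by rw [B.at_mul hs hs, hσw, hww, B.at_one])
    have hσu : σ * fourU.v1 = fourU.v1 * σ := B.of_commute hs su (hσw ▸ hwu)
    have hsvv : sign (σ * fourU.v2 * σ⁻¹) = 1 := by rw [map_mul, map_mul, map_inv, hs, sv]; rfl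
    rcases hwv with e | e
    · -- commuting with the four-group
      have hσv : σ * fourU.v2 = fourU.v2 * σ :=
        B.of_commute hs sv (hσw ▸ mul_inv_eq_iff_eq_mul.mp e)
      obtain ⟨⟨p, r⟩, hpr⟩ := exists_inc45 hσu
      obtain ⟨e1, e2, -, e4⟩ := inc45_values
      rw [← hpr, ← e1, ← map_mul, ← map_mul] at hσu
      rw [← hpr, ← e2, ← map_mul, ← map_mul] at hσv
      rw [← hpr, ← map_mul, ← map_one inc45] at hσ2
      obtain ⟨hsp, hp⟩ := four_comm p (congrArg Prod.fst (inc45_injective hσ2))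
        (congrArg Prod.fst (inc45_injective hσu)) (congrArg Prod.fst (inc45_injective hσv))
      have hsr : sign r = 1 := by rw [← hpr, sign_inc45, hsp, one_mul] at hs; exact hs
      by_cases hr : r = 1
      · subst hr
        rcases hp with rfl | rfl | rfl | rfl
        · exfalso
          rw [show σ = 1 by rw [← hpr]; exact map_one inc45, B.at_one] at hσw
          refine fourU.ne2 (B.at_inj sv (map_one _) ?_)
          rw [B.at_one]
          exact conj_eq_one_iff.mp (hwG ▸ hσw.symm)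
        · exfalso
          rw [← hpr, e1, hwG] at hσw
          refine fourU.ne (B.at_inj su sv ?_)
          refine mul_left_cancel (a := (g : G)) (mul_right_cancel (b := (g : G)⁻¹) ?_)
          show (g : G) * u * (g : G)⁻¹ = _
          rw [hgu, ← hσw]
        · refine congrArg π (Subtype.ext ?_)
          show (w : G) = B.at' fourU.v2
          rw [← hσw, ← hpr, e2]
        · rw [QuotientGroup.mk'_eq_mk']
          refine ⟨uX, Subgroup.mem_zpowers _, Subtype.ext ?_⟩
          show (w : G) * u = B.at' fourU.v2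
          rw [← hσw, hu, ← B.at_mul hs su, ← hpr, ← e1, ← e2, ← map_mul]
          exact congrArg (fun x => B.at' (inc45 x)) (by decide +kernel)
      · exfalso
        obtain ⟨k, hk, hkr⟩ := five_even r (congrArg Prod.snd (inc45_injective hσ2)) hsr hr
        set kk := inc45 (1, k) with hkk
        have hsk : sign kk = 1 := by rw [hkk, sign_inc45, map_one, one_mul, hk]
        have hconj : kk * σ * kk⁻¹ = inc45 (p, 1) * t9 := by
          rw [← hpr, ← e4, hkk, ← map_inv, ← map_mul, ← map_mul, ← map_mul]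
          exact congrArg inc45 (Prod.ext (by simp) (by simpa using hkr))
        have hat : B.at' kk * (w : G) * (B.at' kk)⁻¹ = B.at' (inc45 (p, 1) * t9) := by
          rw [← hσw, ← B.at_conj hsk hs, hconj]
        have hsu : ∀ v, inc45 (p, 1) = v → v = fourU.v1 ∨ v = fourU.v2 ∨ v = fourU.v1 * fourU.v2 → False := by
          intro v hv hv'
          refine B.not_s (Or.inl rfl) hv' (B.at' kk * g) ?_
          rw [← hv, ← hat, hwG]; group
        rcases hp with rfl | rfl | rfl | rfl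
        · -- the product with the central involution moves eight points
          refine B.not_s (Or.inr rfl) (Or.inl rfl) (B.at' kk * g) ?_
          have h1 : inc45 ((1 : Perm (Fin 4)), (1 : Perm (Fin 5))) = 1 := map_one inc45
          have hukk : kk * fourU.v1 * kk⁻¹ = fourU.v1 := by
            rw [hkk, ← e1, ← map_inv, ← map_mul, ← map_mul]
            exact congrArg inc45 (Prod.ext (by simp) (by simp))
          have hconj' : kk * (fourU.v1 * σ) * kk⁻¹ = fourU.v1 * t9 := by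
            rw [show kk * (fourU.v1 * σ) * kk⁻¹ = kk * fourU.v1 * kk⁻¹ * (kk * σ * kk⁻¹) by group, hukk, hconj, h1,
              one_mul]
          rw [← hconj', B.at_conj hsk (by rw [map_mul, su, hs, mul_one]), B.at_mul su hs, hσw, hwG, ← huv, ← hu]
          calc B.at' kk * g * (u * B.at' fourU.v2) * (B.at' kk * g)⁻¹
              = B.at' kk * ((g : G) * u * (g : G)⁻¹ * ((g : G) * B.at' fourU.v2 * (g : G)⁻¹)) * (B.at' kk)⁻¹ := by
                group
            _ = _ := by rw [hgu]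
        · exact hsu _ e1 (Or.inl rfl)
        · exact hsu _ e2 (Or.inr (Or.inl rfl))
        · refine hsu _ ?_ (Or.inr (Or.inr rfl))
          rw [← e1, ← e2, ← map_mul]; rfl
    · -- the four-group on six points has no element of order five
      exfalso
      have hσv : σ * fourU.v2 * σ⁻¹ = fourU.v1 * fourU.v2 :=
        B.at_inj hsvv suv (by rw [B.at_conj hs sv, hσw, e])
      obtain ⟨c, hc⟩ : ∃ c : Perm (Fin 9), c = inc45 (1, swap 0 1 * swap 1 2 * swap 2 3 * swap 3 4) := ⟨_, rfl⟩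
      obtain ⟨hsc, hc5, hc3, hcu, hcv⟩ : sign c = 1 ∧ c ^ 5 = 1 ∧ c ^ 3 ≠ 1 ∧ c * fourU.v1 = fourU.v1 * c ∧
          c * fourU.v2 = fourU.v2 * c := by rw [hc]; decide +kernel
      have hcc := (B.four_le hs hσ2 hσu hσv (g := (g : G) * B.at' c * (g : G)⁻¹) (by
          have := (B.at_commute hsc su hcu).map (MulAut.conj (g : G)).toMonoidHom
          simp only [MulEquiv.coe_toMonoidHom, MulAut.conj_apply] at this
          rwa [← hu, hgu] at this) (by
          rw [hσw, hwG]
          exact (B.at_commute hsc sv hcv).map (MulAut.conj (g : G)).toMonoidHom)).2 5 (by decide)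
        (by rw [conj_pow, ← B.at_pow hsc, hc5, B.at_one, mul_one, mul_inv_cancel])
      rw [conj_pow, ← B.at_pow hsc] at hcc
      exact hc3 (B.at_inj (by rw [map_pow, hsc, one_pow]) (map_one _)
        (by rw [B.at_one]; exact conj_eq_one_iff.mp hcc))
  have hord : orderOf (π vX) = 2 := by
    refine orderOf_eq_prime ?_ fun e => ?_
    · rw [← map_pow, show vX ^ 2 = 1 from Subtype.ext (by rw [pow_two]; exact hvv), map_one]
    · rcases hkerS _ e with e | e
      · exact fourU.ne2 (B.at_inj sv (map_one _) (by rw [B.at_one]; exact e))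
      · exact fourU.ne (B.at_inj su sv e.symm)
  -- the odd core of the quotient
  set N := Cfsg.pPrimeCore 2 (X ⧸ S) with hN
  have hNodd : Odd (Nat.card N) := Nat.coprime_two_right.mp (CfsgLib.card_pPrimeCore_coprime 2)
  have hlift : ∀ q ∈ N, ∃ x : X, π x = q ∧ ∃ n, Odd n ∧ x ^ n = 1 := by
    intro q hq
    obtain ⟨y, rfl⟩ := QuotientGroup.mk'_surjective S q
    have hn : Odd (orderOf (π y)) := Odd.of_dvd_nat hNodd (Subgroup.orderOf_dvd_natCard _ hq)
    refine ⟨y ^ (orderOf (π y) + 1), by rw [map_pow, pow_succ, pow_orderOf_eq_one, one_mul], _, hn, ?_⟩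
    obtain ⟨m, hm⟩ := hn
    have hyn : y ^ orderOf (π y) ∈ S := (QuotientGroup.eq_one_iff _).mp (by
      show π (y ^ orderOf (π y)) = 1
      rw [map_pow, pow_orderOf_eq_one])
    have h2 : (y ^ orderOf (π y)) ^ 2 = 1 := by
      rcases (hSmem _).mp hyn with e | e <;> rw [e]
      · exact one_pow 2
      · rw [pow_two]; exact Subtype.ext huu
    rw [← pow_mul, show (orderOf (π y) + 1) * orderOf (π y) = orderOf (π y) * (2 * (m + 1)) by rw [hm]; ring,
      pow_mul, pow_mul, h2, one_pow]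
  have hfix : ∀ (a x : X) (n : ℕ), Odd n → x ^ n = 1 → π a * π x * (π a)⁻¹ = π x → Commute (a : G) x := by
    intro a x n hn hxn h
    have h1 : π (a * x * a⁻¹ * x⁻¹) = 1 := by rw [map_mul, map_mul, map_mul, map_inv, map_inv, h, mul_inv_cancel]
    rcases hkerS _ h1 with e | e
    · exact mul_inv_eq_iff_eq_mul.mp (mul_inv_eq_one.mp e)
    · exfalso
      have e' : (a : G) * x * (a : G)⁻¹ = u * x := mul_inv_eq_iff_eq_mul.mp e
      have hxG : (x : G) ^ n = 1 := congrArg Subtype.val hxn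
      have := congrArg (· ^ n) e'
      simp only [conj_pow, hxG, mul_one, mul_inv_cancel, ((memX _).mp x.2).symm.mul_pow] at this
      obtain ⟨m, hm⟩ := hn
      rw [hm, pow_succ, pow_mul, pow_two, huu, one_pow, one_mul] at this
      exact hu1 this.symm
  -- no nontrivial element of order three of the subgroup lies in the odd core
  have hexcl : ∀ (σ : Perm (Fin 9)) (hs : sign σ = 1) (hσu : σ * fourU.v1 = fourU.v1 * σ), σ ^ 3 = 1 →
      π ⟨B.at' σ, hatX σ hs hσu⟩ ∈ N → σ = 1 := by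
    intro σ hs hσu h3 hmem
    obtain ⟨⟨p, r⟩, hpr⟩ := exists_inc45 hσu
    obtain ⟨e1, -, -, -⟩ := inc45_values
    have hσu' := hσu
    rw [← hpr, ← e1, ← map_mul, ← map_mul] at hσu'
    rw [← hpr, ← map_pow, ← map_one inc45] at h3
    have hp : p = 1 := pow_one_of_coprime (four_pow p (congrArg Prod.fst (inc45_injective hσu')))
      (congrArg Prod.fst (inc45_injective h3)) (by norm_num)
    subst hp
    by_contra hne
    have hr : r ≠ 1 := fun e => hne (by rw [← hpr, e]; exact map_one inc45)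
    obtain ⟨k, hk, hw1, hw2⟩ := five_three r (congrArg Prod.snd (inc45_injective h3)) hr
    obtain ⟨kk, hkk⟩ : ∃ kk, kk = inc45 (1, k) := ⟨_, rfl⟩
    have hsk : sign kk = 1 := by rw [hkk, sign_inc45, map_one, one_mul, hk]
    have hku : kk * fourU.v1 = fourU.v1 * kk := by
      rw [hkk, ← e1, ← map_mul, ← map_mul]
      exact congrArg inc45 (Prod.ext (by simp) (by simp))
    obtain ⟨w, hw⟩ : ∃ w, w = σ * (kk * σ * kk⁻¹) := ⟨_, rfl⟩
    have hw' : w = inc45 (1, r * (k * r * k⁻¹)) := by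
      rw [hw, ← hpr, hkk, ← map_inv, ← map_mul, ← map_mul, ← map_mul]
      exact congrArg inc45 (Prod.ext (by simp) rfl)
    have hsc : sign (kk * σ * kk⁻¹) = 1 := by rw [map_mul, map_mul, map_inv, hsk, hs]; rfl
    have hsw : sign w = 1 := by rw [hw, map_mul, hs, hsc, mul_one]
    have hwu : w * fourU.v1 = fourU.v1 * w := by
      rw [hw', ← e1, ← map_mul, ← map_mul]
      exact congrArg inc45 (Prod.ext (by simp) (by simp))
    let kX : X := ⟨B.at' kk, hatX kk hsk hku⟩
    let sX : X := ⟨B.at' σ, hatX σ hs hσu⟩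
    have hwX : (⟨B.at' w, hatX w hsw hwu⟩ : X) = sX * (kX * sX * kX⁻¹) := Subtype.ext (by
      show B.at' w = B.at' σ * (B.at' kk * B.at' σ * (B.at' kk)⁻¹)
      rw [hw, B.at_mul hs hsc, B.at_conj hsk hs])
    have hmemw : π ⟨B.at' w, hatX w hsw hwu⟩ ∈ N := by
      rw [hwX, map_mul, map_mul, map_mul, map_inv]
      exact mul_mem hmem ((inferInstance : N.Normal).conj_mem _ hmem _)
    have hw2' : (π ⟨B.at' w, hatX w hsw hwu⟩) ^ 2 = 1 := by
      rw [← map_pow, show (⟨B.at' w, hatX w hsw hwu⟩ : X) ^ 2 = 1 from Subtype.ext (by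
        rw [pow_two]
        show B.at' w * B.at' w = 1
        rw [← B.at_mul hsw hsw, hw', ← map_mul, Prod.mk_mul_mk, one_mul, hw2,
          show ((1 : Perm (Fin 4)), (1 : Perm (Fin 5))) = 1 from rfl, map_one, B.at_one]), map_one]
    have hone : π ⟨B.at' w, hatX w hsw hwu⟩ = 1 := by
      refine orderOf_eq_one_iff.mp (Nat.eq_one_of_dvd_coprimes (Nat.coprime_two_right.mpr hNodd)
        (Subgroup.orderOf_dvd_natCard _ hmemw) (orderOf_dvd_of_pow_eq_one hw2'))
    rcases hkerS _ hone with e | e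
    · have := B.at_inj hsw (map_one _) (by rw [B.at_one]; exact e)
      rw [hw', ← map_one inc45] at this
      exact hw1 (congrArg Prod.snd (inc45_injective this))
    · have := B.at_inj hsw su e
      rw [hw', ← e1] at this
      exact (by decide +kernel : (1 : Perm (Fin 4)) ≠ u4) (congrArg Prod.fst (inc45_injective this))
  -- the two elements inverting the core
  have hinv : ∀ a : Perm (Fin 9), a = swap 0 1 * swap 6 7 ∨ a = swap 0 1 * swap 7 8 →
      ∃ ha : B.at' a ∈ X, ∀ q ∈ N, π ⟨B.at' a, ha⟩ * q * (π ⟨B.at' a, ha⟩)⁻¹ = q⁻¹ := by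
    intro a ha
    obtain ⟨hsa, haa, hau, hav⟩ : sign a = 1 ∧ a * a = 1 ∧ a * fourU.v1 = fourU.v1 * a ∧
        a * fourU.v2 * a⁻¹ = fourU.v1 * fourU.v2 := by
      rcases ha with rfl | rfl <;> decide +kernel
    refine ⟨hatX a hsa hau, A8ThreeLocal.inverts_fpf ?_ (fun q hq => (inferInstance : N.Normal).conj_mem q hq _) ?_⟩
    · rw [← map_mul, show (⟨B.at' a, hatX a hsa hau⟩ : X) * ⟨B.at' a, hatX a hsa hau⟩ = 1 from Subtype.ext (by
        show B.at' a * B.at' a = 1
        rw [← B.at_mul hsa hsa, haa, B.at_one]), map_one]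
    · intro q hq he
      obtain ⟨x, rfl, n, hn, hxn⟩ := hlift q hq
      have hc : Commute (B.at' a) (x : G) := hfix _ x n hn hxn he
      obtain ⟨hR, h3⟩ := B.four_le hsa haa hau hav ((memX _).mp x.2) hc.symm
      obtain ⟨σ, hs, hσ⟩ := B.exists_at hR
      have hσu : σ * fourU.v1 = fourU.v1 * σ := B.of_commute hs su (hσ ▸ (memX _).mp x.2)
      have hσ3 : σ ^ 3 = 1 := B.at_inj (by rw [map_pow, hs, one_pow]) (map_one _) (by
        rw [B.at_pow hs, hσ, h3 n hn (congrArg Subtype.val hxn), B.at_one])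
      have hxe : x = ⟨B.at' σ, hatX σ hs hσu⟩ := Subtype.ext hσ.symm
      have h1 := hexcl σ hs hσu hσ3 (hxe ▸ hq)
      rw [show x = 1 from Subtype.ext (by rw [← hσ, h1, B.at_one]; rfl), map_one]
  -- the odd core is trivial
  have hN1 : ∀ q ∈ N, q = 1 := by
    intro q hq
    obtain ⟨x, rfl, n, hn, hxn⟩ := hlift q hq
    obtain ⟨ha1, hi1⟩ := hinv _ (Or.inl rfl)
    obtain ⟨ha2, hi2⟩ := hinv _ (Or.inr rfl)
    have hzu : z9 * fourU.v1 = fourU.v1 * z9 := fourU.z1
    have hz : (⟨B.at' z9, hatX z9 z9_mem.1 hzu⟩ : X) = ⟨_, ha1⟩ * ⟨_, ha2⟩ := Subtype.ext (by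
      show B.at' z9 = B.at' (swap 0 1 * swap 6 7) * B.at' (swap 0 1 * swap 7 8)
      rw [← B.at_mul (by decide +kernel) (by decide +kernel)]
      exact congrArg B.at' (by decide +kernel))
    have hcz : Commute (B.at' z9) (x : G) := by
      refine hfix ⟨B.at' z9, hatX z9 z9_mem.1 hzu⟩ x n hn hxn ?_
      rw [hz, map_mul, mul_inv_rev,
        show ∀ s t y : X ⧸ S, s * t * y * (t⁻¹ * s⁻¹) = s * (t * y * t⁻¹) * s⁻¹ from fun s t y => by group,
        hi2 _ hq, hi1 _ (inv_mem hq), inv_inv]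
    rw [B.at_im z9_mem] at hcz
    obtain ⟨σ, hs, hσ⟩ := B.exists_at (B.norm_z_le (Or.inl (by rw [hcz.symm.eq, mul_inv_cancel_right])))
    have hσu : σ * fourU.v1 = fourU.v1 * σ := B.of_commute hs su (hσ ▸ (memX _).mp x.2)
    have hσz : σ * z9 = z9 * σ := B.of_commute hs z9_mem.1 (by rw [hσ, B.at_im z9_mem]; exact hcz.symm)
    have hσn : σ ^ n = 1 := B.at_inj (by rw [map_pow, hs, one_pow]) (map_one _) (by
      rw [B.at_pow hs, hσ, B.at_one]; exact congrArg Subtype.val hxn)
    have hσ3 : σ ^ 3 = 1 := by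
      obtain ⟨⟨p, r⟩, hpr⟩ := exists_inc45 hσu
      obtain ⟨e1, -, e3, -⟩ := inc45_values
      have hσu' := hσu
      rw [← hpr, ← e1, ← map_mul, ← map_mul] at hσu'
      rw [← hpr, ← e3, ← map_mul, ← map_mul] at hσz
      rw [← hpr, ← map_pow, ← map_one inc45] at hσn
      have hn2 : Nat.Coprime 2 n := Nat.coprime_two_left.mpr hn
      have hp : p = 1 := pow_one_of_coprime (four_pow p (congrArg Prod.fst (inc45_injective hσu')))
        (congrArg Prod.fst (inc45_injective hσn)) (Nat.Coprime.pow_left 2 hn2)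
      have hr : r ^ 3 = 1 := by
        have h6 := five_cz r (congrArg Prod.snd (inc45_injective hσz))
        refine pow_one_of_coprime (m := 2) (n := n) (by rw [← pow_mul]; exact h6) ?_ hn2
        have h := congrArg Prod.snd (inc45_injective hσn)
        rw [← pow_mul, mul_comm 3 n, pow_mul, show r ^ n = 1 from h, one_pow]
      rw [← hpr, ← map_pow, ← map_one inc45]
      exact congrArg inc45 (Prod.ext (by simp [hp]) hr)
    have hxe : x = ⟨B.at' σ, hatX σ hs hσu⟩ := Subtype.ext hσ.symm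
    have h1 := hexcl σ hs hσu hσ3 (hxe ▸ hq)
    rw [show x = 1 from Subtype.ext (by rw [← hσ, h1, B.at_one]; rfl), map_one]
  -- conclusion
  let g : X := ⟨g₀, (memX _).mpr hg₀⟩
  have hcomm : π (vX * g * vX⁻¹ * g⁻¹) = 1 := by
    rw [map_mul, map_mul, map_mul, map_inv, map_inv]
    exact hN1 _ (CfsgLib.ZStar.commutator_mem hord hiso _)
  have hgu : Commute g₀ u := hg₀
  refine B.norm_U hg₀ ?_
  rcases hkerS _ hcomm with e | e
  · left
    have e' : B.at' fourU.v2 * g₀ = g₀ * B.at' fourU.v2 :=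
      mul_inv_eq_iff_eq_mul.mp (mul_inv_eq_one.mp e)
    rw [← e', mul_inv_cancel_right]
  · right
    have e' : B.at' fourU.v2 * g₀ * (B.at' fourU.v2)⁻¹ = u * g₀ := mul_inv_eq_iff_eq_mul.mp e
    have e'' : g₀ * B.at' fourU.v2 = u * (B.at' fourU.v2 * g₀) := by
      have h2 : B.at' fourU.v2 * g₀ = u * g₀ * B.at' fourU.v2 := mul_inv_eq_iff_eq_mul.mp e'
      rw [h2, mul_assoc u g₀, ← mul_assoc u u, huu, one_mul]
    rw [e'', show u * (B.at' fourU.v2 * g₀) * g₀⁻¹ = u * B.at' fourU.v2 by group, huv]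

end CfsgLib.A9Three
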