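import Cfsg.Agent.Lib.A9Three.Quotient

set_option autoImplicit false
set_option synthInstance.maxSize 2000

/-!
The centralizer of a translation modulo that translation, with the image of the translations.
-/

namespace CfsgLib.A9Three

open CfsgLib.A9Local

universe u

theorem tr_comm (v w : Vec) : tr v * tr w = tr w * tr v := by rw [tr_mul, tr_mul, add_comm]

theorem tr_ne_one {v : Vec} (hv : v ≠ 0) : tr v ≠ 1 := fun e => hv (congrArg HM.v e)

theorem mem_transl_iff (h : HM) : h ∈ transl ↔ ∃ v : Vec, h = tr v := by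
  constructor
  · intro hh
    obtain ⟨v, r⟩ := h
    replace hh : r = 0 := hh
    exact ⟨v, by rw [hh]⟩
  · rintro ⟨v, rfl⟩
    rfl

theorem smul_mod (k : ℕ) (v : Vec) : k • v = (k % 3) • v := by
  conv_lhs => rw [← Nat.mod_add_div k 3, add_smul, mul_smul]
  rw [(by decide : ∀ v : Vec, (3 : ℕ) • v = 0), add_zero]

variable {G : Type u} [Group G] [Finite G]

namespace Loc

variable (L : Loc G) (v : Vec)

/-- The centralizer of a translation. -/
abbrev Cv : Subgroup G := Subgroup.centralizer ({L.ι (tr v)} : Set G)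

/-- The translation in its centralizer. -/
def zv : L.Cv v := ⟨L.ι (tr v), Subgroup.mem_centralizer_singleton_iff.mpr rfl⟩

/-- The subgroup generated by the translation. -/
abbrev Zv : Subgroup (L.Cv v) := Subgroup.zpowers (L.zv v)

theorem Zv_center : L.Zv v ≤ Subgroup.center (L.Cv v) :=
  Subgroup.zpowers_le.mpr (Subgroup.mem_center_iff.mpr fun g =>
    Subtype.ext (Subgroup.mem_centralizer_singleton_iff.mp g.2))

instance : (L.Zv v).Normal where
  conj_mem n hn g := by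
    rw [Subgroup.mem_center_iff.mp (L.Zv_center v hn) g, mul_inv_cancel_right]
    exact hn

theorem card_Zv (hv : v ≠ 0) : Nat.card (L.Zv v) = 3 := by
  haveI : Fact (Nat.Prime 3) := ⟨Nat.prime_three⟩
  rw [Nat.card_zpowers]
  exact orderOf_eq_prime (Subtype.ext (L.tr_pow_three v))
    fun e => tr_ne_one hv (L.inj (by rw [map_one]; exact congrArg Subtype.val e))

/-- The projection. -/
abbrev π : L.Cv v →* L.Cv v ⧸ L.Zv v := QuotientGroup.mk' (L.Zv v)

theorem J_le_Cv : L.J ≤ L.Cv v := by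
  rintro _ ⟨x, hx, rfl⟩
  obtain ⟨w, rfl⟩ := (mem_transl_iff x).mp hx
  rw [Subgroup.mem_centralizer_singleton_iff, ← map_mul, ← map_mul, tr_comm]

/-- A translation in the quotient. -/
def img (w : Vec) : L.Cv v ⧸ L.Zv v := L.π v ⟨L.ι (tr w), L.J_le_Cv v ⟨tr w, rfl, rfl⟩⟩

theorem img_mul (w w' : Vec) : L.img v w * L.img v w' = L.img v (w + w') := by
  unfold img
  rw [← map_mul]
  refine congrArg (L.π v) (Subtype.ext ?_)
  show L.ι (tr w) * L.ι (tr w') = _
  rw [← map_mul, tr_mul]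

theorem img_inv (w : Vec) : (L.img v w)⁻¹ = L.img v (-w) := by
  refine inv_eq_of_mul_eq_one_right ?_
  rw [img_mul, add_neg_cancel]
  unfold img
  rw [← map_one (L.π v)]
  exact congrArg (L.π v) (Subtype.ext (by show L.ι (tr 0) = 1; rw [show tr 0 = (1 : HM) from rfl, map_one]))

/-- Conjugation of translations in the quotient. -/
theorem lift_conj {g : L.Cv v} {w w' : Vec} (h : L.π v g * L.img v w * (L.π v g)⁻¹ = L.img v w') :
    ∃ k : Fin 3, (g : G) * L.ι (tr w) * (g : G)⁻¹ = L.ι (tr (w' + k.val • v)) := by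
  unfold img at h
  rw [← map_mul, ← map_inv, ← map_mul, eq_comm, QuotientGroup.mk'_apply, QuotientGroup.mk'_apply,
    QuotientGroup.eq] at h
  obtain ⟨k, hk⟩ := mem_powers_iff_mem_zpowers.mpr h
  have hk' := congrArg Subtype.val hk
  have e : (g : G) * L.ι (tr w) * (g : G)⁻¹ = L.ι (tr w') * L.ι (tr v) ^ k := by
    have : L.ι (tr v) ^ k = (L.ι (tr w'))⁻¹ * ((g : G) * L.ι (tr w) * (g : G)⁻¹) := hk'
    rw [this, mul_inv_cancel_left]
  refine ⟨⟨k % 3, Nat.mod_lt _ (by norm_num)⟩, ?_⟩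
  rw [e, ← map_pow, ← map_mul, tr_pow, tr_mul, ← smul_mod]

theorem img_eq_one {w : Vec} (h : L.img v w = 1) : ∃ k : Fin 3, w = k.val • v := by
  unfold img at h
  rw [QuotientGroup.mk'_apply, QuotientGroup.eq_one_iff] at h
  obtain ⟨k, hk⟩ := mem_powers_iff_mem_zpowers.mpr h
  have hk' : L.ι (tr v) ^ k = L.ι (tr w) := congrArg Subtype.val hk
  rw [← map_pow, tr_pow] at hk'
  exact ⟨⟨k % 3, Nat.mod_lt _ (by norm_num)⟩, by rw [← smul_mod]; exact (congrArg HM.v (L.inj hk')).symm⟩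

variable (hv : ∀ h : HM, h * tr v = tr v * h → cube (cube (cube (cube h))) = 1 → h.g = 0)

include hv in
/-- The translations form a Sylow subgroup of the centralizer. -/
theorem exists_sylow : ∃ S : Sylow 3 (L.Cv v), (S : Subgroup (L.Cv v)) = L.J.subgroupOf (L.Cv v) := by
  haveI : Fact (Nat.Prime 3) := ⟨Nat.prime_three⟩
  set JC := L.J.subgroupOf (L.Cv v)
  obtain ⟨S, hS⟩ := (IsPGroup.of_card (p := 3) (n := 3) (G := JC) (by
    rw [Nat.card_congr (Subgroup.subgroupOfEquivOfLe (L.J_le_Cv v)).toEquiv, L.card_J]; norm_num)).exists_le_sylow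
  refine ⟨S, ?_⟩
  by_contra hne
  have hlt : JC < (S : Subgroup (L.Cv v)) := lt_of_le_of_ne hS (Ne.symm hne)
  haveI : Group.IsNilpotent (S : Subgroup (L.Cv v)) := S.2.isNilpotent
  have hlt' : JC.subgroupOf (S : Subgroup (L.Cv v)) < ⊤ :=
    lt_top_iff_ne_top.mpr fun e => hne (le_antisymm (Subgroup.subgroupOf_eq_top.mp e) hS)
  obtain ⟨g, hgn, hg⟩ := SetLike.exists_of_lt (Group.normalizerCondition_of_isNilpotent _ hlt')
  have hgN : ((g : L.Cv v) : G) ∈ Subgroup.normalizer (L.J : Set G) := by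
    rw [Subgroup.mem_normalizer_iff]
    intro z
    refine ⟨fun hz => (Subgroup.mem_normalizer_iff.mp hgn ⟨⟨z, L.J_le_Cv v hz⟩, hS hz⟩).mp hz, fun hz => ?_⟩
    have hzC : z ∈ L.Cv v := by
      have := mul_mem (mul_mem (inv_mem (g : L.Cv v).2) (L.J_le_Cv v hz)) (g : L.Cv v).2
      simpa [mul_assoc] using this
    have hzS : (⟨z, hzC⟩ : L.Cv v) ∈ (S : Subgroup (L.Cv v)) := by
      have h1 : (g : L.Cv v) * ⟨z, hzC⟩ * (g : L.Cv v)⁻¹ ∈ (S : Subgroup (L.Cv v)) := hS hz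
      have := mul_mem (mul_mem (inv_mem g.2) h1) g.2
      simpa [mul_assoc] using this
    exact (Subgroup.mem_normalizer_iff.mp hgn ⟨⟨z, hzC⟩, hzS⟩).mpr hz
  rw [L.norm] at hgN
  obtain ⟨h, hh⟩ := hgN
  refine hg ?_
  show ((g : L.Cv v) : G) ∈ L.J
  refine hh ▸ ⟨h, hv h (L.inj ?_) ?_, rfl⟩
  · rw [map_mul, map_mul, hh]
    exact Subgroup.mem_centralizer_singleton_iff.mp (g : L.Cv v).2
  · obtain ⟨k, hk⟩ := S.2 g
    have h3 : h ^ 3 ^ k = 1 := L.inj (by
      rw [map_pow, hh, map_one]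
      exact congrArg Subtype.val (congrArg Subtype.val hk))
    have hd : orderOf h ∣ 3 ^ k := orderOf_dvd_of_pow_eq_one h3
    have hd2 : orderOf h ∣ 8 * 81 := by
      have := orderOf_dvd_natCard h
      rwa [Nat.card_eq_fintype_card (α := HM), card_HM] at this
    have h8 : (orderOf h).Coprime 8 := Nat.Coprime.coprime_dvd_left hd (Nat.Coprime.pow_left k (by norm_num))
    simp only [cube_eq, ← pow_mul]
    exact orderOf_dvd_iff_pow_eq_one.mp (h8.dvd_of_dvd_mul_left hd2)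

include hv in
/-- Their image is a Sylow subgroup of order nine of the quotient. -/
theorem exists_sylow_quot (hv0 : v ≠ 0) : ∃ W : Sylow 3 (L.Cv v ⧸ L.Zv v), Nat.card (W : Subgroup (L.Cv v ⧸ L.Zv v)) = 9 ∧
    (∀ y ∈ (W : Subgroup (L.Cv v ⧸ L.Zv v)), ∃ w, y = L.img v w) ∧ (∀ w, L.img v w ∈ (W : Subgroup (L.Cv v ⧸ L.Zv v))) ∧
    ∀ n ∈ Subgroup.normalizer ((W : Subgroup (L.Cv v ⧸ L.Zv v)) : Set (L.Cv v ⧸ L.Zv v)),
      ∃ g : L.Cv v, L.π v g = n ∧ (g : G) ∈ L.ι.range := by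
  haveI : Fact (Nat.Prime 3) := ⟨Nat.prime_three⟩
  obtain ⟨S, hS⟩ := L.exists_sylow v hv
  have hsurj : Function.Surjective (L.π v) := QuotientGroup.mk'_surjective _
  refine ⟨S.mapSurjective hsurj, ?_⟩
  have hW : (S.mapSurjective hsurj : Subgroup (L.Cv v ⧸ L.Zv v)) = (L.J.subgroupOf (L.Cv v)).map (L.π v) := by
    rw [← hS]; rfl
  have hker : (L.π v).ker ≤ L.J.subgroupOf (L.Cv v) := by
    rw [QuotientGroup.ker_mk']
    exact Subgroup.zpowers_le.mpr ⟨tr v, rfl, rfl⟩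
  have hmem : ∀ w, L.img v w ∈ (S.mapSurjective hsurj : Subgroup (L.Cv v ⧸ L.Zv v)) := fun w => by
    rw [hW]; exact Subgroup.mem_map_of_mem _ ⟨tr w, rfl, rfl⟩
  refine ⟨?_, ?_, hmem, ?_⟩
  · rw [hW]
    set W := (L.J.subgroupOf (L.Cv v)).map (L.π v)
    have h1 : W.index = (L.J.subgroupOf (L.Cv v)).index := Subgroup.index_map_eq _ hsurj hker
    have h2 := W.card_mul_index
    have h3 := (L.J.subgroupOf (L.Cv v)).card_mul_index
    have h4 := (L.Zv v).card_mul_index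
    rw [show Nat.card (L.Cv v ⧸ L.Zv v) = (L.Zv v).index from rfl] at h2
    rw [Nat.card_congr (Subgroup.subgroupOfEquivOfLe (L.J_le_Cv v)).toEquiv, L.card_J, ← h4, L.card_Zv v hv0, ← h1,
      ← h2] at h3
    have hpos : 0 < W.index := Nat.pos_of_ne_zero Subgroup.index_ne_zero_of_finite
    nlinarith
  · intro y hy
    rw [hW] at hy
    obtain ⟨g, ⟨x, hx, hxg⟩, rfl⟩ := hy
    obtain ⟨w, rfl⟩ := (mem_transl_iff x).mp hx
    exact ⟨w, congrArg (L.π v) (Subtype.ext hxg.symm)⟩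
  · intro n hn
    obtain ⟨g, rfl⟩ := hsurj n
    refine ⟨g, rfl, ?_⟩
    rw [← L.norm, Subgroup.mem_normalizer_iff]
    have key : ∀ z : L.Cv v, (z : G) ∈ L.J ↔ L.π v z ∈ (S.mapSurjective hsurj : Subgroup (L.Cv v ⧸ L.Zv v)) := fun z => by
      rw [hW, ← Subgroup.mem_comap, Subgroup.comap_map_eq_self hker]
      rfl
    intro z
    constructor
    · intro hz
      refine (key (g * ⟨z, L.J_le_Cv v hz⟩ * g⁻¹)).mpr ?_
      rw [map_mul, map_mul, map_inv]
      exact (Subgroup.mem_normalizer_iff.mp hn _).mp ((key _).mp hz)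
    · intro hz
      have hzC : z ∈ L.Cv v := by
        have := mul_mem (mul_mem (inv_mem g.2) (L.J_le_Cv v hz)) g.2
        simpa [mul_assoc] using this
      have h2 := (key (g * ⟨z, hzC⟩ * g⁻¹)).mp hz
      rw [map_mul, map_mul, map_inv] at h2
      exact (key ⟨z, hzC⟩).mpr ((Subgroup.mem_normalizer_iff.mp hn _).mpr h2)

end Loc

end CfsgLib.A9Three
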