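import Cfsg.Agent.Lib.A9Three.Block

set_option autoImplicit false
set_option maxRecDepth 8000
set_option synthInstance.maxSize 2000

/-!
The two classes of involutions are distinguished by the elements of order three centralizing them.
-/

namespace CfsgLib.A9Three

open CfsgLib.A9Local Equiv Equiv.Perm

universe u

/-- The involution moving eight points. -/
abbrev hS : HM := ⟨(0, 0, 1), 8⟩

theorem hS_eq : theta hS = swap 0 3 * swap 1 4 * swap 2 5 * swap 6 7 := by decide +kernel

theorem hS_three : ∀ h : HM, h * hS = hS * h → h * betaH = betaH * h → cube (cube (cube (cube h))) = 1 →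
    h = 1 ∨ h = betaH ∨ h = betaH⁻¹ := by decide +kernel

theorem hS_beta : hS * betaH = betaH * hS ∧ betaH ^ 3 = 1 ∧ betaH ≠ 1 := by decide +kernel

/-- A five-cycle. -/
abbrev c5 : Perm (Fin 9) := swap 0 1 * swap 1 2 * swap 2 3 * swap 3 4

theorem c5_spec : c5 ∈ M2 ∧ c5 ^ 5 = 1 ∧ c5 ≠ 1 ∧ theta (tr aV) * c5 = c5 * theta (tr aV) := by decide +kernel

theorem aV_ne : aV ≠ 0 := by decide

variable {G : Type u} [Group G] [Finite G] {L : Loc G} (F : Frame L)

include F in
/-- An element of order five commutes with the short translation, none with the long one. -/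
theorem not_conj_beta (g : G) : g * L.ι (tr aV) * g⁻¹ ≠ L.ι betaH ∧ g * L.ι (tr aV) * g⁻¹ ≠ (L.ι betaH)⁻¹ := by
  obtain ⟨hm, h5, h1, hc⟩ := c5_spec
  haveI : Fact (Nat.Prime 5) := ⟨by norm_num⟩
  set f := F.val 1 c5
  have hf5 : orderOf f = 5 := by
    refine orderOf_eq_prime ?_ fun e => h1 (F.val_injective (inBlk_one.mpr hm) (InBlk.one 1) (by rw [F.val_one]; exact e))
    rw [← (F.val_pow (inBlk_one.mpr hm) 5).2, h5, F.val_one]
  have hfz : Commute f (L.ι (tr aV)) := by
    have ht : theta (tr aV) ∈ M2 := by decide +kernel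
    rw [← F.val_theta (inBlk_one.mpr ht)]
    exact F.val_commute (inBlk_one.mpr hm) (inBlk_one.mpr ht) hc.symm
  have key : ∀ b : G, g * L.ι (tr aV) * g⁻¹ = b → (∀ x : G, Commute x b → x ∈ L.ι.range) → False := by
    intro b hb hrange
    have hx := hrange (g * f * g⁻¹) (by
      rw [← hb]; exact hfz.map (MulAut.conj g).toMonoidHom)
    obtain ⟨h, hh⟩ := hx
    have ho : orderOf (g * f * g⁻¹) = 5 := by
      rw [show g * f * g⁻¹ = MulAut.conj g f from rfl, MulEquiv.orderOf_eq, hf5]
    rw [← hh, orderOf_injective L.ι L.inj] at ho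
    have := orderOf_dvd_natCard h
    rw [ho, Nat.card_eq_fintype_card (α := HM), card_HM] at this
    norm_num at this
  refine ⟨fun e => key _ e fun x hx => L.cent_beta_le (Subgroup.mem_centralizer_singleton_iff.mpr hx.eq),
    fun e => key _ e fun x hx => L.cent_beta_le (Subgroup.mem_centralizer_singleton_iff.mpr ?_)⟩
  have := hx.inv_right
  rw [inv_inv] at this
  exact this.eq

include F in
/-- No conjugate of the short translation centralizes the involution moving eight points. -/
theorem not_comm_s (g : G) : ¬ Commute (g * L.ι (tr aV) * g⁻¹) (L.ι hS) := by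
  intro hg
  haveI := Fact.mk Nat.prime_three
  obtain ⟨hsb, hb3, hb1⟩ := hS_beta
  set C := Subgroup.centralizer ({L.ι hS} : Set G) with hC
  set b : C := ⟨L.ι betaH, Subgroup.mem_centralizer_singleton_iff.mpr
    ((show Commute hS betaH from hsb).map L.ι).symm.eq⟩ with hb
  set a : C := ⟨g * L.ι (tr aV) * g⁻¹, Subgroup.mem_centralizer_singleton_iff.mpr hg.eq⟩ with ha
  have hbo : orderOf b = 3 := by
    refine orderOf_eq_prime (Subtype.ext ?_) fun e => hb1 (L.inj (by rw [map_one]; exact congrArg Subtype.val e))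
    show L.ι betaH ^ 3 = 1
    rw [← map_pow, hb3, map_one]
  obtain ⟨P, hP⟩ := (IsPGroup.of_card (p := 3) (n := 1) (G := Subgroup.zpowers b)
    (by rw [Nat.card_zpowers, hbo, pow_one])).exists_le_sylow
  have hPb : (P : Subgroup C) = Subgroup.zpowers b := by
    by_contra hne
    have hlt : Subgroup.zpowers b < (P : Subgroup C) := lt_of_le_of_ne hP (Ne.symm hne)
    haveI : Group.IsNilpotent (P : Subgroup C) := P.2.isNilpotent
    have hlt' : (Subgroup.zpowers b).subgroupOf (P : Subgroup C) < ⊤ :=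
      lt_top_iff_ne_top.mpr fun e => hne (le_antisymm (Subgroup.subgroupOf_eq_top.mp e) hP)
    obtain ⟨n, hnn, hn⟩ := SetLike.exists_of_lt (Group.normalizerCondition_of_isNilpotent _ hlt')
    have hnb := (Subgroup.mem_normalizer_iff.mp hnn ⟨b, hP (Subgroup.mem_zpowers b)⟩).mp (Subgroup.mem_zpowers b)
    have hcases : (n : C) * b * (n : C)⁻¹ = b ∨ (n : C) * b * (n : C)⁻¹ = b⁻¹ := by
      obtain ⟨i, hi⟩ := Subgroup.mem_zpowers_iff.mp (show (n : C) * b * (n : C)⁻¹ ∈ Subgroup.zpowers b from hnb)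
      have h3 : b ^ (3 : ℤ) = 1 := by rw [zpow_ofNat, ← hbo]; exact pow_orderOf_eq_one b
      rw [← hi, ← Int.emod_add_mul_ediv i 3, zpow_add, zpow_mul, h3, one_zpow, mul_one]
      rcases (show i % 3 = 0 ∨ i % 3 = 1 ∨ i % 3 = 2 by omega) with e | e | e
      · exfalso
        rw [← Int.emod_add_mul_ediv i 3, zpow_add, zpow_mul, h3, one_zpow, mul_one, e, zpow_zero] at hi
        rw [conj_eq_one_iff.mp hi.symm, orderOf_one] at hbo
        omega
      · left; rw [e, zpow_one]
      · right
        rw [e, eq_inv_iff_mul_eq_one, ← zpow_add_one, show (2 : ℤ) + 1 = 3 by norm_num, h3]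
    obtain ⟨k, hk⟩ := P.2 n
    have hnk : (n : C) ^ 3 ^ k = 1 := congrArg Subtype.val hk
    have hcomm : Commute (n : C) b := by
      rcases hcases with e | e
      · exact mul_inv_eq_iff_eq_mul.mp e
      · exfalso
        have hiter : ∀ m : ℕ, (n : C) ^ (2 * m + 1) * b * ((n : C) ^ (2 * m + 1))⁻¹ = b⁻¹ := by
          intro m
          induction m with
          | zero => rw [mul_zero, zero_add, pow_one, e]
          | succ m ih =>
            rw [show 2 * (m + 1) + 1 = 1 + (1 + (2 * m + 1)) by ring, pow_add, pow_add, pow_one]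
            calc (n : C) * ((n : C) * (n : C) ^ (2 * m + 1)) * b * ((n : C) * ((n : C) * (n : C) ^ (2 * m + 1)))⁻¹
                = (n : C) * ((n : C) * ((n : C) ^ (2 * m + 1) * b * ((n : C) ^ (2 * m + 1))⁻¹) * (n : C)⁻¹) * (n : C)⁻¹ := by group
              _ = b⁻¹ := by rw [ih, ← conj_inv, e, inv_inv, e]
        obtain ⟨m, hm⟩ : Odd (3 ^ k) := (by decide : Odd 3).pow
        have h1 := hiter m
        rw [← hm, hnk, one_mul, inv_one, mul_one] at h1
        have : b ^ 2 = 1 := by rw [pow_two]; nth_rw 1 [h1]; exact inv_mul_cancel b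
        have hd := orderOf_dvd_of_pow_eq_one this
        rw [hbo] at hd
        norm_num at hd
    have hnr : ((n : C) : G) ∈ L.ι.range := L.cent_beta_le
      (Subgroup.mem_centralizer_singleton_iff.mpr (congrArg Subtype.val hcomm.eq))
    obtain ⟨h, hh⟩ := hnr
    have h81 : cube (cube (cube (cube h))) = 1 := by
      have hd : orderOf h ∣ 3 ^ k := orderOf_dvd_of_pow_eq_one (L.inj (by
        rw [map_pow, hh, map_one]; exact congrArg Subtype.val hnk))
      have hd2 : orderOf h ∣ 8 * 81 := by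
        have := orderOf_dvd_natCard h
        rwa [Nat.card_eq_fintype_card (α := HM), card_HM] at this
      have h8 : (orderOf h).Coprime 8 := Nat.Coprime.coprime_dvd_left hd (Nat.Coprime.pow_left k (by norm_num))
      simp only [cube_eq, ← pow_mul]
      exact orderOf_dvd_iff_pow_eq_one.mp (h8.dvd_of_dvd_mul_left hd2)
    refine hn (show (n : C) ∈ Subgroup.zpowers b from ?_)
    rcases hS_three h (L.inj (by rw [map_mul, map_mul, hh]; exact Subgroup.mem_centralizer_singleton_iff.mp (n : C).2))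
      (L.inj (by rw [map_mul, map_mul, hh]; exact congrArg Subtype.val hcomm.eq)) h81 with e | e | e
    · rw [show (n : C) = 1 from Subtype.ext (by rw [← hh, e, map_one]; rfl)]; exact one_mem _
    · rw [show (n : C) = b from Subtype.ext (by rw [← hh, e])]; exact Subgroup.mem_zpowers b
    · rw [show (n : C) = b⁻¹ from Subtype.ext (by rw [← hh, e, map_inv]; rfl)]; exact inv_mem (Subgroup.mem_zpowers b)
  have hao : orderOf a = 3 := by
    refine orderOf_eq_prime (Subtype.ext ?_) fun e => ?_
    · show (g * L.ι (tr aV) * g⁻¹) ^ 3 = 1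
      rw [conj_pow, L.tr_pow_three, mul_one, mul_inv_cancel]
    · exact tr_ne_one aV_ne
        (L.inj (by rw [map_one]; exact conj_eq_one_iff.mp (congrArg Subtype.val e)))
  obtain ⟨Q, hQ⟩ := (IsPGroup.of_card (p := 3) (n := 1) (G := Subgroup.zpowers a)
    (by rw [Nat.card_zpowers, hao, pow_one])).exists_le_sylow
  obtain ⟨c, hc⟩ := MulAction.exists_smul_eq C Q P
  have hca : c * a * c⁻¹ ∈ Subgroup.zpowers b := by
    rw [← hPb, ← hc, Sylow.coe_subgroup_smul, Subgroup.mem_pointwise_smul_iff_inv_smul_mem]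
    simpa [mul_assoc] using hQ (Subgroup.mem_zpowers a)
  have hb3' : b ^ 3 = 1 := hbo ▸ pow_orderOf_eq_one b
  rw [← mem_powers_iff_mem_zpowers] at hca
  obtain ⟨i, hi⟩ := hca
  have hi' : b ^ (i % 3) = c * a * c⁻¹ := by rw [← pow_eq_pow_mod i hb3']; exact hi
  have hGi : L.ι betaH ^ (i % 3) = (c : G) * g * L.ι (tr aV) * ((c : G) * g)⁻¹ := by
    have e : L.ι betaH ^ (i % 3) = (c : G) * (g * L.ι (tr aV) * g⁻¹) * (c : G)⁻¹ := congrArg Subtype.val hi'
    rw [e]; group
  obtain ⟨n1, n2⟩ := not_conj_beta F ((c : G) * g)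
  rcases (show i % 3 = 0 ∨ i % 3 = 1 ∨ i % 3 = 2 by omega) with e | e | e <;> rw [e] at hGi
  · rw [pow_zero] at hGi
    exact tr_ne_one aV_ne (L.inj (by rw [map_one]; exact conj_eq_one_iff.mp hGi.symm))
  · exact n1 (by rw [← hGi, pow_one])
  · refine n2 (hGi.symm.trans ?_)
    rw [eq_inv_iff_mul_eq_one, ← pow_succ]
    exact congrArg Subtype.val hb3'

end CfsgLib.A9Three
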