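import Cfsg.Agent.Lib.A9Three.FourU

set_option autoImplicit false
set_option maxRecDepth 8000
set_option maxHeartbeats 400000
set_option synthInstance.maxSize 2000

/-!
The alternating group of degree five inside the centralizer of the four-group on four points: it consists of
the even permutations of the five remaining points.
-/

namespace CfsgLib.A9Three

open CfsgLib.A9Local Equiv Equiv.Perm

universe u

/-- The words tested on a permutation of six points. -/
def wordsF (p : Perm (Fin 6)) : List (Perm (Fin 6)) :=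
  [z6 * p * t6 * p * p, z6 * t6 * p * p * t6 * p, p * p * t6 * p * z6 * p, p, z6 * p, t6 * p,
    z6 * p * p * t6, z6 * t6 * p]

theorem checkF : ∀ p : Perm (Fin 6), sign p = 1 → p 0 ≠ 0 →
    ∃ w ∈ wordsF p, (w ^ 4 = 1 ∧ w ^ 2 ≠ 1) ∨ (w * z6 = z6 * w ∧ w ≠ 1 ∧ w ≠ z6 ∧ w ≠ z6 * z6) := by
  decide +kernel

theorem alt5_two : ∀ x : alternatingGroup (Fin 5), x ^ 4 = 1 → x ^ 2 = 1 := by decide +kernel

theorem alt5_cent : ∀ a : alternatingGroup (Fin 5), a ^ 3 = 1 → a ≠ 1 → ∀ x : alternatingGroup (Fin 5),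
    x * a = a * x → x = 1 ∨ x = a ∨ x = a * a := by decide +kernel

theorem alt5_five : ∃ x : alternatingGroup (Fin 5), x ^ 5 = 1 ∧ x ≠ 1 := by decide +kernel

/-- The even permutations of five of the six points. -/
def stab6 : Subgroup (Perm (Fin 6)) where
  carrier := {p | sign p = 1 ∧ p 0 = 0}
  mul_mem' {p q} hp hq := ⟨by rw [map_mul, hp.1, hq.1, mul_one], by rw [Perm.mul_apply, hq.2, hp.2]⟩
  one_mem' := ⟨map_one _, rfl⟩
  inv_mem' {p} hp := ⟨by rw [map_inv, hp.1, inv_one], Perm.inv_eq_iff_eq.mpr hp.2.symm⟩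

instance : DecidablePred (· ∈ stab6) := fun p => inferInstanceAs (Decidable (sign p = 1 ∧ p 0 = 0))

theorem card_stab6 : Nat.card stab6 = 60 := by
  rw [Nat.card_eq_fintype_card (α := stab6)]
  decide +kernel

variable {G : Type u} [Group G] [Finite G] {L : Loc G} (F : Frame L)

/-- The permutations of six points in the copy fixing the first block. -/
noncomputable def Frame.psi6 (p : Perm (Fin 6)) : G := F.val r0 (lift6 p)

theorem Frame.psi6_mul {p q : Perm (Fin 6)} (hp : sign p = 1) (hq : sign q = 1) :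
    F.psi6 (p * q) = F.psi6 p * F.psi6 q := by
  rw [Frame.psi6, Frame.psi6, Frame.psi6, lift6_mul, F.val_mul (lift6_inBlk hp) (lift6_inBlk hq)]

theorem lift6_injective {p q : Perm (Fin 6)} (h : lift6 p = lift6 q) : p = q :=
  congrArg Prod.fst (inc63_injective (mul_left_cancel (mul_right_cancel h)))

theorem Frame.psi6_inj {p q : Perm (Fin 6)} (hp : sign p = 1) (hq : sign q = 1) (h : F.psi6 p = F.psi6 q) :
    p = q :=
  lift6_injective (F.val_injective (lift6_inBlk hp) (lift6_inBlk hq) h)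

theorem Frame.psi6_one : F.psi6 1 = 1 := by
  rw [Frame.psi6, show lift6 1 = 1 by
    rw [lift6, show ((1, 1) : Perm (Fin 6) × Perm (Fin 3)) = 1 from rfl, map_one, mul_one, mul_inv_cancel]]
  exact F.val_one r0

theorem Frame.psi6_z : F.psi6 z6 = FourPerm.im F z9 := by
  rw [Frame.psi6, lift6_values.1, F.val_r0_z]
  exact F.val_z.symm

theorem Frame.psi6_t : F.psi6 t6 = FourPerm.im F (swap 4 5 * swap 6 7) := by
  rw [Frame.psi6, lift6_values.2.1, F.val_r0_t, im_t]

theorem fourU_π_blk : InBlk r0 fourU.π := by decide +kernel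

theorem Frame.val_r0_π : F.val r0 fourU.π = FourPerm.im F fourU.π := by
  rw [fourU_π, show fourU.π = theta (tr (1, 0, 0)) by decide +kernel]
  exact F.val_theta (by decide +kernel)

theorem Frame.psi6_comm_π {p : Perm (Fin 6)} (hp : sign p = 1) :
    Commute (F.psi6 p) (FourPerm.im F fourU.π) := by
  rw [← F.val_r0_π, Frame.psi6]
  refine F.val_commute (lift6_inBlk hp) fourU_π_blk ?_
  rw [show fourU.π = theta r0 * inc63 (1, swap 0 1 * swap 1 2) * (theta r0)⁻¹ by decide +kernel, lift6,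
    show theta r0 * inc63 (p, 1) * (theta r0)⁻¹ * (theta r0 * inc63 (1, swap (0 : Fin 3) 1 * swap 1 2) * (theta r0)⁻¹) =
      theta r0 * (inc63 (p, 1) * inc63 (1, swap (0 : Fin 3) 1 * swap 1 2)) * (theta r0)⁻¹ by group,
    ← map_mul, show ((p, 1) : Perm (Fin 6) × Perm (Fin 3)) * (1, swap 0 1 * swap 1 2) =
      (1, swap 0 1 * swap 1 2) * (p, 1) by simp, map_mul]
  group

/-- An element of order five commuting with the element of order three is a permutation of six points. -/
theorem Frame.exists_psi6 {y : G} (h5 : y ^ 5 = 1) (hc : Commute y (FourPerm.im F fourU.π)) :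
    ∃ p, sign p = 1 ∧ F.psi6 p = y := by
  obtain ⟨σ, hσ, rfl⟩ := exists_val_r0 F hc
  obtain ⟨⟨p, q⟩, hpq⟩ := exists_inc63 (show (theta r0)⁻¹ * σ * theta r0 ∈ M2 from hσ)
  have hcσ : σ * fourU.π = fourU.π * σ :=
    F.val_injective (hσ.mul fourU_π_blk) (fourU_π_blk.mul hσ) (by
      rw [F.val_mul hσ fourU_π_blk, F.val_mul fourU_π_blk hσ, F.val_r0_π]; exact hc.eq)
  have hc2 : inc63 (p, q) * inc63 (1, swap 0 1 * swap 1 2) = inc63 (1, swap 0 1 * swap 1 2) * inc63 (p, q) := by
    rw [hpq, show inc63 (1, swap (0 : Fin 3) 1 * swap 1 2) = (theta r0)⁻¹ * fourU.π * theta r0 by decide +kernel]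
    calc (theta r0)⁻¹ * σ * theta r0 * ((theta r0)⁻¹ * fourU.π * theta r0)
        = (theta r0)⁻¹ * (σ * fourU.π) * theta r0 := by group
      _ = _ := by rw [hcσ]; group
  rw [← map_mul, ← map_mul] at hc2
  have hq : q * (swap 0 1 * swap 1 2) = swap 0 1 * swap 1 2 * q := congrArg Prod.snd (inc63_injective hc2)
  have hσ5 : σ ^ 5 = 1 := F.val_injective (F.val_pow hσ 5).1 (InBlk.one r0) (by
    rw [(F.val_pow hσ 5).2, h5, F.val_one])
  have hq5 : q ^ 5 = 1 := by
    have : inc63 (p, q) ^ 5 = 1 := by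
      rw [hpq, show (theta r0)⁻¹ * σ * theta r0 = MulAut.conj (theta r0)⁻¹ σ by simp, ← map_pow, hσ5, map_one]
    rw [← map_pow, ← map_one inc63] at this
    exact congrArg Prod.snd (inc63_injective this)
  have hq1 : q = 1 := (by decide +kernel : ∀ q : Perm (Fin 3),
    q * (swap 0 1 * swap 1 2) = swap 0 1 * swap 1 2 * q → q ^ 5 = 1 → q = 1) q hq hq5
  subst hq1
  have hp : sign p = 1 := by
    have := hσ.1
    rwa [← hpq, sign_inc63, map_one, mul_one] at this
  refine ⟨p, hp, ?_⟩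
  rw [Frame.psi6, show lift6 p = σ by rw [lift6, hpq]; group]

theorem fourU_five (hQ : Nat.card (fourU.K F ⧸ fourU.V F) = 60) {y : fourU.K F} (h5 : y ^ 5 = 1) :
    Commute (y : G) (FourPerm.im F fourU.π) := by
  by_cases h1 : y = 1
  · rw [h1]; exact Commute.one_left _
  haveI : Fact (Nat.Prime 5) := ⟨by norm_num⟩
  have hy : orderOf y = 5 := orderOf_eq_prime h5 h1
  obtain ⟨y', hy', he, d, hd, hne, hc⟩ := fourU.prime_part F 5 (Or.inl rfl)
    (by rw [if_pos rfl]; exact fourU.card_K_dvd F hQ.dvd) hy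
  rw [he rfl] at hc
  obtain ⟨k, hk⟩ := fourU.reduce_A F hd hne hc
  by_cases hk0 : k = 0
  · subst hk0
    rwa [show z9 ^ (0 : Fin 3).val = 1 from pow_zero _, one_mul] at hk
  · have := fourU.good_order F (fourU_good k hk0) hk
    rw [Subgroup.orderOf_coe, hy] at this
    norm_num at this

theorem fourU_V_π {v : G} (hv : v ∈ Subgroup.closure ({FourPerm.im F fourU.v1, FourPerm.im F fourU.v2} : Set G))
    (hc : Commute v (FourPerm.im F fourU.π)) : v = 1 := by
  have key : ∀ a : Perm (Fin 9), a ∈ M2 → FourPerm.im F a = v → a * fourU.π = fourU.π * a := fun a ha e => by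
    refine FourPerm.im_inj F (mul_mem ha fourU.mπ) (mul_mem fourU.mπ ha) ?_
    rw [FourPerm.im_mul F ha fourU.mπ, FourPerm.im_mul F fourU.mπ ha, e]
    exact hc.eq
  rcases (fourU.closure_cases F).mp hv with e | e | e | e
  · exact e
  · exact absurd (key _ fourU.m1 e.symm) (by decide +kernel)
  · exact absurd (key _ fourU.m2 e.symm) (by decide +kernel)
  · rw [← FourPerm.im_mul F fourU.m1 fourU.m2] at e
    exact absurd (key _ (mul_mem fourU.m1 fourU.m2) e.symm) (by decide +kernel)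

variable (e : fourU.K F ⧸ fourU.V F ≃* alternatingGroup (Fin 5))

include e in
theorem fourU_lift (g : fourU.K F) : ∃ f : fourU.K F, QuotientGroup.mk' (fourU.V F) f =
    QuotientGroup.mk' (fourU.V F) g ∧ ∃ p, sign p = 1 ∧ F.psi6 p = (f : G) := by
  have hQ : Nat.card (fourU.K F ⧸ fourU.V F) = 60 := by
    rw [Nat.card_congr e.toEquiv, nat_card_alternatingGroup, Nat.card_fin]; rfl
  -- the subgroup of good lifts
  let S : Subgroup (fourU.K F) :=
    { carrier := {f | ∃ p, sign p = 1 ∧ F.psi6 p = (f : G)}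
      mul_mem' := by
        rintro a b ⟨p, hp, hpa⟩ ⟨q, hq, hqb⟩
        exact ⟨p * q, by rw [map_mul, hp, hq, mul_one],
          by rw [F.psi6_mul hp hq, hpa, hqb, Subgroup.coe_mul]⟩
      one_mem' := ⟨1, map_one _, F.psi6_one⟩
      inv_mem' := by
        rintro a ⟨p, hp, hpa⟩
        have hpi : sign p⁻¹ = 1 := by rw [map_inv, hp, inv_one]
        refine ⟨p⁻¹, hpi, ?_⟩
        rw [Subgroup.coe_inv, ← hpa]
        refine eq_inv_of_mul_eq_one_left ?_
        rw [← F.psi6_mul hpi hp, inv_mul_cancel, F.psi6_one] }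
  let T : Subgroup (alternatingGroup (Fin 5)) := Subgroup.closure {q | q ^ 5 = 1}
  have hT : T = ⊤ := by
    haveI := alternatingGroup.isSimpleGroup_five
    haveI : T.Normal := by
      refine ⟨fun q hq g => ?_⟩
      have hle : T ≤ T.comap (MulAut.conj g).toMonoidHom := by
        refine (Subgroup.closure_le _).mpr fun x hx => Subgroup.subset_closure ?_
        show (g * x * g⁻¹) ^ 5 = 1
        rw [conj_pow, show x ^ 5 = 1 from hx, mul_one, mul_inv_cancel]
      exact hle hq
    rcases IsSimpleGroup.eq_bot_or_eq_top_of_normal T inferInstance with h | h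
    · obtain ⟨x, hx, hx1⟩ := alt5_five
      exact absurd (Subgroup.mem_bot.mp (h ▸ Subgroup.subset_closure hx : x ∈ (⊥ : Subgroup _))) hx1
    · exact h
  have hle : T ≤ S.map (e.toMonoidHom.comp (QuotientGroup.mk' (fourU.V F))) := by
    refine (Subgroup.closure_le _).mpr fun q hq => ?_
    obtain ⟨x, hx⟩ := QuotientGroup.mk'_surjective (fourU.V F) (e.symm q)
    have hx5 : x ^ 5 ∈ fourU.V F := by
      rw [← QuotientGroup.eq_one_iff, ← QuotientGroup.mk'_apply (fourU.V F), map_pow, hx, ← map_pow,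
        show q ^ 5 = 1 from hq, map_one]
    have hy : (x ^ 6) ^ 5 = 1 := by
      have h2 := fourU.V_sq F hx5
      calc (x ^ 6) ^ 5 = (x ^ 5 * x ^ 5) ^ 3 := by group
        _ = 1 := by rw [h2, one_pow]
    refine ⟨x ^ 6, F.exists_psi6 ?_ (fourU_five F hQ hy), ?_⟩
    · rw [← Subgroup.coe_pow, hy, Subgroup.coe_one]
    · show e (QuotientGroup.mk' (fourU.V F) (x ^ 6)) = q
      rw [map_pow, hx, ← map_pow, MulEquiv.apply_symm_apply, pow_succ, show q ^ 5 = 1 from hq, one_mul]
  obtain ⟨f, hf, hfe⟩ := hle (hT ▸ Subgroup.mem_top (e (QuotientGroup.mk' (fourU.V F) g)) :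
    e (QuotientGroup.mk' (fourU.V F) g) ∈ T)
  exact ⟨f, e.injective hfe, hf⟩

include e in
/-- The part of the centralizer commuting with the element of order three. -/
theorem fourU_fix_mem {g : G} (hg : g ∈ fourU.K F) (hc : Commute g (FourPerm.im F fourU.π)) :
    ∃ p, sign p = 1 ∧ F.psi6 p = g := by
  obtain ⟨f, hf, p, hp, hpf⟩ := fourU_lift F e ⟨g, hg⟩
  refine ⟨p, hp, hpf.trans ?_⟩
  have hv : f⁻¹ * ⟨g, hg⟩ ∈ fourU.V F := by
    rw [← QuotientGroup.eq_one_iff, ← QuotientGroup.mk'_apply (fourU.V F), map_mul, map_inv, hf, inv_mul_cancel]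
  have h1 : (f : G)⁻¹ * g = 1 := fourU_V_π F (v := (f : G)⁻¹ * g) hv
    (((hpf ▸ F.psi6_comm_π hp : Commute (f : G) _).inv_left).mul_left hc)
  exact inv_mul_eq_one.mp h1

include e in
/-- The permutations of six points centralizing the four-group fix the point of the four-group. -/
theorem fourU_mem_iff {p : Perm (Fin 6)} : (sign p = 1 ∧ F.psi6 p ∈ fourU.K F) ↔ p ∈ stab6 := by
  let P : Subgroup (Perm (Fin 6)) :=
    { carrier := {p | sign p = 1 ∧ F.psi6 p ∈ fourU.K F}
      mul_mem' := by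
        rintro a b ⟨ha, ha'⟩ ⟨hb, hb'⟩
        exact ⟨by rw [map_mul, ha, hb, mul_one], by rw [F.psi6_mul ha hb]; exact mul_mem ha' hb'⟩
      one_mem' := ⟨map_one _, by rw [F.psi6_one]; exact one_mem _⟩
      inv_mem' := by
        rintro a ⟨ha, ha'⟩
        have hai : sign a⁻¹ = 1 := by rw [map_inv, ha, inv_one]
        refine ⟨hai, ?_⟩
        rw [show F.psi6 a⁻¹ = (F.psi6 a)⁻¹ from eq_inv_of_mul_eq_one_left (by
          rw [← F.psi6_mul hai ha, inv_mul_cancel, F.psi6_one])]
        exact inv_mem ha' }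
  let f : P →* alternatingGroup (Fin 5) :=
    MonoidHom.mk' (fun p => e (QuotientGroup.mk' (fourU.V F) ⟨F.psi6 p, p.2.2⟩)) (fun a b => by
      rw [← map_mul e, ← map_mul (QuotientGroup.mk' (fourU.V F))]
      congr 2
      exact Subtype.ext (F.psi6_mul a.2.1 b.2.1))
  have hfi : Function.Injective f := by
    refine (injective_iff_map_eq_one f).mpr fun a ha => Subtype.ext ?_
    have hv : (⟨F.psi6 a, a.2.2⟩ : fourU.K F) ∈ fourU.V F :=
      (QuotientGroup.eq_one_iff _).mp (e.map_eq_one_iff.mp ha)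
    have h1 := fourU_V_π F hv (F.psi6_comm_π a.2.1)
    exact F.psi6_inj a.2.1 (map_one _) (h1.trans F.psi6_one.symm)
  have hfs : Function.Surjective f := by
    intro q
    obtain ⟨x, hx⟩ := QuotientGroup.mk'_surjective (fourU.V F) (e.symm q)
    obtain ⟨g, hg, p, hp, hpg⟩ := fourU_lift F e x
    refine ⟨⟨p, hp, hpg ▸ g.2⟩, ?_⟩
    show e (QuotientGroup.mk' (fourU.V F) ⟨F.psi6 p, _⟩) = q
    rw [show (⟨F.psi6 p, hpg ▸ g.2⟩ : fourU.K F) = g from Subtype.ext hpg, hg, hx, MulEquiv.apply_symm_apply]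
  have hz : z6 ∈ P := ⟨by decide +kernel, by rw [F.psi6_z]; exact (fourU.zK F).2⟩
  have ht : t6 ∈ P := by
    refine ⟨by decide +kernel, ?_⟩
    rw [F.psi6_t]
    exact (fourU.mem_K F).mpr ⟨FourPerm.im_commute F (by decide +kernel) fourU.m1 (by decide +kernel),
      FourPerm.im_commute F (by decide +kernel) fourU.m2 (by decide +kernel)⟩
  have hle : P ≤ stab6 := by
    intro a ha
    refine ⟨ha.1, ?_⟩
    by_contra h0
    obtain ⟨w, hw, hbad⟩ := checkF a ha.1 h0
    have hwP : w ∈ P := by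
      simp only [wordsF, List.mem_cons, List.not_mem_nil, or_false] at hw
      rcases hw with rfl | rfl | rfl | rfl | rfl | rfl | rfl | rfl
      exacts [mul_mem (mul_mem (mul_mem (mul_mem hz ha) ht) ha) ha,
        mul_mem (mul_mem (mul_mem (mul_mem (mul_mem hz ht) ha) ha) ht) ha,
        mul_mem (mul_mem (mul_mem (mul_mem (mul_mem ha ha) ht) ha) hz) ha, ha, mul_mem hz ha, mul_mem ht ha,
        mul_mem (mul_mem (mul_mem hz ha) ha) ht, mul_mem (mul_mem hz ht) ha]
    rcases hbad with ⟨h4, h2⟩ | ⟨hcw, h1, hz1, hz2⟩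
    · have h4' : (⟨w, hwP⟩ : P) ^ 4 = 1 := Subtype.ext (by rw [Subgroup.coe_pow]; exact h4)
      have := alt5_two (f ⟨w, hwP⟩) (by rw [← map_pow, h4', map_one])
      rw [← map_pow, ← map_one f] at this
      have hv := congrArg Subtype.val (hfi this)
      rw [Subgroup.coe_pow] at hv
      exact h2 hv
    · have hz3 : (⟨z6, hz⟩ : P) ^ 3 = 1 := Subtype.ext (by rw [Subgroup.coe_pow]; exact (by decide +kernel : z6 ^ 3 = 1))
      have hcP : (⟨w, hwP⟩ : P) * ⟨z6, hz⟩ = ⟨z6, hz⟩ * ⟨w, hwP⟩ := Subtype.ext hcw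
      rcases alt5_cent (f ⟨z6, hz⟩) (by rw [← map_pow, hz3, map_one])
        (fun h => (by decide +kernel : z6 ≠ 1) (congrArg Subtype.val (hfi (h.trans (map_one f).symm))))
        (f ⟨w, hwP⟩) (by rw [← map_mul, hcP, map_mul]) with h | h | h
      · exact h1 (congrArg Subtype.val (hfi (h.trans (map_one f).symm)))
      · exact hz1 (congrArg Subtype.val (hfi h))
      · exact hz2 (congrArg Subtype.val (hfi (h.trans (map_mul f _ _).symm)))
  have hcard : Nat.card P = 60 := by
    rw [Nat.card_eq_of_bijective f ⟨hfi, hfs⟩, nat_card_alternatingGroup, Nat.card_fin]; rfl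
  have hPeq : P = stab6 := Subgroup.eq_of_le_of_card_ge hle (by rw [hcard, card_stab6])
  show p ∈ P ↔ p ∈ stab6
  rw [hPeq]

end CfsgLib.A9Three
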