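import Cfsg.Agent.Lib.A9Three.NotSmall
import Cfsg.Agent.Lib.A9Three.FourF

set_option autoImplicit false
set_option maxRecDepth 8000
set_option maxHeartbeats 400000
set_option synthInstance.maxSize 2000

/-!
The relation between three-cycles lying in two different copies of the stabilizer of a block.
-/

namespace CfsgLib.A9Three

open CfsgLib.A9Local Equiv Equiv.Perm CfsgLib.ShortPres

universe u

/-- The rotation carrying the last block to the middle one. -/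
abbrev r1 : HM := r0 * r0

/-- `(3 4)(5 8)`. -/
abbrev gP : Perm (Fin 9) := swap 3 4 * swap 5 8

/-- Exchanges the first and the last block. -/
abbrev cA : Perm (Fin 9) := swap 0 6 * swap 1 7 * swap 2 8 * swap 4 5

/-- Exchanges the middle and the last block. -/
abbrev cB : Perm (Fin 9) := swap 3 8 * swap 4 7 * swap 5 6 * swap 1 2

/-- The element with permutation `(0 1)(6 7)`. -/
abbrev hInv : HM := ⟨(1, 0, 1), 2⟩

theorem hInv_eq : theta hInv = swap 0 1 * swap 6 7 := by decide +kernel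

theorem cA_spec : ∃ h : HM, theta h = cA ∧ theta ((h * 1)⁻¹ * r0) ∈ M2 ∧ theta ((h * r0)⁻¹ * 1) ∈ M2 ∧
    h * tr (1, 0, 0) * h⁻¹ = tr aV := by decide +kernel

theorem cB_spec : ∃ h : HM, theta h = cB ∧ theta ((h * 1)⁻¹ * r1) ∈ M2 ∧ theta ((h * r0)⁻¹ * r0) ∈ M2 := by
  decide +kernel

/-- The elements of a four-group and a three-cycle on `4, 5, 6, 7`. -/
def Tgt (τ : Perm (Fin 9)) : Prop :=
  τ = gP⁻¹ * (swap 3 8 * swap 6 7) * gP ∨ τ = gP⁻¹ * (swap 3 6 * swap 7 8) * gP ∨ τ = gP⁻¹ * z9 * gP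

theorem tgt_direct : ∀ τ, Tgt τ → ∃ p : Perm (Fin 6), (sign p = 1 ∧ p 0 = 0) ∧ lift6 p = τ := by
  rintro τ (rfl | rfl | rfl) <;> (unfold lift6; decide +kernel)

theorem tgt_moved : ∀ τ, Tgt τ → ∃ p : Perm (Fin 6), (sign p = 1 ∧ p 0 = 0) ∧ cB * lift6 p * cB⁻¹ = τ := by
  rintro τ (rfl | rfl | rfl) <;> (unfold lift6; decide +kernel)

theorem cand_check : ∀ p : Perm (Fin 6), sign p = 1 → p 0 = 0 →
    cA * lift6 p * cA⁻¹ * (cA * lift6 p * cA⁻¹) * (cA * lift6 p * cA⁻¹) = 1 →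
    fourU.π * (cA * lift6 p * cA⁻¹) * (fourU.π * (cA * lift6 p * cA⁻¹)) = 1 →
    swap 0 1 * swap 6 7 * (cA * lift6 p * cA⁻¹) * (swap 0 1 * swap 6 7)⁻¹ = (cA * lift6 p * cA⁻¹)⁻¹ →
    cA * lift6 p * cA⁻¹ = fourU.π⁻¹ ∨ cA * lift6 p * cA⁻¹ = cyc3 0 1 4 ∨ cA * lift6 p * cA⁻¹ = cyc3 0 1 5 := by
  unfold lift6
  decide +kernel

variable {G : Type u} [Group G] [Finite G] {L : Loc G} (F : Frame L)

theorem Frame.val_move {r r' : HM} {h : HM} {σ : Perm (Fin 9)} (hσ : InBlk r σ)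
    (hb : theta ((h * r)⁻¹ * r') ∈ M2) :
    InBlk r' (theta h * σ * (theta h)⁻¹) ∧
      F.val r' (theta h * σ * (theta h)⁻¹) = L.ι h * F.val r σ * (L.ι h)⁻¹ := by
  obtain ⟨h1, h2⟩ := F.val_block hb (hσ.shift (h := h))
  exact ⟨h1, h2.trans (F.val_shift r h σ)⟩

theorem Frame.val_hInv {r : HM} (h : InBlk r (theta hInv)) : F.val r (swap 0 1 * swap 6 7) = L.ι hInv := by
  rw [← hInv_eq]
  exact F.val_theta h

theorem Frame.val_e0 {r : HM} (h : InBlk r (theta (tr (1, 0, 0)))) :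
    F.val r fourU.π = L.ι (tr (1, 0, 0)) := by
  rw [show fourU.π = theta (tr (1, 0, 0)) by decide +kernel]
  exact F.val_theta h

variable (e : fourU.K F ⧸ fourU.V F ≃* alternatingGroup (Fin 5))

include e in
theorem cross_base {s : Perm (Fin 9)} (hs : s = cyc3 0 1 3 ∨ s = cyc3 0 2 3) {p : Perm (Fin 6)}
    (hp : p ∈ stab6) : Commute (FourPerm.im F s) (F.psi6 p) := by
  obtain ⟨hp1, hK⟩ := (fourU_mem_iff F e).mpr hp
  obtain ⟨h1, h2⟩ := (fourU.mem_K F).mp hK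
  have h3 := F.psi6_comm_π hp1
  have key : ∀ a b : Perm (Fin 9), a ∈ M2 ∧ Commute (F.psi6 p) (FourPerm.im F a) →
      b ∈ M2 ∧ Commute (F.psi6 p) (FourPerm.im F b) → a * b ∈ M2 ∧ Commute (F.psi6 p) (FourPerm.im F (a * b)) :=
    fun a b ha hb => ⟨mul_mem ha.1 hb.1, by rw [FourPerm.im_mul F ha.1 hb.1]; exact ha.2.mul_right hb.2⟩
  have g1 : fourU.v1 ∈ M2 ∧ Commute (F.psi6 p) (FourPerm.im F fourU.v1) := ⟨fourU.m1, h1⟩
  have g2 : fourU.v2 ∈ M2 ∧ Commute (F.psi6 p) (FourPerm.im F fourU.v2) := ⟨fourU.m2, h2⟩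
  have g3 : fourU.π ∈ M2 ∧ Commute (F.psi6 p) (FourPerm.im F fourU.π) := ⟨fourU.mπ, h3⟩
  have g33 := key _ _ g3 g3
  have hw : ∀ s, s = cyc3 0 1 3 ∨ s = cyc3 0 2 3 →
      s = fourU.v1 * fourU.π ∨ s = fourU.v2 * fourU.π ∨ s = fourU.v1 * fourU.v2 * fourU.π ∨
        s = fourU.v1 * (fourU.π * fourU.π) ∨ s = fourU.v2 * (fourU.π * fourU.π) ∨
        s = fourU.v1 * fourU.v2 * (fourU.π * fourU.π) := by
    rintro s (rfl | rfl) <;> decide +kernel
  rcases hw s hs with rfl | rfl | rfl | rfl | rfl | rfl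
  exacts [(key _ _ g1 g3).2.symm, (key _ _ g2 g3).2.symm, (key _ _ (key _ _ g1 g2) g3).2.symm,
    (key _ _ g1 g33).2.symm, (key _ _ g2 g33).2.symm, (key _ _ (key _ _ g1 g2) g33).2.symm]

include e in
theorem x3_tgt {τ : Perm (Fin 9)} (hτ : Tgt τ) : Commute (F.val 1 (cyc3 0 1 3)) (F.val r0 τ) := by
  obtain ⟨p, hp, rfl⟩ := tgt_direct τ hτ
  exact cross_base F e (Or.inl rfl) hp

include e in
theorem x8_tgt {τ : Perm (Fin 9)} (hτ : Tgt τ) : Commute (F.val r1 (cyc3 0 1 8)) (F.val r0 τ) := by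
  obtain ⟨p, hp, rfl⟩ := tgt_moved τ hτ
  obtain ⟨h, hh, hb1, hb0⟩ := cB_spec
  have hc := (cross_base F e (Or.inr rfl) hp).map (MulAut.conj (L.ι h)).toMonoidHom
  simp only [MulEquiv.coe_toMonoidHom, MulAut.conj_apply] at hc
  rw [← (F.val_move (inBlk_one.mpr (by decide +kernel : cyc3 (0 : Fin 9) 2 3 ∈ M2)) hb1).2, Frame.psi6,
    ← (F.val_move (lift6_inBlk hp.1) hb0).2, hh] at hc
  rwa [show cB * cyc3 0 2 3 * cB⁻¹ = cyc3 0 1 8 by decide +kernel] at hc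

include e in
/-- An element centralizing the alternating group on `3, 6, 7, 8`. -/
theorem fix_moved {g : G} (h1 : Commute g (F.val r0 (swap 3 8 * swap 6 7)))
    (h2 : Commute g (F.val r0 (swap 3 6 * swap 7 8))) (h3 : Commute g (F.val r0 z9)) :
    ∃ p ∈ stab6, cA * lift6 p * cA⁻¹ ∈ M2 ∧ FourPerm.im F (cA * lift6 p * cA⁻¹) = g := by
  obtain ⟨h, hh, hb0, hb1, hπ⟩ := cA_spec
  have e1 : F.val r0 (swap 3 8 * swap 6 7) = L.ι h * FourPerm.im F fourU.v1 * (L.ι h)⁻¹ := by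
    rw [← (F.val_move (inBlk_one.mpr fourU.m1) hb0).2, hh]
    exact congrArg (F.val r0) (by decide +kernel)
  have e2 : F.val r0 (swap 3 6 * swap 7 8) = L.ι h * FourPerm.im F fourU.v2 * (L.ι h)⁻¹ := by
    rw [← (F.val_move (inBlk_one.mpr fourU.m2) hb0).2, hh]
    exact congrArg (F.val r0) (by decide +kernel)
  have e3 : F.val r0 z9 = L.ι h * FourPerm.im F fourU.π * (L.ι h)⁻¹ := by
    rw [F.val_r0_z, fourU_π, ← map_inv, ← map_mul, ← map_mul, hπ]
  rw [e1] at h1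
  rw [e2] at h2
  rw [e3] at h3
  have back : ∀ a : G, Commute g (L.ι h * a * (L.ι h)⁻¹) → Commute ((L.ι h)⁻¹ * g * L.ι h) a := fun a ha => by
    have := ha.map (MulAut.conj (L.ι h)⁻¹).toMonoidHom
    simpa [mul_assoc] using this
  obtain ⟨p, hp, hpg⟩ := fourU_fix_mem F e ((fourU.mem_K F).mpr ⟨back _ h1, back _ h2⟩) (back _ h3)
  have hmem : p ∈ stab6 := (fourU_mem_iff F e).mp ⟨hp, hpg ▸ (fourU.mem_K F).mpr ⟨back _ h1, back _ h2⟩⟩
  obtain ⟨hI, hv⟩ := F.val_move (lift6_inBlk hp) hb1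
  rw [hh] at hI hv
  refine ⟨p, hmem, inBlk_one.mp hI, ?_⟩
  show F.val 1 (cA * lift6 p * cA⁻¹) = g
  rw [hv, ← Frame.psi6, hpg]
  group

include e in
theorem conj_cases {r : HM} {c : Perm (Fin 9)} (hc : InBlk r c) (hr : InBlk r (theta hInv) ∧
    InBlk r (theta (tr (1, 0, 0)))) (h3 : c * c * c = 1) (he : fourU.π * c * (fourU.π * c) = 1)
    (hj : swap 0 1 * swap 6 7 * c * (swap 0 1 * swap 6 7)⁻¹ = c⁻¹) (hne : c ≠ fourU.π⁻¹)
    (ht : ∀ τ, Tgt τ → Commute (F.val r c) (F.val r0 τ)) :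
    F.val r0 gP * F.val r c * (F.val r0 gP)⁻¹ = FourPerm.im F (cyc3 0 1 4) ∨
      F.val r0 gP * F.val r c * (F.val r0 gP)⁻¹ = FourPerm.im F (cyc3 0 1 5) := by
  obtain ⟨x, hx⟩ : ∃ x, x = F.val r c := ⟨_, rfl⟩
  obtain ⟨g, hg⟩ : ∃ g, g = F.val r0 gP := ⟨_, rfl⟩
  have hgI : InBlk r0 gP := by decide +kernel
  have he0 : F.val r fourU.π = L.ι (tr (1, 0, 0)) := F.val_e0 hr.2
  have hπI : InBlk r fourU.π := by
    rw [show fourU.π = theta (tr (1, 0, 0)) by decide +kernel]; exact hr.2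
  have hjI : InBlk r (swap 0 1 * swap 6 7) := hInv_eq ▸ hr.1
  have hmove : ∀ t, InBlk r0 (gP⁻¹ * t * gP) → Tgt (gP⁻¹ * t * gP) → Commute (g * x * g⁻¹) (F.val r0 t) := by
    intro t htI htt
    have h := (ht _ htt).map (MulAut.conj g).toMonoidHom
    simp only [MulEquiv.coe_toMonoidHom, MulAut.conj_apply] at h
    rw [hg, ← F.val_conj hgI htI, show gP * (gP⁻¹ * t * gP) * gP⁻¹ = t by group] at h
    rwa [hx, hg]
  obtain ⟨p, hp, hpM, hpy⟩ := fix_moved F e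
    (hmove _ (by decide +kernel) (Or.inl rfl)) (hmove _ (by decide +kernel) (Or.inr (Or.inl rfl)))
    (hmove _ (by decide +kernel) (Or.inr (Or.inr rfl)))
  set σ := cA * lift6 p * cA⁻¹ with hσ
  have hge : Commute g (L.ι (tr (1, 0, 0))) := by
    rw [hg, ← F.val_e0 (r := r0) (by decide +kernel)]
    exact F.val_commute hgI (by decide +kernel) (by decide +kernel)
  have hgj : Commute g (L.ι hInv) := by
    rw [hg, ← F.val_hInv (r := r0) (by decide +kernel)]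
    exact F.val_commute hgI (by decide +kernel) (by decide +kernel)
  have hπ1 : FourPerm.im F fourU.π = L.ι (tr (1, 0, 0)) := fourU_π F
  have hj1 : FourPerm.im F (swap 0 1 * swap 6 7) = L.ι hInv := F.val_hInv (r := 1) (by decide +kernel)
  have hjM : (swap 0 1 * swap 6 7 : Perm (Fin 9)) ∈ M2 := by decide +kernel
  -- the relations pass to the conjugate
  have x3 : x * x * x = 1 := by
    rw [hx, ← F.val_mul hc hc, ← F.val_mul (hc.mul hc) hc, h3, F.val_one]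
  have xe : L.ι (tr (1, 0, 0)) * x * (L.ι (tr (1, 0, 0)) * x) = 1 := by
    rw [hx, ← he0, ← F.val_mul hπI hc, ← F.val_mul (hπI.mul hc) (hπI.mul hc), he, F.val_one]
  have xj : L.ι hInv * x * (L.ι hInv)⁻¹ = x⁻¹ := by
    rw [hx, ← F.val_hInv hr.1, ← F.val_conj hjI hc, hj, F.val_inv hc]
  have s3 : σ * σ * σ = 1 := by
    refine FourPerm.im_inj F (mul_mem (mul_mem hpM hpM) hpM) (one_mem _) ?_
    rw [FourPerm.im_mul F (mul_mem hpM hpM) hpM, FourPerm.im_mul F hpM hpM, FourPerm.im_one, hpy]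
    calc g * x * g⁻¹ * (g * x * g⁻¹) * (g * x * g⁻¹) = g * (x * x * x) * g⁻¹ := by group
      _ = 1 := by rw [x3]; group
  have se : fourU.π * σ * (fourU.π * σ) = 1 := by
    have hm := mul_mem fourU.mπ hpM
    refine FourPerm.im_inj F (mul_mem hm hm) (one_mem _) ?_
    rw [FourPerm.im_mul F hm hm, FourPerm.im_mul F fourU.mπ hpM, FourPerm.im_one, hpy, hπ1]
    calc L.ι (tr (1, 0, 0)) * (g * x * g⁻¹) * (L.ι (tr (1, 0, 0)) * (g * x * g⁻¹))
        = L.ι (tr (1, 0, 0)) * g * x * g⁻¹ * (L.ι (tr (1, 0, 0)) * g) * x * g⁻¹ := by group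
      _ = g * L.ι (tr (1, 0, 0)) * x * g⁻¹ * (g * L.ι (tr (1, 0, 0))) * x * g⁻¹ := by rw [hge.eq]
      _ = g * (L.ι (tr (1, 0, 0)) * x * (L.ι (tr (1, 0, 0)) * x)) * g⁻¹ := by group
      _ = 1 := by rw [xe]; group
  have sj : swap 0 1 * swap 6 7 * σ * (swap 0 1 * swap 6 7)⁻¹ = σ⁻¹ := by
    refine FourPerm.im_inj F (mul_mem (mul_mem hjM hpM) (inv_mem hjM)) (inv_mem hpM) ?_
    show F.val 1 _ = F.val 1 _
    rw [F.val_conj (inBlk_one.mpr hjM) (inBlk_one.mpr hpM), F.val_inv (inBlk_one.mpr hpM)]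
    show FourPerm.im F _ * FourPerm.im F σ * (FourPerm.im F _)⁻¹ = (FourPerm.im F σ)⁻¹
    rw [hj1, hpy]
    calc L.ι hInv * (g * x * g⁻¹) * (L.ι hInv)⁻¹ = L.ι hInv * g * x * (L.ι hInv * g)⁻¹ := by group
      _ = g * L.ι hInv * x * (g * L.ι hInv)⁻¹ := by rw [hgj.eq]
      _ = g * (L.ι hInv * x * (L.ι hInv)⁻¹) * g⁻¹ := by group
      _ = (g * x * g⁻¹)⁻¹ := by rw [xj]; group
  rw [← hx, ← hg]
  rcases cand_check p hp.1 hp.2 s3 se sj with hcs | hcs | hcs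
  · exfalso
    refine hne (F.val_injective hc hπI.inv ?_)
    rw [F.val_inv hπI, he0, ← hx]
    have hy : g * x * g⁻¹ = (L.ι (tr (1, 0, 0)))⁻¹ := by
      rw [← hpy, hσ, hcs, ← hπ1]
      exact F.val_inv (inBlk_one.mpr fourU.mπ)
    calc x = g⁻¹ * (g * x * g⁻¹) * g := by group
      _ = g⁻¹ * ((L.ι (tr (1, 0, 0)))⁻¹ * g) := by rw [hy]; group
      _ = _ := by rw [← hge.inv_right.eq]; group
  · exact Or.inl (by rw [← hpy, hσ, hcs])
  · exact Or.inr (by rw [← hpy, hσ, hcs])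

include e in
/-- The relation between the three-cycles `(0 1 3)` and `(0 1 8)`. -/
theorem cross_relation : (F.val 1 (cyc3 0 1 3) * F.val r1 (cyc3 0 1 8)) ^ 2 = 1 := by
  obtain ⟨a, ha⟩ : ∃ a, a = F.val 1 (cyc3 (0 : Fin 9) 1 3) := ⟨_, rfl⟩
  obtain ⟨b, hb⟩ : ∃ b, b = F.val r1 (cyc3 (0 : Fin 9) 1 8) := ⟨_, rfl⟩
  obtain ⟨g, hg⟩ : ∃ g, g = F.val r0 gP := ⟨_, rfl⟩
  have hA := conj_cases F e (r := 1) (c := cyc3 0 1 3) (by decide +kernel) (by decide +kernel) (by decide +kernel)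
    (by decide +kernel) (by decide +kernel) (by decide +kernel) (fun τ hτ => x3_tgt F e hτ)
  have hB := conj_cases F e (r := r1) (c := cyc3 0 1 8) (by decide +kernel) (by decide +kernel) (by decide +kernel)
    (by decide +kernel) (by decide +kernel) (by decide +kernel) (fun τ hτ => x8_tgt F e hτ)
  rw [← ha, ← hg] at hA
  rw [← hb, ← hg] at hB
  have hne : a ≠ b := by
    intro hab
    have h1 : Commute a (L.ι (tr aV)) := by
      rw [ha, ← F.val_z]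
      exact F.val_commute (by decide +kernel) (by decide +kernel) (by decide +kernel)
    have hI : InBlk r1 (theta (tr aV)) := by decide +kernel
    have hI8 : InBlk r1 (cyc3 (0 : Fin 9) 1 8) := by decide +kernel
    rw [hab, hb, ← F.val_theta hI] at h1
    exact (by decide +kernel : cyc3 (0 : Fin 9) 1 8 * theta (tr aV) ≠ theta (tr aV) * cyc3 (0 : Fin 9) 1 8)
      (F.val_injective (hI8.mul hI) (hI.mul hI8) (by
        rw [F.val_mul hI8 hI, F.val_mul hI hI8]; exact h1.eq))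
  rw [← ha, ← hb]
  have m4 : cyc3 (0 : Fin 9) 1 4 ∈ M2 := by decide +kernel
  have m5 : cyc3 (0 : Fin 9) 1 5 ∈ M2 := by decide +kernel
  have hrel : ∀ u v : Perm (Fin 9), u ∈ M2 → v ∈ M2 → (u * v) ^ 2 = 1 →
      g * a * g⁻¹ = FourPerm.im F u → g * b * g⁻¹ = FourPerm.im F v → (a * b) ^ 2 = 1 := by
    intro u v hu hv huv hau hbv
    have : g * (a * b) ^ 2 * g⁻¹ = 1 := by
      rw [← conj_pow, show g * (a * b) * g⁻¹ = g * a * g⁻¹ * (g * b * g⁻¹) by group, hau, hbv,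
        ← FourPerm.im_mul F hu hv, ← FourPerm.im_pow F (mul_mem hu hv), huv, FourPerm.im_one]
    exact conj_eq_one_iff.mp this
  rcases hA with hA | hA <;> rcases hB with hB | hB
  · exact absurd (mul_left_cancel (mul_right_cancel (hA.trans hB.symm))) hne
  · exact hrel _ _ m4 m5 (by decide +kernel) hA hB
  · exact hrel _ _ m5 m4 (by decide +kernel) hA hB
  · exact absurd (mul_left_cancel (mul_right_cancel (hA.trans hB.symm))) hne

end CfsgLib.A9Three
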