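import Cfsg.Agent.Lib.A9Three.Block
import Cfsg.Agent.Lib.CoprimeGen
import Cfsg.Agent.Lib.SelfCentThree.Main
import Cfsg.Agent.Lib.SLCard

set_option autoImplicit false
set_option maxRecDepth 8000
set_option synthInstance.maxSize 2000

/-!
The centralizer of a four-group of involutions commuting with the short translation.
-/

namespace CfsgLib.A9Three

open CfsgLib.A9Local Equiv Equiv.Perm

universe u

/-- The short translation as a permutation. -/
abbrev z9 : Perm (Fin 9) := swap 6 7 * swap 7 8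

theorem z9_eq : theta (tr aV) = z9 := by decide +kernel

theorem z9_mem : z9 ∈ M2 := by decide +kernel

/-- A four-group in the stabilizer of a block with an element of order three permuting it. -/
structure FourPerm where
  /-- first involution -/
  v1 : Perm (Fin 9)
  /-- second involution -/
  v2 : Perm (Fin 9)
  /-- the element of order three -/
  π : Perm (Fin 9)
  m1 : v1 ∈ M2
  m2 : v2 ∈ M2
  mπ : π ∈ M2
  sq1 : v1 * v1 = 1
  sq2 : v2 * v2 = 1
  ne1 : v1 ≠ 1
  ne2 : v2 ≠ 1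
  ne : v1 ≠ v2
  comm : v1 * v2 = v2 * v1
  z1 : z9 * v1 = v1 * z9
  z2 : z9 * v2 = v2 * z9
  zπ : z9 * π = π * z9
  π3 : π ^ 3 = 1
  πz : ∀ i : Fin 3, π ≠ z9 ^ i.val
  perm : π * v1 * π⁻¹ = v2 ∧ π * v2 * π⁻¹ = v1 * v2
  cz : ∀ x : Perm (Fin 6) × Perm (Fin 3), sign x.1 * sign x.2 = 1 →
    inc63 x * v1 = v1 * inc63 x → inc63 x * v2 = v2 * inc63 x → inc63 x * z9 = z9 * inc63 x →
    ∃ k : Fin 3, inc63 x = z9 ^ k.val ∨ inc63 x = v1 * z9 ^ k.val ∨ inc63 x = v2 * z9 ^ k.val ∨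
      inc63 x = v1 * v2 * z9 ^ k.val

variable {G : Type u} [Group G] [Finite G] {L : Loc G}

theorem Frame.val_z (F : Frame L) : F.val 1 z9 = L.ι (tr aV) := by
  rw [← z9_eq]
  exact F.val_theta (inBlk_one.mpr (z9_eq ▸ z9_mem))

/-- A subgroup of order prime to three meets the model in elements commuting with the short translation,
as soon as this normalizes it. -/
theorem Loc.comm_of_mem_range (L : Loc G) {O : Subgroup G} (hO : (Nat.card O).Coprime 3)
    (hz : ∀ o ∈ O, L.ι (tr aV) * o * (L.ι (tr aV))⁻¹ ∈ O) {x : G} (hx : x ∈ O) (hr : x ∈ L.ι.range) :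
    Commute x (L.ι (tr aV)) := by
  obtain ⟨h, rfl⟩ := hr
  set c := L.ι (tr aV) * L.ι h * (L.ι (tr aV))⁻¹ * (L.ι h)⁻¹ with hc
  have hcO : c ∈ O := mul_mem (hz _ hx) (inv_mem hx)
  have hc3 : c ^ 3 = 1 := by
    obtain ⟨w, hw⟩ := (mem_transl_iff (tr aV * (h * (tr aV)⁻¹ * h⁻¹))).mp
      (mul_mem (show tr aV ∈ transl from rfl) (transl_normal.conj_mem _ (inv_mem (show tr aV ∈ transl from rfl)) h))
    have : c = L.ι (tr w) := by
      rw [hc, ← map_inv, ← map_inv, ← map_mul, ← map_mul, ← map_mul, ← hw]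
      exact congrArg L.ι (by group)
    rw [this, L.tr_pow_three]
  have hc1 : c = 1 := orderOf_eq_one_iff.mp
    (Nat.eq_one_of_dvd_coprimes hO (Subgroup.orderOf_dvd_natCard O hcO) (orderOf_dvd_of_pow_eq_one hc3))
  exact (mul_inv_eq_iff_eq_mul.mp (mul_inv_eq_one.mp hc1)).symm

variable (F : Frame L) (D : FourPerm)

namespace FourPerm

/-- The image of a permutation. -/
noncomputable abbrev im (σ : Perm (Fin 9)) : G := F.val 1 σ

theorem im_mul {σ τ : Perm (Fin 9)} (hσ : σ ∈ M2) (hτ : τ ∈ M2) : im F (σ * τ) = im F σ * im F τ :=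
  F.val_mul (inBlk_one.mpr hσ) (inBlk_one.mpr hτ)

theorem im_commute {σ τ : Perm (Fin 9)} (hσ : σ ∈ M2) (hτ : τ ∈ M2) (h : σ * τ = τ * σ) : Commute (im F σ) (im F τ) :=
  F.val_commute (inBlk_one.mpr hσ) (inBlk_one.mpr hτ) h

theorem im_inj {σ τ : Perm (Fin 9)} (hσ : σ ∈ M2) (hτ : τ ∈ M2) (h : im F σ = im F τ) : σ = τ :=
  F.val_injective (inBlk_one.mpr hσ) (inBlk_one.mpr hτ) h

theorem im_pow {σ : Perm (Fin 9)} (hσ : σ ∈ M2) (n : ℕ) : im F (σ ^ n) = im F σ ^ n :=
  (F.val_pow (inBlk_one.mpr hσ) n).2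

theorem im_one : im F 1 = 1 := F.val_one 1

/-- The centralizer of the four-group. -/
noncomputable abbrev K : Subgroup G := Subgroup.centralizer ({im F D.v1, im F D.v2} : Set G)

theorem mem_K {g : G} : g ∈ D.K F ↔ Commute g (im F D.v1) ∧ Commute g (im F D.v2) := by
  rw [Subgroup.mem_centralizer_iff]
  constructor
  · intro h
    exact ⟨(h _ (Or.inl rfl)).symm, (h _ (Or.inr rfl)).symm⟩
  · rintro ⟨h1, h2⟩ y (rfl | rfl)
    exacts [h1.symm, h2.symm]

/-- The four-group in the centralizer. -/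
noncomputable def V : Subgroup (D.K F) :=
  (Subgroup.closure ({im F D.v1, im F D.v2} : Set G)).subgroupOf (D.K F)

theorem closure_cases {g : G} : g ∈ Subgroup.closure ({im F D.v1, im F D.v2} : Set G) ↔
    g = 1 ∨ g = im F D.v1 ∨ g = im F D.v2 ∨ g = im F D.v1 * im F D.v2 := by
  have s1 : im F D.v1 * im F D.v1 = 1 := by rw [← im_mul F D.m1 D.m1, D.sq1, im_one]
  have s2 : im F D.v2 * im F D.v2 = 1 := by rw [← im_mul F D.m2 D.m2, D.sq2, im_one]
  have hc : im F D.v1 * im F D.v2 = im F D.v2 * im F D.v1 := (im_commute F D.m1 D.m2 D.comm).eq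
  constructor
  · intro hg
    induction hg using Subgroup.closure_induction_left with
    | one => exact Or.inl rfl
    | mul_left x hx y _ ih =>
      rcases hx with rfl | rfl <;> rcases ih with rfl | rfl | rfl | rfl
      · exact Or.inr (Or.inl (mul_one _))
      · exact Or.inl s1
      · exact Or.inr (Or.inr (Or.inr rfl))
      · exact Or.inr (Or.inr (Or.inl (by rw [← mul_assoc, s1, one_mul])))
      · exact Or.inr (Or.inr (Or.inl (mul_one _)))
      · exact Or.inr (Or.inr (Or.inr hc.symm))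
      · exact Or.inl s2
      · exact Or.inr (Or.inl (by rw [hc, ← mul_assoc, s2, one_mul]))
    | inv_mul_cancel x hx y _ ih =>
      rcases hx with rfl | rfl <;> rw [inv_eq_of_mul_eq_one_right (by first | exact s1 | exact s2)] <;>
        rcases ih with rfl | rfl | rfl | rfl
      · exact Or.inr (Or.inl (mul_one _))
      · exact Or.inl s1
      · exact Or.inr (Or.inr (Or.inr rfl))
      · exact Or.inr (Or.inr (Or.inl (by rw [← mul_assoc, s1, one_mul])))
      · exact Or.inr (Or.inr (Or.inl (mul_one _)))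
      · exact Or.inr (Or.inr (Or.inr hc.symm))
      · exact Or.inl s2
      · exact Or.inr (Or.inl (by rw [hc, ← mul_assoc, s2, one_mul]))
  · have h1 : im F D.v1 ∈ Subgroup.closure ({im F D.v1, im F D.v2} : Set G) := Subgroup.subset_closure (Or.inl rfl)
    have h2 : im F D.v2 ∈ Subgroup.closure ({im F D.v1, im F D.v2} : Set G) := Subgroup.subset_closure (Or.inr rfl)
    rintro (rfl | rfl | rfl | rfl)
    exacts [one_mem _, h1, h2, mul_mem h1 h2]

theorem mem_V {g : D.K F} : g ∈ D.V F ↔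
    (g : G) = 1 ∨ (g : G) = im F D.v1 ∨ (g : G) = im F D.v2 ∨ (g : G) = im F D.v1 * im F D.v2 :=
  Subgroup.mem_subgroupOf.trans (D.closure_cases F)

theorem closure_le_K : Subgroup.closure ({im F D.v1, im F D.v2} : Set G) ≤ D.K F := by
  rw [Subgroup.closure_le]
  rintro x (rfl | rfl)
  · exact (D.mem_K F).mpr ⟨Commute.refl _, im_commute F D.m1 D.m2 D.comm⟩
  · exact (D.mem_K F).mpr ⟨(im_commute F D.m1 D.m2 D.comm).symm, Commute.refl _⟩

theorem V_center : D.V F ≤ Subgroup.center (D.K F) := by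
  intro v hv
  rw [Subgroup.mem_center_iff]
  intro g
  refine Subtype.ext ?_
  obtain ⟨h1, h2⟩ := (D.mem_K F).mp g.2
  rcases (D.mem_V F).mp hv with e | e | e | e <;> simp only [Subgroup.coe_mul, e, mul_one, one_mul]
  exacts [h1.eq, h2.eq, (h1.mul_right h2).eq]

instance : (D.V F).Normal where
  conj_mem v hv g := by
    rw [Subgroup.mem_center_iff.mp (D.V_center F hv) g, mul_inv_cancel_right]
    exact hv

theorem V_sq {v : D.K F} (hv : v ∈ D.V F) : v * v = 1 := by
  have s1 : im F D.v1 * im F D.v1 = 1 := by rw [← im_mul F D.m1 D.m1, D.sq1, im_one]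
  have s2 : im F D.v2 * im F D.v2 = 1 := by rw [← im_mul F D.m2 D.m2, D.sq2, im_one]
  refine Subtype.ext ?_
  rcases (D.mem_V F).mp hv with e | e | e | e <;> simp only [Subgroup.coe_mul, Subgroup.coe_one, e, mul_one]
  · exact s1
  · exact s2
  · calc im F D.v1 * im F D.v2 * (im F D.v1 * im F D.v2)
        = im F D.v1 * (im F D.v2 * im F D.v1) * im F D.v2 := by group
      _ = 1 := by rw [← (im_commute F D.m1 D.m2 D.comm).eq, ← mul_assoc, s1, one_mul, s2]

theorem card_V : Nat.card (D.V F) ∣ 4 := by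
  have hsq : ∀ v : D.V F, v * v = 1 := fun v => Subtype.ext (D.V_sq F v.2)
  haveI := Fact.mk Nat.prime_two
  have h2 : IsPGroup 2 (D.V F) := fun v => ⟨1, by rw [pow_one, pow_two, hsq]⟩
  obtain ⟨n, hn⟩ := IsPGroup.iff_card.mp h2
  have hle : Nat.card (D.V F) ≤ 4 := by
    classical
    let f : D.V F → Fin 4 := fun v =>
      if ((v : D.K F) : G) = 1 then 0 else if ((v : D.K F) : G) = im F D.v1 then 1
      else if ((v : D.K F) : G) = im F D.v2 then 2 else 3
    have hf : Function.Injective f := by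
      intro a b h
      refine Subtype.ext (Subtype.ext ?_)
      rcases (D.mem_V F).mp a.2 with ea | ea | ea | ea <;> rcases (D.mem_V F).mp b.2 with eb | eb | eb | eb <;>
        simp only [f, ea, eb] at h ⊢ <;> split_ifs at h <;> simp_all
    simpa using Nat.card_le_card_of_injective f hf
  rw [hn] at hle ⊢
  have : n ≤ 2 := by
    by_contra hc
    exact absurd (Nat.pow_le_pow_right (by norm_num : 0 < 2) (show 3 ≤ n by omega)) (by omega)
  exact (show (2 : ℕ) ^ n ∣ 2 ^ 2 from pow_dvd_pow 2 this)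

/-- The short translation in the centralizer. -/
noncomputable def zK : D.K F :=
  ⟨im F z9, (D.mem_K F).mpr ⟨im_commute F z9_mem D.m1 D.z1, im_commute F z9_mem D.m2 D.z2⟩⟩

/-- The part of the centralizer commuting with the short translation. -/
theorem comm_z {g : G} (hg : g ∈ D.K F) (hz : Commute g (im F z9)) :
    ∃ k : Fin 3, ∃ v, v ∈ Subgroup.closure ({im F D.v1, im F D.v2} : Set G) ∧ g = v * im F z9 ^ k.val := by
  have hz' : g * L.ι (tr aV) * g⁻¹ = L.ι (tr aV) := by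
    rw [← F.val_z]; exact mul_inv_eq_iff_eq_mul.mpr hz.eq
  obtain ⟨σ, hσ⟩ := F.norm g (Or.inl hz')
  obtain ⟨x, hx⟩ := exists_inc63 σ.2
  have hgσ : g = im F σ := by rw [← hσ]; exact (F.val_one_eq σ.2).symm
  obtain ⟨h1, h2⟩ := (D.mem_K F).mp hg
  have back : ∀ τ, τ ∈ M2 → Commute g (im F τ) → (σ : Perm (Fin 9)) * τ = τ * σ := fun τ hτ hc =>
    im_inj F (mul_mem σ.2 hτ) (mul_mem hτ σ.2) (by rw [im_mul F σ.2 hτ, im_mul F hτ σ.2, ← hgσ]; exact hc.eq)
  have hs : sign x.1 * sign x.2 = 1 := by rw [← sign_inc63, hx]; exact σ.2.1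
  obtain ⟨k, hk⟩ := D.cz x hs (hx ▸ back _ D.m1 h1) (hx ▸ back _ D.m2 h2) (hx ▸ back _ z9_mem hz)
  rw [hx] at hk
  have hk2 := pow_mem z9_mem k.val
  refine ⟨k, ?_⟩
  rcases hk with e | e | e | e
  · exact ⟨1, one_mem _, by rw [hgσ, e, one_mul, im_pow F z9_mem]⟩
  · exact ⟨_, (D.closure_cases F).mpr (Or.inr (Or.inl rfl)), by rw [hgσ, e, im_mul F D.m1 hk2, im_pow F z9_mem]⟩
  · exact ⟨_, (D.closure_cases F).mpr (Or.inr (Or.inr (Or.inl rfl))), by
      rw [hgσ, e, im_mul F D.m2 hk2, im_pow F z9_mem]⟩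
  · exact ⟨_, (D.closure_cases F).mpr (Or.inr (Or.inr (Or.inr rfl))), by
      rw [hgσ, e, im_mul F (mul_mem D.m1 D.m2) hk2, im_mul F D.m1 D.m2, im_pow F z9_mem]⟩

theorem im_z_pow : im F z9 ^ 3 = 1 := by
  rw [show im F z9 = L.ι (tr aV) from F.val_z, L.tr_pow_three]

/-- The largest normal subgroup of order prime to three. -/
noncomputable abbrev O : Subgroup G := (Cfsg.pPrimeCore 3 (D.K F)).map (D.K F).subtype

theorem O_coprime : (Nat.card (D.O F)).Coprime 3 := by
  rw [Subgroup.card_map_of_injective (D.K F).subtype_injective]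
  exact CfsgLib.card_pPrimeCore_coprime 3

theorem norm_K {g : G} (hg : ∀ x ∈ ({im F D.v1, im F D.v2} : Set G),
    g * x * g⁻¹ ∈ Subgroup.closure ({im F D.v1, im F D.v2} : Set G) ∧
    g⁻¹ * x * g ∈ Subgroup.closure ({im F D.v1, im F D.v2} : Set G)) :
    g ∈ Subgroup.normalizer (D.K F : Set G) := by
  have hc : ∀ k ∈ D.K F, ∀ y ∈ Subgroup.closure ({im F D.v1, im F D.v2} : Set G), Commute k y := by
    intro k hk y hy
    obtain ⟨h1, h2⟩ := (D.mem_K F).mp hk
    rcases (D.closure_cases F).mp hy with rfl | rfl | rfl | rfl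
    exacts [Commute.one_right _, h1, h2, h1.mul_right h2]
  rw [Subgroup.mem_normalizer_iff]
  intro k
  constructor
  · intro hk
    refine (D.mem_K F).mpr ⟨?_, ?_⟩
    · have := (hc k hk _ (hg _ (Or.inl rfl)).2).map (MulAut.conj g).toMonoidHom
      simpa [mul_assoc] using this
    · have := (hc k hk _ (hg _ (Or.inr rfl)).2).map (MulAut.conj g).toMonoidHom
      simpa [mul_assoc] using this
  · intro hk
    refine (D.mem_K F).mpr ⟨?_, ?_⟩
    · have := (hc _ hk _ (hg _ (Or.inl rfl)).1).map (MulAut.conj g⁻¹).toMonoidHom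
      simpa [mul_assoc] using this
    · have := (hc _ hk _ (hg _ (Or.inr rfl)).1).map (MulAut.conj g⁻¹).toMonoidHom
      simpa [mul_assoc] using this

/-- The elements of the group generated by the short translation and the element of order three. -/
theorem A_mem_M2 (i j : ℕ) : z9 ^ i * D.π ^ j ∈ M2 := mul_mem (pow_mem z9_mem i) (pow_mem D.mπ j)

/-- The group of order nine acting. -/
noncomputable def A : Subgroup G where
  carrier := {g | ∃ i j : ℕ, g = im F z9 ^ i * im F D.π ^ j}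
  one_mem' := ⟨0, 0, by simp⟩
  mul_mem' := by
    rintro _ _ ⟨i, j, rfl⟩ ⟨k, l, rfl⟩
    have hc : Commute (im F D.π ^ j) (im F z9 ^ k) := ((im_commute F z9_mem D.mπ D.zπ).symm.pow_pow j k)
    refine ⟨i + k, j + l, ?_⟩
    rw [pow_add, pow_add, mul_assoc, ← mul_assoc (im F D.π ^ j), hc.eq]
    group
  inv_mem' := by
    rintro _ ⟨i, j, rfl⟩
    have hc : Commute (im F z9 ^ (2 * i)) (im F D.π ^ (2 * j)) := ((im_commute F z9_mem D.mπ D.zπ).pow_pow _ _)
    refine ⟨2 * i, 2 * j, inv_eq_of_mul_eq_one_right ?_⟩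
    have hp : im F D.π ^ 3 = 1 := by rw [← im_pow F D.mπ, D.π3, im_one]
    have hc2 : Commute (im F D.π ^ j) (im F z9 ^ (2 * i)) := ((im_commute F z9_mem D.mπ D.zπ).symm.pow_pow _ _)
    calc im F z9 ^ i * im F D.π ^ j * (im F z9 ^ (2 * i) * im F D.π ^ (2 * j))
        = im F z9 ^ i * (im F D.π ^ j * im F z9 ^ (2 * i)) * im F D.π ^ (2 * j) := by group
      _ = im F z9 ^ (3 * i) * im F D.π ^ (3 * j) := by
        rw [hc2.eq, show 3 * i = i + 2 * i by omega, show 3 * j = j + 2 * j by omega, pow_add, pow_add]; group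
      _ = 1 := by rw [pow_mul, pow_mul, im_z_pow, hp, one_pow, one_pow, one_mul]

theorem A_cases {d : G} (hd : d ∈ D.A F) : ∃ i j : Fin 3, d = im F (z9 ^ i.val * D.π ^ j.val) := by
  obtain ⟨i, j, rfl⟩ := hd
  refine ⟨⟨i % 3, Nat.mod_lt _ (by norm_num)⟩, ⟨j % 3, Nat.mod_lt _ (by norm_num)⟩, ?_⟩
  rw [im_mul F (pow_mem z9_mem _) (pow_mem D.mπ _), im_pow F z9_mem, im_pow F D.mπ,
    pow_eq_pow_mod i (im_z_pow F), pow_eq_pow_mod j (show im F D.π ^ 3 = 1 by rw [← im_pow F D.mπ, D.π3, im_one])]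

theorem A_comm : IsMulCommutative (D.A F) := by
  refine ⟨⟨fun a b => Subtype.ext ?_⟩⟩
  obtain ⟨i, j, ha⟩ := D.A_cases F a.2
  obtain ⟨k, l, hb⟩ := D.A_cases F b.2
  show (a : G) * b = b * a
  rw [ha, hb]
  refine (im_commute F (D.A_mem_M2 _ _) (D.A_mem_M2 _ _) ?_).eq
  have c : Commute z9 D.π := D.zπ
  exact (((Commute.refl z9).pow_pow _ _).mul_right (c.pow_pow _ _)).mul_left
    ((c.symm.pow_pow _ _).mul_right ((Commute.refl D.π).pow_pow _ _))

theorem A_three {d : G} (hd : d ∈ D.A F) : d ^ 3 = 1 := by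
  obtain ⟨i, j, rfl⟩ := D.A_cases F hd
  have c : Commute (z9 ^ i.val) (D.π ^ j.val) := (show Commute z9 D.π from D.zπ).pow_pow _ _
  rw [← im_pow F (D.A_mem_M2 _ _), c.mul_pow, ← pow_mul, ← pow_mul, mul_comm i.val, mul_comm j.val, pow_mul,
    pow_mul, D.π3, show z9 ^ 3 = 1 by decide +kernel, one_pow, one_pow, one_mul, im_one]

theorem z_mem_A : im F z9 ∈ D.A F := ⟨1, 0, by rw [pow_one, pow_zero, mul_one]⟩

theorem π_mem_A : im F D.π ∈ D.A F := ⟨0, 1, by rw [pow_zero, pow_one, one_mul]⟩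

theorem A_not_cyclic : ¬ IsCyclic (D.A F) := by
  intro h
  obtain ⟨g, hg⟩ := IsCyclic.exists_generator (α := D.A F)
  obtain ⟨a, ha⟩ := Subgroup.mem_zpowers_iff.mp (hg ⟨_, D.z_mem_A F⟩)
  obtain ⟨b, hb⟩ := Subgroup.mem_zpowers_iff.mp (hg ⟨_, D.π_mem_A F⟩)
  have hg3 : g ^ (3 : ℤ) = 1 := Subtype.ext (by rw [zpow_ofNat, Subgroup.coe_pow]; exact D.A_three F g.2)
  have hred : ∀ m : ℤ, g ^ m = g ^ (m % 3).toNat := fun m => by
    conv_lhs => rw [← Int.emod_add_mul_ediv m 3]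
    rw [zpow_add, zpow_mul, hg3, one_zpow, mul_one, ← zpow_natCast, Int.toNat_of_nonneg (Int.emod_nonneg m (by norm_num))]
  rw [hred] at ha hb
  have h1 : (g : G) ^ (a % 3).toNat = im F z9 := by rw [← Subgroup.coe_pow, ha]
  have h2 : (g : G) ^ (b % 3).toNat = im F D.π := by rw [← Subgroup.coe_pow, hb]
  have ha0 : (a % 3).toNat ≠ 0 := fun e => by
    rw [e, pow_zero] at h1
    exact (by decide +kernel : z9 ≠ 1) (im_inj F z9_mem (one_mem _) (by rw [im_one, ← h1]))
  have hlt : (a % 3).toNat < 3 := by omega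
  have hg : ∃ k : ℕ, im F z9 ^ k = (g : G) := by
    have h3 := D.A_three F g.2
    rcases (show (a % 3).toNat = 1 ∨ (a % 3).toNat = 2 by omega) with e | e <;> rw [e] at h1
    · exact ⟨1, by rw [pow_one, ← h1, pow_one]⟩
    · exact ⟨2, by rw [← h1, ← pow_mul, show 2 * 2 = 3 + 1 from rfl, pow_succ, h3, one_mul]⟩
  obtain ⟨k, hk⟩ := hg
  rw [← hk, ← pow_mul, pow_eq_pow_mod _ (im_z_pow F), ← im_pow F z9_mem] at h2
  exact D.πz ⟨_, Nat.mod_lt _ (by norm_num)⟩ (im_inj F D.mπ (pow_mem z9_mem _) h2.symm)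

theorem A_norm_K : D.A F ≤ Subgroup.normalizer (D.K F : Set G) := by
  have hz : im F z9 ∈ Subgroup.normalizer (D.K F : Set G) := Subgroup.le_normalizer (D.zK F).2
  have hp3 : im F D.π ^ 3 = 1 := by rw [← im_pow F D.mπ, D.π3, im_one]
  have hπ : im F D.π ∈ Subgroup.normalizer (D.K F : Set G) := by
    refine D.norm_K F fun x hx => ?_
    set P := im F D.π
    set a := im F D.v1
    set b := im F D.v2
    have q1 : P * a * P⁻¹ = b := by
      show im F D.π * im F D.v1 * (im F D.π)⁻¹ = im F D.v2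
      rw [← F.val_conj (inBlk_one.mpr D.mπ) (inBlk_one.mpr D.m1), D.perm.1]
    have q2 : P * b * P⁻¹ = a * b := by
      show im F D.π * im F D.v2 * (im F D.π)⁻¹ = im F D.v1 * im F D.v2
      rw [← F.val_conj (inBlk_one.mpr D.mπ) (inBlk_one.mpr D.m2), D.perm.2]
      exact im_mul F D.m1 D.m2
    have s2 : b * b = 1 := by
      show im F D.v2 * im F D.v2 = 1
      rw [← im_mul F D.m2 D.m2, D.sq2, im_one]
    have q3 : P * (a * b) * P⁻¹ = a := by
      have hc : a * b = b * a := (im_commute F D.m1 D.m2 D.comm).eq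
      rw [show P * (a * b) * P⁻¹ = P * a * P⁻¹ * (P * b * P⁻¹) by group, q1, q2, hc, ← mul_assoc, s2, one_mul]
    have hcl : ∀ y, y = a ∨ y = b ∨ y = a * b → y ∈ Subgroup.closure ({a, b} : Set G) := fun y hy =>
      (D.closure_cases F).mpr (Or.inr hy)
    rcases hx with rfl | rfl
    · refine ⟨q1 ▸ hcl _ (Or.inr (Or.inl rfl)), ?_⟩
      rw [show P⁻¹ * a * P = a * b from (show P⁻¹ * a * P = P⁻¹ * (P * (a * b) * P⁻¹) * P by rw [q3]).trans (by group)]
      exact hcl _ (Or.inr (Or.inr rfl))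
    · refine ⟨q2 ▸ hcl _ (Or.inr (Or.inr rfl)), ?_⟩
      rw [show P⁻¹ * b * P = a from (show P⁻¹ * b * P = P⁻¹ * (P * a * P⁻¹) * P by rw [q1]).trans (by group)]
      exact hcl _ (Or.inl rfl)
  rintro g ⟨i, j, rfl⟩
  exact mul_mem (pow_mem hz i) (pow_mem hπ j)

theorem A_norm_O : D.A F ≤ Subgroup.normalizer (D.O F : Set G) :=
  (CfsgLib.le_normalizer_map_characteristic (D.A_norm_K F) (Cfsg.pPrimeCore 3 (D.K F))).1

/-- The element of order three twisted by the short translation is conjugate to a translation with small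
centralizer. -/
def Good (k : Fin 3) : Prop :=
  ∃ σ ∈ M2, σ * z9 = z9 * σ ∧ ∃ w : Vec, theta (tr w) ∈ M2 ∧ two w = true ∧
    z9 ^ k.val * D.π = σ * theta (tr w) * σ⁻¹

theorem good_conj {k : Fin 3} (hk : D.Good k) {x : G} (hx : Commute x (im F (z9 ^ k.val * D.π))) :
    ∃ s : G, Commute s (im F z9) ∧ s⁻¹ * x * s ∈ L.ι.range := by
  obtain ⟨σ, hσ, hσz, w, hwM, hw, e⟩ := hk
  refine ⟨im F σ, im_commute F hσ z9_mem hσz, L.cent_two_le hw ?_⟩
  rw [Subgroup.mem_centralizer_singleton_iff]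
  have he : im F (z9 ^ k.val * D.π) = im F σ * L.ι (tr w) * (im F σ)⁻¹ := by
    rw [e, show im F (σ * theta (tr w) * σ⁻¹) = _ from F.val_conj (inBlk_one.mpr hσ) (inBlk_one.mpr hwM),
      F.val_theta (inBlk_one.mpr hwM)]
  have hx' := hx.eq
  rw [he] at hx'
  calc (im F σ)⁻¹ * x * im F σ * L.ι (tr w)
      = (im F σ)⁻¹ * (x * (im F σ * L.ι (tr w) * (im F σ)⁻¹)) * im F σ := by group
    _ = L.ι (tr w) * ((im F σ)⁻¹ * x * im F σ) := by rw [hx']; group

theorem good_O {k : Fin 3} (hk : D.Good k) {x : G} (hx : x ∈ D.O F) (hc : Commute x (im F (z9 ^ k.val * D.π))) :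
    Commute x (im F z9) := by
  obtain ⟨s, hs, hr⟩ := D.good_conj F hk hc
  have hzO := Subgroup.mem_normalizer_iff.mp (D.A_norm_O F (D.z_mem_A F))
  have := L.comm_of_mem_range (O := (D.O F).map (MulAut.conj s⁻¹).toMonoidHom)
    (by rw [Subgroup.card_map_of_injective (MulAut.conj s⁻¹).injective]; exact D.O_coprime F) ?_
    (x := s⁻¹ * x * s) (Subgroup.mem_map.mpr ⟨x, hx, by simp⟩) hr
  · rw [← F.val_z] at this
    have h2 := this.map (MulAut.conj s).toMonoidHom
    simp only [MulEquiv.coe_toMonoidHom, MulAut.conj_apply] at h2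
    rwa [show s * (s⁻¹ * x * s) * s⁻¹ = x by group, show s * F.val 1 z9 * s⁻¹ = F.val 1 z9 by
      rw [hs.eq, mul_inv_cancel_right]] at h2
  · rintro _ ⟨o, ho, rfl⟩
    refine ⟨im F z9 * o * (im F z9)⁻¹, (hzO o).mp ho, ?_⟩
    rw [← F.val_z]
    show s⁻¹ * (im F z9 * o * (im F z9)⁻¹) * s⁻¹⁻¹ = im F z9 * (s⁻¹ * o * s⁻¹⁻¹) * (im F z9)⁻¹
    have h2 : s⁻¹ * im F z9 = im F z9 * s⁻¹ := hs.inv_left.eq
    have h3 : s * (im F z9)⁻¹ = (im F z9)⁻¹ * s := hs.inv_right.eq
    calc s⁻¹ * (im F z9 * o * (im F z9)⁻¹) * s⁻¹⁻¹ = (s⁻¹ * im F z9) * o * ((im F z9)⁻¹ * s) := by group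
      _ = _ := by rw [h2, ← h3]; group

theorem O_z {x : G} (hx : x ∈ D.O F) (hc : Commute x (im F z9)) :
    x ∈ Subgroup.closure ({im F D.v1, im F D.v2} : Set G) := by
  have hxK : x ∈ D.K F := Subgroup.map_subtype_le _ hx
  obtain ⟨k, v, hv, e⟩ := D.comm_z F hxK hc
  have hvK : v ∈ D.K F := D.closure_le_K F hv
  have hcv : Commute v (im F z9) := by
    obtain ⟨h1, h2⟩ := (D.mem_K F).mp (D.zK F).2
    rcases (D.closure_cases F).mp hv with rfl | rfl | rfl | rfl
    exacts [Commute.one_left _, h1.symm, h2.symm, (h1.mul_right h2).symm]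
  have hv2 : v ^ 2 = 1 := by
    have := D.V_sq F (v := ⟨v, hvK⟩) hv
    rw [pow_two]
    exact congrArg Subtype.val this
  have h1 : (im F z9 ^ k.val) ^ 2 ∈ D.O F := by
    have := pow_mem hx 2
    rwa [e, (hcv.pow_right _).mul_pow, hv2, one_mul] at this
  have h3 : ((im F z9 ^ k.val) ^ 2) ^ 3 = 1 := by
    rw [← pow_mul, ← pow_mul, show k.val * (2 * 3) = 3 * (k.val * 2) by ring, pow_mul, im_z_pow, one_pow]
  have h4 : (im F z9 ^ k.val) ^ 2 = 1 := orderOf_eq_one_iff.mp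
    (Nat.eq_one_of_dvd_coprimes (D.O_coprime F) (Subgroup.orderOf_dvd_natCard _ h1) (orderOf_dvd_of_pow_eq_one h3))
  have h5 : im F z9 ^ k.val = 1 := by
    have := h3
    calc im F z9 ^ k.val = (im F z9 ^ k.val) ^ 3 * ((im F z9 ^ k.val) ^ 2)⁻¹ := by group
      _ = 1 := by rw [h4, inv_one, mul_one, ← pow_mul, mul_comm, pow_mul, im_z_pow, one_pow]
  rw [e, h5, mul_one]
  exact hv

/-- The core is generated by the four-group and the centralizer of the element of order three in it. -/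
theorem O_gen (hgood : ∀ k : Fin 3, k ≠ 0 → D.Good k) :
    D.O F ≤ Subgroup.closure ({im F D.v1, im F D.v2} : Set G) ⊔ (D.O F ⊓ Subgroup.centralizer {im F D.π}) := by
  haveI := D.A_comm F
  have hcop : (Nat.card (D.A F)).Coprime (Nat.card (D.O F)) := by
    haveI := Fact.mk Nat.prime_three
    obtain ⟨n, hn⟩ := IsPGroup.iff_card.mp (show IsPGroup 3 (D.A F) from fun a =>
      ⟨1, Subtype.ext (by rw [pow_one, Subgroup.coe_pow]; exact D.A_three F a.2)⟩)
    rw [hn]
    exact Nat.Coprime.pow_left n (D.O_coprime F).symm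
  have hgen := CfsgLib.coprime_generated_by_centralizers (D.A_not_cyclic F) (D.A_norm_O F) hcop
  rw [← hgen]
  refine iSup₂_le fun d hd x hx => ?_
  obtain ⟨hdA, hd1⟩ := hd
  obtain ⟨hxO, hxd⟩ := hx
  replace hxd := Subgroup.mem_centralizer_singleton_iff.mp hxd
  rw [hgen] at *
  obtain ⟨i, j, rfl⟩ := D.A_cases F hdA
  have hroot : ∀ n : ℕ, Commute x (im F (z9 ^ i.val * D.π ^ j.val) ^ n) := fun n =>
    (show Commute x _ from hxd).pow_right n
  by_cases hj : j = 0
  · -- powers of the short translation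
    subst hj
    have hi : i ≠ 0 := fun e => hd1 (by rw [e]; show im F (z9 ^ 0 * D.π ^ 0) = 1; rw [pow_zero, pow_zero, mul_one, im_one])
    refine Subgroup.mem_sup_left (D.O_z F hxO ?_)
    have h := hroot i.val
    rw [← im_pow F (D.A_mem_M2 _ _)] at h
    rwa [show (z9 ^ i.val * D.π ^ (0 : Fin 3).val) ^ i.val = z9 by
      rw [show D.π ^ (0 : Fin 3).val = 1 from pow_zero _, mul_one, ← pow_mul]
      exact (by decide +kernel : ∀ i : Fin 3, i ≠ 0 → z9 ^ (i.val * i.val) = z9) i hi] at h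
  · have h := hroot j.val
    rw [← im_pow F (D.A_mem_M2 _ _), ((show Commute z9 D.π from D.zπ).pow_pow _ _).mul_pow, ← pow_mul, ← pow_mul,
      show D.π ^ (j.val * j.val) = D.π by
        rw [pow_eq_pow_mod _ D.π3, (by decide : ∀ j : Fin 3, j ≠ 0 → j.val * j.val % 3 = 1) j hj, pow_one],
      pow_eq_pow_mod _ (show z9 ^ 3 = 1 by decide +kernel)] at h
    by_cases hk : (⟨i.val * j.val % 3, Nat.mod_lt _ (by norm_num)⟩ : Fin 3) = 0
    · rw [show i.val * j.val % 3 = 0 from congrArg Fin.val hk, pow_zero, one_mul] at h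
      exact Subgroup.mem_sup_right ⟨hxO, Subgroup.mem_centralizer_singleton_iff.mpr h.eq⟩
    · exact Subgroup.mem_sup_left (D.O_z F hxO (D.good_O F (hgood _ hk) hxO h))

end FourPerm

end CfsgLib.A9Three
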