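import Cfsg.Agent.Lib.A9Three.FourQuot

set_option autoImplicit false
set_option maxRecDepth 8000
set_option synthInstance.maxSize 2000

/-!
The two four-groups: one moving four points, one moving six.
-/

namespace CfsgLib.A9Three

open CfsgLib.A9Local Equiv Equiv.Perm CfsgLib.SelfCentThree

universe u

/-- The four-group on four points. -/
def fourU : FourPerm where
  v1 := swap 0 1 * swap 2 3
  v2 := swap 0 3 * swap 1 2
  π := swap 0 1 * swap 1 2
  m1 := by decide +kernel
  m2 := by decide +kernel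
  mπ := by decide +kernel
  sq1 := by decide +kernel
  sq2 := by decide +kernel
  ne1 := by decide +kernel
  ne2 := by decide +kernel
  ne := by decide +kernel
  comm := by decide +kernel
  z1 := by decide +kernel
  z2 := by decide +kernel
  zπ := by decide +kernel
  π3 := by decide +kernel
  πz := by decide +kernel
  perm := by decide +kernel
  cz := by decide +kernel

/-- The four-group on six points. -/
def fourR : FourPerm where
  v1 := swap 0 2 * swap 1 3
  v2 := swap 1 3 * swap 4 5
  π := swap 0 1 * swap 1 4 * (swap 2 3 * swap 3 5)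
  m1 := by decide +kernel
  m2 := by decide +kernel
  mπ := by decide +kernel
  sq1 := by decide +kernel
  sq2 := by decide +kernel
  ne1 := by decide +kernel
  ne2 := by decide +kernel
  ne := by decide +kernel
  comm := by decide +kernel
  z1 := by decide +kernel
  z2 := by decide +kernel
  zπ := by decide +kernel
  π3 := by decide +kernel
  πz := by decide +kernel
  perm := by decide +kernel
  cz := by decide +kernel

theorem fourR_good : ∀ k : Fin 3, fourR.Good k := by
  intro k
  refine ⟨swap 2 4 * swap 4 3, by decide +kernel, by decide +kernel, (1, 1, (k.val : ZMod 3)), ?_, ?_, ?_⟩ <;>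
    revert k <;> decide +kernel

theorem fourU_good : ∀ k : Fin 3, k ≠ 0 → fourU.Good k := by
  intro k hk
  refine ⟨1, one_mem _, by rw [one_mul, mul_one], (1, 0, (k.val : ZMod 3)), ?_, ?_, ?_⟩ <;>
    revert hk <;> revert k <;> decide +kernel

variable {G : Type u} [Group G] [Finite G] {L : Loc G} (F : Frame L)

theorem orderOf_range_dvd {x : G} (hx : x ∈ L.ι.range) : orderOf x ∣ 648 := by
  obtain ⟨h, rfl⟩ := hx
  rw [orderOf_injective L.ι L.inj]
  have := orderOf_dvd_natCard h
  rwa [Nat.card_eq_fintype_card (α := HM), card_HM] at this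

theorem M2_no_seven {σ : Perm (Fin 9)} (hσ : σ ∈ M2) (h : σ ^ 7 = 1) : σ = 1 := by
  obtain ⟨⟨p, q⟩, rfl⟩ := exists_inc63 hσ
  rw [← map_pow, ← map_one inc63] at h
  have h2 := inc63_injective h
  have hp : orderOf p ∣ 7 := orderOf_dvd_of_pow_eq_one (congrArg Prod.fst h2)
  have hq : orderOf q ∣ 7 := orderOf_dvd_of_pow_eq_one (congrArg Prod.snd h2)
  have hp6 : orderOf p ∣ 720 := by
    have := orderOf_dvd_natCard p
    rwa [Nat.card_perm, Nat.card_fin] at this
  have hq3 : orderOf q ∣ 6 := by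
    have := orderOf_dvd_natCard q
    rwa [Nat.card_perm, Nat.card_fin] at this
  rw [orderOf_eq_one_iff.mp (Nat.eq_one_of_dvd_coprimes (by norm_num : Nat.Coprime 7 720) hp hp6),
    orderOf_eq_one_iff.mp (Nat.eq_one_of_dvd_coprimes (by norm_num : Nat.Coprime 7 6) hq hq3)]
  exact map_one inc63

namespace FourPerm

variable (D : FourPerm)

theorem reduce_A {d : G} (hd : d ∈ D.A F) (hne : ∀ i : ℕ, d ≠ im F z9 ^ i) {x : G} (hx : Commute d x) :
    ∃ k : Fin 3, Commute x (im F (z9 ^ k.val * D.π)) := by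
  obtain ⟨i, j, rfl⟩ := D.A_cases F hd
  have hj : j ≠ 0 := by
    rintro rfl
    refine hne i.val ?_
    rw [show D.π ^ (0 : Fin 3).val = 1 from pow_zero _, mul_one, im_pow F z9_mem]
  have h := hx.symm.pow_right j.val
  rw [← im_pow F (D.A_mem_M2 _ _), ((show Commute z9 D.π from D.zπ).pow_pow _ _).mul_pow, ← pow_mul, ← pow_mul,
    show D.π ^ (j.val * j.val) = D.π by
      rw [pow_eq_pow_mod _ D.π3, (by decide : ∀ j : Fin 3, j ≠ 0 → j.val * j.val % 3 = 1) j hj, pow_one],
    pow_eq_pow_mod _ (show z9 ^ 3 = 1 by decide +kernel)] at h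
  exact ⟨⟨_, Nat.mod_lt _ (by norm_num)⟩, h⟩

theorem good_order {k : Fin 3} (hk : D.Good k) {x : G} (hx : Commute x (im F (z9 ^ k.val * D.π))) :
    orderOf x ∣ 648 := by
  obtain ⟨s, -, hs⟩ := D.good_conj F hk hx
  have := orderOf_range_dvd hs
  rwa [show s⁻¹ * x * s = MulAut.conj s⁻¹ x by simp, MulEquiv.orderOf_eq] at this

theorem card_K_dvd {n : ℕ} (h : Nat.card (D.K F ⧸ D.V F) ∣ n) : Nat.card (D.K F) ∣ 4 * n := by
  rw [Subgroup.card_eq_card_quotient_mul_card_subgroup (D.V F), mul_comm]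
  exact Nat.mul_dvd_mul (D.card_V F) h

theorem exists_order_seven (e : D.K F ⧸ D.V F ≃* PSL27) : ∃ y : D.K F, orderOf y = 7 := by
  haveI : Fact (Nat.Prime 7) := ⟨by norm_num⟩
  obtain ⟨y, h, k, -, -, hh, hk, -, -, -, hne⟩ := l27_seven.transport e.symm
  obtain ⟨q, hq7, hq1⟩ : ∃ q : D.K F ⧸ D.V F, q ^ 7 = 1 ∧ q ≠ 1 := by
    by_cases h1 : h = 1
    · exact ⟨k, hk, fun e' => hne (by rw [h1, e', one_mul])⟩
    · exact ⟨h, hh, h1⟩
  refine exists_prime_orderOf_dvd_card' 7 ?_
  rw [Subgroup.card_eq_card_quotient_mul_card_subgroup (D.V F), ← orderOf_eq_prime hq7 hq1]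
  exact Dvd.dvd.mul_right (orderOf_dvd_natCard q) _

theorem cases' (hcore : D.CoreIsV F)
    (h7 : ∀ y : G, orderOf y = 7 → ∀ d ∈ D.A F, (∀ i : ℕ, d ≠ im F z9 ^ i) → ¬ Commute d y) :
    D.Small F ∨ Nonempty (D.K F ⧸ D.V F ≃* alternatingGroup (Fin 5)) := by
  rcases D.cases F hcore with h | h | ⟨⟨e⟩⟩
  · exact Or.inl h
  · exact Or.inr h
  · exfalso
    obtain ⟨y, hy⟩ := D.exists_order_seven F e
    obtain ⟨y', hy', -, d, hd, hne, hc⟩ := D.prime_part F 7 (Or.inr rfl)
      (by rw [if_neg (by norm_num : ¬ (7 : ℕ) = 5)]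
          exact D.card_K_dvd F ((Nat.card_congr e.toEquiv).symm ▸ CfsgLib.A8ThreeLocal.card_psl27_dvd)) hy
    exact h7 _ (by rw [Subgroup.orderOf_coe, hy']) d hd hne hc

end FourPerm

theorem fourR_core : fourR.CoreIsV F := fourR.core_of_good F fourR_good

theorem fourR_small : fourR.Small F := by
  rcases fourR.cases' F (fourR_core F) (fun y hy d hd hne hc => by
    obtain ⟨k, hk⟩ := fourR.reduce_A F hd hne hc
    have := fourR.good_order F (fourR_good k) hk
    rw [hy] at this
    norm_num at this) with h | ⟨⟨e⟩⟩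
  · exact h
  · exfalso
    haveI : Fact (Nat.Prime 5) := ⟨by norm_num⟩
    have hQ : Nat.card (fourR.K F ⧸ fourR.V F) = 60 := by
      rw [Nat.card_congr e.toEquiv, nat_card_alternatingGroup, Nat.card_fin]; rfl
    obtain ⟨y, hy⟩ := exists_prime_orderOf_dvd_card' (G := fourR.K F) 5 (by
      rw [Subgroup.card_eq_card_quotient_mul_card_subgroup (fourR.V F), hQ]; exact Dvd.dvd.mul_right (by norm_num) _)
    obtain ⟨y', hy', -, d, hd, hne, hc⟩ := fourR.prime_part F 5 (Or.inl rfl)
      (by rw [if_pos rfl]; exact fourR.card_K_dvd F hQ.dvd) hy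
    obtain ⟨k, hk⟩ := fourR.reduce_A F hd hne hc
    have := fourR.good_order F (fourR_good k) hk
    rw [Subgroup.orderOf_coe, hy'] at this
    norm_num at this

end CfsgLib.A9Three
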