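import Cfsg.Agent.Lib.A9Three.Four
import Cfsg.Agent.Lib.A8ThreeLocal.Main

set_option autoImplicit false
set_option maxRecDepth 8000
set_option synthInstance.maxSize 2000

/-!
The quotient of the centralizer of a four-group by the four-group.
-/

namespace CfsgLib.A9Three

open CfsgLib.A9Local Equiv Equiv.Perm CfsgLib.SelfCentThree
open scoped Pointwise

universe u

variable {G : Type u} [Group G] [Finite G] {L : Loc G} (F : Frame L) (D : FourPerm)

namespace FourPerm

/-- The core is the four-group. -/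
def CoreIsV : Prop := ∀ x ∈ D.O F, x ∈ Subgroup.closure ({im F D.v1, im F D.v2} : Set G)

theorem core_of_fixed (hgood : ∀ k : Fin 3, k ≠ 0 → D.Good k)
    (hfix : ∀ x ∈ D.O F, Commute x (im F D.π) → x ∈ Subgroup.closure ({im F D.v1, im F D.v2} : Set G)) :
    D.CoreIsV F := fun _ hx =>
  (sup_le le_rfl fun x hx => hfix x hx.1 (Subgroup.mem_centralizer_singleton_iff.mp hx.2) :
    Subgroup.closure ({im F D.v1, im F D.v2} : Set G) ⊔ (D.O F ⊓ Subgroup.centralizer {im F D.π}) ≤
      Subgroup.closure ({im F D.v1, im F D.v2} : Set G)) (D.O_gen F hgood hx)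

theorem core_of_good (hgood : ∀ k : Fin 3, D.Good k) : D.CoreIsV F := by
  refine D.core_of_fixed F (fun k _ => hgood k) fun x hx hc => ?_
  refine D.O_z F hx (D.good_O F (hgood 0) hx ?_)
  rwa [show z9 ^ (0 : Fin 3).val * D.π = D.π by rw [show z9 ^ (0 : Fin 3).val = 1 from pow_zero _, one_mul]]

theorem V_comm_z {v : G} (hv : v ∈ Subgroup.closure ({im F D.v1, im F D.v2} : Set G)) : Commute v (im F z9) := by
  obtain ⟨h1, h2⟩ := (D.mem_K F).mp (D.zK F).2
  rcases (D.closure_cases F).mp hv with rfl | rfl | rfl | rfl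
  exacts [Commute.one_left _, h1.symm, h2.symm, (h1.mul_right h2).symm]

theorem z_ne_one : im F z9 ≠ 1 := fun e =>
  (by decide +kernel : z9 ≠ 1) (im_inj F z9_mem (one_mem _) (by rw [e, im_one]))

theorem zK_not_mem : D.zK F ∉ D.V F := fun h => z_ne_one F (by
  have h3 : D.zK F ^ 3 = 1 := Subtype.ext (by rw [Subgroup.coe_pow]; exact im_z_pow F)
  have h2 : D.zK F * D.zK F = 1 := D.V_sq F h
  rw [pow_succ, pow_two, h2, one_mul] at h3
  exact congrArg Subtype.val h3)

/-- The image of the short translation is self-centralizing. -/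
theorem sc3 : SC3 (QuotientGroup.mk' (D.V F) (D.zK F)) where
  ord := by
    haveI := Fact.mk Nat.prime_three
    refine orderOf_eq_prime ?_ fun e => D.zK_not_mem F ((QuotientGroup.eq_one_iff _).mp e)
    rw [← map_pow, show D.zK F ^ 3 = 1 from Subtype.ext (by rw [Subgroup.coe_pow]; exact im_z_pow F), map_one]
  cent y hy := by
    obtain ⟨g, rfl⟩ := QuotientGroup.mk'_surjective _ y
    have hmem : (g * D.zK F)⁻¹ * (D.zK F * g) ∈ D.V F := by
      rw [← QuotientGroup.eq]
      exact hy.eq.symm
    have hc : Commute g (D.zK F) := by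
      obtain ⟨v, hv⟩ : ∃ v, v = (g * D.zK F)⁻¹ * (D.zK F * g) := ⟨_, rfl⟩
      rw [← hv] at hmem
      have hz : D.zK F * g = g * D.zK F * v := by rw [hv]; group
      have hcv : ∀ k : D.K F, k * v = v * k := fun k => Subgroup.mem_center_iff.mp (D.V_center F hmem) k
      have h3 : ∀ w : D.K F, (w : G) ^ 3 = 1 → w ^ 3 = 1 := fun w h => Subtype.ext (by rw [Subgroup.coe_pow]; exact h)
      have hz3 : D.zK F ^ 3 = 1 := h3 _ (im_z_pow F)
      have he : (g⁻¹ * D.zK F * g) ^ 3 = 1 := by
        rw [show g⁻¹ * D.zK F * g = g⁻¹ * D.zK F * (g⁻¹)⁻¹ by rw [inv_inv], conj_pow, hz3, mul_one, mul_inv_cancel]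
      rw [show g⁻¹ * D.zK F * g = D.zK F * v by rw [mul_assoc, hz]; group,
        (show Commute (D.zK F) v from hcv _).mul_pow, hz3, one_mul] at he
      have hv1 : v = 1 := by
        rw [show v = v ^ 3 * (v * v)⁻¹ by group, he, D.V_sq F hmem, inv_one, one_mul]
      rw [hv1, mul_one] at hz
      exact hz.symm
    obtain ⟨k, v, hv, e⟩ := D.comm_z F g.2 (congrArg Subtype.val hc.eq)
    refine Subgroup.mem_zpowers_iff.mpr ⟨k.val, ?_⟩
    rw [zpow_natCast, ← map_pow, QuotientGroup.mk'_eq_mk']
    refine ⟨⟨v, D.closure_le_K F hv⟩, hv, Subtype.ext ?_⟩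
    show ((D.zK F ^ k.val : D.K F) : G) * v = (g : G)
    rw [Subgroup.coe_pow, e]
    exact ((D.V_comm_z F hv).pow_right _).eq.symm

/-- Everything in the centralizer normalizes the short translation. -/
def Small : Prop := ∀ g ∈ D.K F, g * im F z9 * g⁻¹ = im F z9 ∨ g * im F z9 * g⁻¹ = (im F z9)⁻¹

theorem small_of_normal (hn : (Subgroup.zpowers (QuotientGroup.mk' (D.V F) (D.zK F))).Normal) : D.Small F := by
  intro g hg
  set z := D.zK F with hzdef
  set gk : D.K F := ⟨g, hg⟩ with hgk
  have h := hn.conj_mem _ (Subgroup.mem_zpowers _) (QuotientGroup.mk' (D.V F) gk)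
  rw [← map_inv, ← map_mul, ← map_mul] at h
  have hz3 : z ^ 3 = 1 := Subtype.ext (by rw [Subgroup.coe_pow]; exact im_z_pow F)
  have hw3 : (gk * z * gk⁻¹) ^ 3 = 1 := by rw [conj_pow, hz3, mul_one, mul_inv_cancel]
  have key : ∀ u : D.K F, u ^ 3 = 1 →
      QuotientGroup.mk' (D.V F) (gk * z * gk⁻¹) = QuotientGroup.mk' (D.V F) u → gk * z * gk⁻¹ = u := by
    intro u hu e
    have hv := QuotientGroup.eq.mp e
    have hcu : Commute u ((gk * z * gk⁻¹)⁻¹ * u) := Subgroup.mem_center_iff.mp (D.V_center F hv) u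
    have hcw : Commute (gk * z * gk⁻¹) ((gk * z * gk⁻¹)⁻¹ * u) := Subgroup.mem_center_iff.mp (D.V_center F hv) _
    have h3 : ((gk * z * gk⁻¹)⁻¹ * u) ^ 3 = 1 := by
      have : u ^ 3 = (gk * z * gk⁻¹) ^ 3 * ((gk * z * gk⁻¹)⁻¹ * u) ^ 3 := by
        rw [← hcw.mul_pow, mul_inv_cancel_left]
      rwa [hu, hw3, one_mul, eq_comm] at this
    have h2 := D.V_sq F hv
    rw [pow_succ, pow_two, h2, one_mul] at h3
    exact inv_mul_eq_one.mp h3
  rcases (D.sc3 F).mem_cases h with e | e | e
  · exfalso
    refine z_ne_one F ?_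
    have := key 1 (one_pow 3) (by rw [map_one]; exact e)
    exact congrArg Subtype.val (conj_eq_one_iff.mp this)
  · exact Or.inl (congrArg Subtype.val (key z hz3 e))
  · rw [← map_inv] at e
    exact Or.inr (congrArg Subtype.val (key z⁻¹ (by rw [inv_pow, hz3, inv_one]) e))

variable (hcore : D.CoreIsV F)

include hcore in
theorem quot_core (N : Subgroup (D.K F ⧸ D.V F)) [N.Normal] (hN : (Nat.card N).Coprime 3) : N = ⊥ := by
  set M := N.comap (QuotientGroup.mk' (D.V F)) with hM
  have hVM : D.V F ≤ M := fun v hv => by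
    rw [hM, Subgroup.mem_comap, QuotientGroup.mk'_apply, (QuotientGroup.eq_one_iff v).mpr hv]
    exact one_mem _
  have hMco : (Nat.card M).Coprime 3 := by
    let f : M →* N := ((QuotientGroup.mk' (D.V F)).comp M.subtype).codRestrict N fun x => x.2
    have hk : f.ker = (D.V F).subgroupOf M := by
      ext x
      rw [MonoidHom.mem_ker, Subgroup.mem_subgroupOf, Subtype.ext_iff]
      exact QuotientGroup.eq_one_iff _
    have h1 := f.ker.card_mul_index
    rw [Subgroup.index_ker, hk, Nat.card_congr (Subgroup.subgroupOfEquivOfLe hVM).toEquiv] at h1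
    rw [← h1]
    refine Nat.Coprime.mul_left (Nat.Coprime.coprime_dvd_left (D.card_V F) (by norm_num)) ?_
    exact Nat.Coprime.coprime_dvd_left (Subgroup.card_subgroup_dvd_card f.range) hN
  haveI : M.Normal := inferInstanceAs (N.comap (QuotientGroup.mk' (D.V F))).Normal
  have hMV : M ≤ D.V F := fun x hx =>
    Subgroup.mem_subgroupOf.mpr (hcore _ ⟨x, CfsgLib.le_pPrimeCore hMco hx, rfl⟩)
  rw [eq_bot_iff]
  intro q hq
  obtain ⟨x, rfl⟩ := QuotientGroup.mk'_surjective _ q
  exact Subgroup.mem_bot.mpr ((QuotientGroup.eq_one_iff x).mpr (hMV hq))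

include hcore in
theorem cases : D.Small F ∨ Nonempty (D.K F ⧸ D.V F ≃* alternatingGroup (Fin 5)) ∨
    Nonempty (D.K F ⧸ D.V F ≃* PSL27) := by
  rcases tri_of_sc3 _ _ _ rfl (D.sc3 F) with ⟨N, hN, -, hco, hq⟩ | ⟨N, hN, -, hsq, he⟩ | he
  · left
    haveI := hN
    have hb := D.quot_core F hcore N hco
    subst hb
    have hcard : Nat.card (D.K F ⧸ D.V F) = 3 ∨ Nat.card (D.K F ⧸ D.V F) = 6 := by
      rw [← Nat.card_congr (QuotientGroup.quotientBot (G := D.K F ⧸ D.V F)).toEquiv]
      rcases hq with e | ⟨⟨e⟩⟩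
      · exact Or.inl e
      · exact Or.inr (by rw [Nat.card_congr e.toEquiv, Nat.card_perm, Nat.card_fin]; rfl)
    refine D.small_of_normal F ?_
    set X := Subgroup.zpowers (QuotientGroup.mk' (D.V F) (D.zK F))
    have h1 := X.card_mul_index
    rw [(D.sc3 F).card_zpowers] at h1
    rcases hcard with e | e <;> rw [e] at h1
    · rw [show X = ⊤ from Subgroup.index_eq_one.mp (by omega)]; infer_instance
    · exact Subgroup.normal_of_index_eq_two (by omega)
  · right; left
    haveI := hN
    obtain ⟨e⟩ := he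
    have hb := D.quot_core F hcore N (by
      rw [Nat.coprime_comm, Nat.prime_three.coprime_iff_not_dvd]
      intro h3
      have := prime_dvd_card_pow hsq Nat.prime_three h3
      norm_num at this)
    subst hb
    exact ⟨QuotientGroup.quotientBot.symm.trans e⟩
  · exact Or.inr (Or.inr he)

/-- A group of order three squared normalizes an element of order five or seven of the centralizer. -/
theorem prime_part (p : ℕ) (hp : p = 5 ∨ p = 7) (hdvd : Nat.card (D.K F) ∣ 4 * (if p = 5 then 60 else 336))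
    {y : D.K F} (hy : orderOf y = p) :
    ∃ y' : D.K F, orderOf y' = p ∧ (p = 5 → y' = y) ∧
      ∃ d ∈ D.A F, (∀ i : ℕ, d ≠ im F z9 ^ i) ∧ Commute d (y' : G) := by
  haveI : Fact p.Prime := ⟨by rcases hp with rfl | rfl <;> norm_num⟩
  haveI := Fact.mk Nat.prime_three
  have hp1 : p ≠ 1 := (Fact.out : p.Prime).ne_one
  obtain ⟨S, hS⟩ := (IsPGroup.of_card (p := p) (n := 1) (G := Subgroup.zpowers y)
    (by rw [Nat.card_zpowers, hy, pow_one])).exists_le_sylow
  have hScard : Nat.card (S : Subgroup (D.K F)) = p := by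
    obtain ⟨n, hn⟩ := IsPGroup.iff_card.mp S.2
    have h1 : p ∣ Nat.card (S : Subgroup (D.K F)) := by
      have := Subgroup.card_dvd_of_le hS
      rwa [Nat.card_zpowers, hy] at this
    have h2 : p ^ n ∣ 4 * (if p = 5 then 60 else 336) := hn ▸ (Subgroup.card_subgroup_dvd_card _).trans hdvd
    rw [hn] at h1 ⊢
    have hn1 : n = 1 := by
      rcases Nat.eq_zero_or_pos n with h0 | h0
      · rw [h0, pow_zero] at h1; exact absurd (Nat.dvd_one.mp h1) hp1
      by_contra hne
      have h4 : p ^ 2 ∣ 4 * (if p = 5 then 60 else 336) := (pow_dvd_pow p (show 2 ≤ n by omega)).trans h2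
      rcases hp with rfl | rfl <;> norm_num at h4
    rw [hn1, pow_one]
  have hgen : ∀ x ∈ (S : Subgroup (D.K F)), x ≠ 1 → y ∈ Subgroup.zpowers x := by
    intro x hx hx1
    have hle : Subgroup.zpowers x ≤ (S : Subgroup (D.K F)) := Subgroup.zpowers_le.mpr hx
    have he : Subgroup.zpowers x = (S : Subgroup (D.K F)) := by
      refine Subgroup.eq_of_le_of_card_ge hle ?_
      rw [hScard, Nat.card_zpowers]
      have : orderOf x ∣ p := hScard ▸ Subgroup.orderOf_dvd_natCard _ hx
      rcases (Nat.dvd_prime (Fact.out : p.Prime)).mp this with e | e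
      · exact absurd (orderOf_eq_one_iff.mp e) hx1
      · exact e.ge
    rw [he]; exact hS (Subgroup.mem_zpowers y)
  -- the action on the Sylow subgroups
  let ρ : D.A F →* MulAut (D.K F) := (Subgroup.normalizerMonoidHom _).comp (Subgroup.inclusion (D.A_norm_K F))
  letI : MulDistribMulAction (D.A F) (D.K F) := MulDistribMulAction.compHom _ ρ
  have hsmul : ∀ (d : D.A F) (x : D.K F), ((d • x : D.K F) : G) = (d : G) * x * (d : G)⁻¹ := fun d x => rfl
  have hnorm : ∀ (d : D.A F) (T : Sylow p (D.K F)), d • T = T → ∀ x ∈ (T : Subgroup (D.K F)),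
      d • x ∈ (T : Subgroup (D.K F)) := by
    intro d T hT x hx
    have := Subgroup.smul_mem_pointwise_smul x d (T : Subgroup (D.K F)) hx
    rwa [show d • (T : Subgroup (D.K F)) = (T : Subgroup (D.K F)) from congrArg Sylow.toSubgroup hT] at this
  -- no power of the short translation other than one fixes a generator
  have hz_no : ∀ i : ℕ, im F z9 ^ i ≠ 1 → ¬ Commute (im F z9 ^ i) (y : G) := by
    intro i hi hc
    have hz : Commute (y : G) (im F z9) := by
      have h3 := im_z_pow F
      rw [pow_eq_pow_mod i h3] at hi hc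
      have hlt : i % 3 < 3 := Nat.mod_lt _ (by norm_num)
      rcases (show i % 3 = 0 ∨ i % 3 = 1 ∨ i % 3 = 2 by omega) with e | e | e <;> rw [e] at hi hc
      · exact absurd (pow_zero _) hi
      · rw [pow_one] at hc; exact hc.symm
      · have := hc.symm.pow_right 2
        rwa [← pow_mul, show 2 * 2 = 3 + 1 from rfl, pow_succ, h3, one_mul] at this
    obtain ⟨k, v, hv, e⟩ := D.comm_z F y.2 hz
    have hv2 : v ^ 2 = 1 := by
      have := D.V_sq F (v := ⟨v, D.closure_le_K F hv⟩) hv
      rw [pow_two]; exact congrArg Subtype.val this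
    have h6 : (y : G) ^ 6 = 1 := by
      rw [e, ((D.V_comm_z F hv).pow_right _).mul_pow, show (6 : ℕ) = 2 * 3 from rfl, pow_mul, hv2, one_pow, one_mul,
        ← pow_mul, show k.val * (2 * 3) = 3 * (k.val * 2) by ring, pow_mul, im_z_pow, one_pow]
    have : p ∣ 6 := by
      rw [← hy]
      exact orderOf_dvd_of_pow_eq_one (Subtype.ext (by rw [Subgroup.coe_pow]; exact h6))
    rcases hp with rfl | rfl <;> norm_num at this
  -- the number of Sylow subgroups
  have hcount : Nat.card (Sylow p (D.K F)) < 9 ∧ (p = 7 → Nat.card (Sylow p (D.K F)) % 3 ≠ 0) := by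
    have hmod := card_sylow_modEq_one p (D.K F)
    rw [S.card_eq_index_normalizer] at hmod ⊢
    set N := Subgroup.normalizer ((S : Subgroup (D.K F)) : Set (D.K F))
    have hVN : D.V F ≤ N := fun v hv => Subgroup.mem_normalizer_iff.mpr fun w => by
      rw [← Subgroup.mem_center_iff.mp (D.V_center F hv) w, mul_inv_cancel_right]
    have h4p : Nat.card (D.V F) * p ∣ Nat.card N := by
      refine Nat.Coprime.mul_dvd_of_dvd_of_dvd ?_ (Subgroup.card_dvd_of_le hVN) (hScard ▸ Subgroup.card_dvd_of_le Subgroup.le_normalizer)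
      exact Nat.Coprime.coprime_dvd_left (D.card_V F) (by rcases hp with rfl | rfl <;> norm_num)
    have hV4 : Nat.card (D.V F) = 4 := by
      obtain h := D.card_V F
      have h4 : 4 ≤ Nat.card (D.V F) := by
        let f : Fin 4 → D.V F := fun i =>
          if i = 0 then 1
          else if i = 1 then ⟨⟨im F D.v1, D.closure_le_K F ((D.closure_cases F).mpr (by tauto))⟩,
            (D.mem_V F).mpr (Or.inr (Or.inl rfl))⟩
          else if i = 2 then ⟨⟨im F D.v2, D.closure_le_K F ((D.closure_cases F).mpr (by tauto))⟩,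
            (D.mem_V F).mpr (Or.inr (Or.inr (Or.inl rfl)))⟩
          else ⟨⟨im F D.v1 * im F D.v2, D.closure_le_K F ((D.closure_cases F).mpr (by tauto))⟩,
            (D.mem_V F).mpr (Or.inr (Or.inr (Or.inr rfl)))⟩
        have hi1 : im F D.v1 ≠ 1 := fun e => D.ne1 (im_inj F D.m1 (one_mem _) (by rw [e, im_one]))
        have hi2 : im F D.v2 ≠ 1 := fun e => D.ne2 (im_inj F D.m2 (one_mem _) (by rw [e, im_one]))
        have hi3 : im F D.v1 ≠ im F D.v2 := fun e => D.ne (im_inj F D.m1 D.m2 e)
        have hi4 : im F D.v1 * im F D.v2 ≠ 1 := fun e => hi3 (by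
          rw [eq_inv_of_mul_eq_one_left e, inv_eq_of_mul_eq_one_right (by rw [← im_mul F D.m2 D.m2, D.sq2, im_one])])
        have hf : Function.Injective f := by
          intro a b h
          have h' : (((f a : D.V F) : D.K F) : G) = (((f b : D.V F) : D.K F) : G) := by rw [h]
          fin_cases a <;> fin_cases b <;> first | rfl |
            (exfalso; simp [f] at h'
             first
              | exact hi1 h' | exact hi1 h'.symm | exact hi2 h' | exact hi2 h'.symm
              | exact hi3 h' | exact hi3 h'.symm | exact hi4 h' | exact hi4 h'.symm)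
        simpa using Nat.card_le_card_of_injective f hf
      exact le_antisymm (Nat.le_of_dvd (by norm_num) h) h4
    rw [hV4] at h4p
    have hd : N.index ∣ (if p = 5 then 60 else 336) / p := by
      have h1 := N.card_mul_index
      have h2 : 4 * p * N.index ∣ 4 * (if p = 5 then 60 else 336) :=
        (Nat.mul_dvd_mul_right h4p _).trans (h1 ▸ hdvd)
      rcases hp with rfl | rfl
      · have : 4 * 5 * N.index ∣ 4 * 5 * 12 := by simpa using h2
        simpa using Nat.dvd_of_mul_dvd_mul_left (by norm_num) this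
      · have : 4 * 7 * N.index ∣ 4 * 7 * 48 := by simpa using h2
        simpa using Nat.dvd_of_mul_dvd_mul_left (by norm_num) this
    rcases hp with rfl | rfl
    · have hle : N.index ≤ 12 := Nat.le_of_dvd (by norm_num) (by simpa using hd)
      have hd' : N.index ∣ 12 := by simpa using hd
      have hm : N.index % 5 = 1 := hmod
      refine ⟨?_, fun h => absurd h (by norm_num)⟩
      have := (by decide : ∀ n < 13, n ∣ 12 → n % 5 = 1 → n = 1 ∨ n = 6) N.index (by omega) hd' hm
      show N.index < 9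
      omega
    · have hle : N.index ≤ 48 := Nat.le_of_dvd (by norm_num) (by simpa using hd)
      have hd' : N.index ∣ 48 := by simpa using hd
      have hm : N.index % 7 = 1 := hmod
      have := (by decide +kernel : ∀ n < 49, n ∣ 48 → n % 7 = 1 → n = 1 ∨ n = 8) N.index (by omega) hd' hm
      exact ⟨show N.index < 9 by omega, fun _ => show N.index % 3 ≠ 0 by omega⟩
  rcases hp with rfl | rfl
  · -- the stabilizer of a Sylow subgroup is nontrivial
    obtain ⟨d, hd1, hd⟩ : ∃ d : D.A F, d ≠ 1 ∧ d • S = S := by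
      by_contra hno
      push Not at hno
      have hinj : Function.Injective fun d : D.A F => d • S := by
        intro a b h
        by_contra hne
        refine hno (a⁻¹ * b) (fun e => hne (inv_mul_eq_one.mp e)) ?_
        rw [mul_smul, ← show a • S = b • S from h, inv_smul_smul]
      have h1 := Nat.card_le_card_of_injective _ hinj
      have h9 : 9 ≤ Nat.card (D.A F) := by
        obtain ⟨n, hn⟩ := IsPGroup.iff_card.mp (show IsPGroup 3 (D.A F) from fun a =>
          ⟨1, Subtype.ext (by rw [pow_one, Subgroup.coe_pow]; exact D.A_three F a.2)⟩)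
        have hn2 : 2 ≤ n := by
          by_contra hc
          refine D.A_not_cyclic F ?_
          rcases (show n = 0 ∨ n = 1 by omega) with e | e
          · haveI : Subsingleton (D.A F) := (Nat.card_eq_one_iff_unique.mp (by rw [hn, e, pow_zero])).1
            exact isCyclic_of_subsingleton
          · exact isCyclic_of_prime_card (p := 3) (by rw [hn, e, pow_one])
        rw [hn]
        exact le_trans (by norm_num) (Nat.pow_le_pow_right (by norm_num : 0 < 3) hn2)
      omega
    have hy' := hnorm d S hd y (hS (Subgroup.mem_zpowers y))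
    have hSy : (S : Subgroup (D.K F)) = Subgroup.zpowers y :=
      (Subgroup.eq_of_le_of_card_ge hS (by rw [hScard, Nat.card_zpowers, hy])).symm
    rw [hSy, ← mem_powers_iff_mem_zpowers] at hy'
    obtain ⟨i, hi⟩ := hy'
    have hi' : d • y = y ^ i := hi.symm
    have hcomm : d • y = y := by
      have hd3 : d ^ 3 = 1 := Subtype.ext (by rw [Subgroup.coe_pow]; exact D.A_three F d.2)
      have h3 : y = y ^ (i * i * i) := by
        have e2 : d • (d • (d • y)) = y := by rw [← mul_smul, ← mul_smul, ← pow_two, ← pow_succ, hd3, one_smul]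
        rw [hi', smul_pow', hi', ← pow_mul, smul_pow', hi', ← pow_mul] at e2
        rw [mul_assoc]; exact e2.symm
      have hmod : i * i * i % 5 = 1 := by
        have := pow_inj_mod.mp (show y ^ 1 = y ^ (i * i * i) by rw [pow_one]; exact h3)
        rw [hy] at this
        omega
      have : i % 5 = 1 := by
        have h5 : i % 5 < 5 := Nat.mod_lt _ (by norm_num)
        have h6 : (i % 5) * (i % 5) * (i % 5) % 5 = 1 := by simpa [Nat.mul_mod] using hmod
        interval_cases h : i % 5 <;> first | rfl | simp at h6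
      rw [hi', pow_eq_pow_mod i (show y ^ 5 = 1 by rw [← hy]; exact pow_orderOf_eq_one y), this, pow_one]
    have hc : Commute (d : G) (y : G) := by
      have := congrArg Subtype.val hcomm
      rw [hsmul] at this
      exact mul_inv_eq_iff_eq_mul.mp this
    refine ⟨y, hy, fun _ => rfl, d, d.2, fun i e => ?_, hc⟩
    exact hz_no i (fun e1 => hd1 (Subtype.ext (by rw [e, e1]; rfl))) (e ▸ hc)
  · -- the group of order nine fixes a Sylow subgroup
    have hA3 : IsPGroup 3 (D.A F) := fun a =>
      ⟨1, Subtype.ext (by rw [pow_one, Subgroup.coe_pow]; exact D.A_three F a.2)⟩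
    obtain ⟨T, hT⟩ : (MulAction.fixedPoints (D.A F) (Sylow 7 (D.K F))).Nonempty := by
      rw [Set.nonempty_iff_ne_empty]
      intro e
      have := hA3.card_modEq_card_fixedPoints (Sylow 7 (D.K F))
      rw [e, Nat.card_coe_set_eq, Set.ncard_empty] at this
      exact hcount.2 rfl this
    obtain ⟨c, hc⟩ := MulAction.exists_smul_eq (D.K F) S T
    have hyT : c * y * c⁻¹ ∈ (T : Subgroup (D.K F)) := by
      rw [← hc, Sylow.coe_subgroup_smul, Subgroup.mem_pointwise_smul_iff_inv_smul_mem]
      simpa [mul_assoc] using hS (Subgroup.mem_zpowers y)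
    set y' := c * y * c⁻¹ with hy'
    have hy'7 : orderOf y' = 7 := by
      rw [hy', show c * y * c⁻¹ = MulAut.conj c y from rfl, MulEquiv.orderOf_eq, hy]
    have hT7 : Nat.card (T : Subgroup (D.K F)) = 7 := by
      rw [T.card_eq_multiplicity, ← S.card_eq_multiplicity, hScard]
    have hTy : (T : Subgroup (D.K F)) = Subgroup.zpowers y' :=
      (Subgroup.eq_of_le_of_card_ge (Subgroup.zpowers_le.mpr hyT) (by rw [hT7, Nat.card_zpowers, hy'7])).symm
    have hexp : ∀ d : D.A F, ∃ i : ℕ, i < 7 ∧ d • y' = y' ^ i ∧ i * i * i % 7 = 1 := by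
      intro d
      have h := hnorm d T (hT d) y' hyT
      rw [hTy, ← mem_powers_iff_mem_zpowers] at h
      obtain ⟨i, hi⟩ := h
      have hi' : d • y' = y' ^ (i % 7) := by
        rw [← hy'7, pow_mod_orderOf]; exact hi.symm
      refine ⟨i % 7, Nat.mod_lt _ (by norm_num), hi', ?_⟩
      have hd3 : d ^ 3 = 1 := Subtype.ext (by rw [Subgroup.coe_pow]; exact D.A_three F d.2)
      have e2 : d • (d • (d • y')) = y' := by rw [← mul_smul, ← mul_smul, ← pow_two, ← pow_succ, hd3, one_smul]
      rw [hi', smul_pow', hi', ← pow_mul, smul_pow', hi', ← pow_mul] at e2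
      have := pow_inj_mod.mp (show y' ^ 1 = y' ^ ((i % 7) * (i % 7) * (i % 7)) by rw [pow_one, mul_assoc]; exact e2.symm)
      rw [hy'7] at this
      exact this.symm
    let dz : D.A F := ⟨im F z9, D.z_mem_A F⟩
    let dπ : D.A F := ⟨im F D.π, D.π_mem_A F⟩
    obtain ⟨j, hj7, hj, hj3⟩ := hexp dz
    obtain ⟨i, hi7, hi, hi3⟩ := hexp dπ
    have hj1 : j ≠ 1 := by
      rintro rfl
      rw [pow_one] at hj
      have := congrArg Subtype.val hj
      rw [hsmul] at this
      have hzy' : Commute (im F z9) (y' : G) := mul_inv_eq_iff_eq_mul.mp this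
      obtain ⟨k, v, hv, e⟩ := D.comm_z F y'.2 hzy'.symm
      have hv2 : v ^ 2 = 1 := by
        have := D.V_sq F (v := ⟨v, D.closure_le_K F hv⟩) hv
        rw [pow_two]; exact congrArg Subtype.val this
      have h6 : (y' : G) ^ 6 = 1 := by
        rw [e, ((D.V_comm_z F hv).pow_right _).mul_pow, show (6 : ℕ) = 2 * 3 from rfl, pow_mul, hv2, one_pow, one_mul,
          ← pow_mul, show k.val * (2 * 3) = 3 * (k.val * 2) by ring, pow_mul, im_z_pow, one_pow]
      have : 7 ∣ 6 := by
        rw [← hy'7]
        exact orderOf_dvd_of_pow_eq_one (Subtype.ext (by rw [Subgroup.coe_pow]; exact h6))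
      norm_num at this
    obtain ⟨k, hk⟩ : ∃ k : Fin 3, j ^ k.val * i % 7 = 1 :=
      (by decide : ∀ a b : Fin 7, a.val * a.val * a.val % 7 = 1 → b.val * b.val * b.val % 7 = 1 → a.val ≠ 1 →
        ∃ k : Fin 3, a.val ^ k.val * b.val % 7 = 1) ⟨j, hj7⟩ ⟨i, hi7⟩ hj3 hi3 hj1
    have hzk : ∀ n : ℕ, dz ^ n • y' = y' ^ (j ^ n) := by
      intro n
      induction n with
      | zero => rw [pow_zero, one_smul, pow_zero, pow_one]
      | succ n ih => rw [pow_succ', mul_smul, ih, smul_pow', hj, ← pow_mul, pow_succ']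
    have hd : (dz ^ k.val * dπ) • y' = y' := by
      rw [mul_smul, hi, smul_pow', hzk, ← pow_mul, pow_eq_pow_mod _ (show y' ^ 7 = 1 by rw [← hy'7]; exact pow_orderOf_eq_one y'),
        hk, pow_one]
    have hd' := congrArg Subtype.val hd
    rw [hsmul] at hd'
    have hco : ((dz ^ k.val * dπ : D.A F) : G) = im F z9 ^ k.val * im F D.π := by
      rw [Subgroup.coe_mul, Subgroup.coe_pow]
    refine ⟨y', hy'7, fun h => absurd h (by norm_num), _, (dz ^ k.val * dπ).2, fun n e => ?_,
      mul_inv_eq_iff_eq_mul.mp hd'⟩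
    rw [hco] at e
    have e2 : im F D.π = im F z9 ^ (n + 2 * k.val) := by
      have h3 : im F z9 ^ (2 * k.val) * im F z9 ^ k.val = 1 := by
        rw [← pow_add, show 2 * k.val + k.val = 3 * k.val by ring, pow_mul, im_z_pow, one_pow]
      calc im F D.π = (im F z9 ^ (2 * k.val) * im F z9 ^ k.val) * im F D.π := by rw [h3, one_mul]
        _ = im F z9 ^ (n + 2 * k.val) := by rw [mul_assoc, e, ← pow_add, add_comm]
    rw [pow_eq_pow_mod _ (im_z_pow F), ← im_pow F z9_mem] at e2
    exact D.πz ⟨_, Nat.mod_lt _ (by norm_num)⟩ (im_inj F D.mπ (pow_mem z9_mem _) e2)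

end FourPerm

end CfsgLib.A9Three
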