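import Cfsg.Agent.Lib.A9Three.FourInst

set_option autoImplicit false
set_option maxRecDepth 8000
set_option maxHeartbeats 400000
set_option synthInstance.maxSize 2000

/-!
The core of the centralizer of the four-group on four points, and the two possible quotients.
-/

namespace CfsgLib.A9Three

open CfsgLib.A9Local Equiv Equiv.Perm

universe u

/-- The rotation carrying the last block to the first. -/
abbrev r0 : HM := ⟨0, 16⟩

/-- The element of the model with permutation `(4 5)(6 7)`. -/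
abbrev hT : HM := ⟨(0, 0, 1), 1⟩

theorem hT_eq : theta hT = swap 4 5 * swap 6 7 := by decide +kernel

theorem r0_aV : r0 * tr aV * r0⁻¹ = tr (1, 0, 0) := by decide +kernel

/-- A permutation of six points, moved to the last six. -/
def lift6 (p : Perm (Fin 6)) : Perm (Fin 9) := theta r0 * inc63 (p, 1) * (theta r0)⁻¹

theorem lift6_mul (p q : Perm (Fin 6)) : lift6 (p * q) = lift6 p * lift6 q := by
  rw [lift6, lift6, lift6, show ((p * q, 1) : Perm (Fin 6) × Perm (Fin 3)) = (p, 1) * (q, 1) by simp, map_mul]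
  group

theorem lift6_inBlk {p : Perm (Fin 6)} (hp : sign p = 1) : InBlk r0 (lift6 p) := by
  show (theta r0)⁻¹ * (theta r0 * inc63 (p, 1) * (theta r0)⁻¹) * theta r0 ∈ M2
  rw [show (theta r0)⁻¹ * (theta r0 * inc63 (p, 1) * (theta r0)⁻¹) * theta r0 = inc63 (p, 1) by group]
  exact inc63_mem (by simp [hp])

/-- The image of the short translation on the last six points. -/
abbrev z6 : Perm (Fin 6) := swap 3 4 * swap 4 5

/-- `(1 2)(3 4)`, the image of `(4 5)(6 7)`. -/
abbrev t6 : Perm (Fin 6) := swap 1 2 * swap 3 4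

theorem lift6_values : lift6 z6 = z9 ∧ lift6 t6 = swap 4 5 * swap 6 7 ∧
    lift6 (swap 0 5 * swap 3 4) = swap 3 8 * swap 6 7 := by
  refine ⟨?_, ?_, ?_⟩ <;> (unfold lift6; decide +kernel)

/-- The products of conjugates tested. -/
def words6 (p : Perm (Fin 6)) : List (Perm (Fin 6)) :=
  let a := z6 * p * z6⁻¹
  let b := z6 * z6 * p * (z6 * z6)⁻¹
  let c := t6 * p * t6⁻¹
  [p * p * a * b, p * p * b * a, p * a * p * b, p * c, a * c, b * c]

theorem check6 : ∀ p : Perm (Fin 6), sign p = 1 →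
    p = 1 ∨ p = swap 0 3 * swap 4 5 ∨ p = swap 0 4 * swap 3 5 ∨ p = swap 0 5 * swap 3 4 ∨
    ∃ w ∈ words6 p, (w ^ 6 = 1 ∧ w ^ 2 ≠ 1) ∨ (w ≠ 1 ∧ w * z6 = z6 * w) := by decide +kernel

variable {G : Type u} [Group G] [Finite G] {L : Loc G} (F : Frame L)

theorem Frame.val_r0_z : F.val r0 z9 = L.ι (tr aV) := by
  rw [← z9_eq]
  refine F.val_theta ?_
  rw [z9_eq, ← lift6_values.1]
  exact lift6_inBlk (by decide +kernel)

theorem Frame.val_r0_t : F.val r0 (swap 4 5 * swap 6 7) = L.ι hT := by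
  rw [← hT_eq]
  refine F.val_theta ?_
  rw [hT_eq, ← lift6_values.2.1]
  exact lift6_inBlk (by decide +kernel)

theorem fourU_π : FourPerm.im F fourU.π = L.ι (tr (1, 0, 0)) := by
  show F.val 1 (swap 0 1 * swap 1 2) = _
  rw [show (swap 0 1 * swap 1 2 : Perm (Fin 9)) = theta (tr (1, 0, 0)) by decide +kernel]
  exact F.val_theta (inBlk_one.mpr (by decide +kernel))

/-- An element commuting with the first three-cycle and the four-group's core part. -/
theorem exists_val_r0 {x : G} (hx : Commute x (FourPerm.im F fourU.π)) :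
    ∃ σ, InBlk r0 σ ∧ F.val r0 σ = x := by
  refine F.exists_val r0 (Or.inl ?_)
  rw [r0_aV, ← fourU_π F]
  exact mul_inv_eq_iff_eq_mul.mpr hx.eq

theorem im_t : FourPerm.im F (swap 4 5 * swap 6 7) = L.ι hT := by
  show F.val 1 (swap 4 5 * swap 6 7) = _
  rw [← hT_eq]
  exact F.val_theta (inBlk_one.mpr (by decide +kernel))

theorem fourU_core : fourU.CoreIsV F := by
  refine fourU.core_of_fixed F fourU_good fun x hx hc => ?_
  obtain ⟨σ, hσ, rfl⟩ := exists_val_r0 F hc
  -- the permutation is supported on six points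
  obtain ⟨⟨p, q⟩, hpq⟩ := exists_inc63 (show (theta r0)⁻¹ * σ * theta r0 ∈ M2 from hσ)
  have hπI : InBlk r0 fourU.π := by decide +kernel
  have hπv : F.val r0 fourU.π = FourPerm.im F fourU.π := by
    rw [fourU_π, show fourU.π = theta (tr (1, 0, 0)) by decide +kernel]
    exact F.val_theta (by decide +kernel)
  have hcσ : σ * fourU.π = fourU.π * σ := F.val_injective (hσ.mul hπI) (hπI.mul hσ) (by
    rw [F.val_mul hσ hπI, F.val_mul hπI hσ, hπv]; exact hc.eq)
  have hc2 : inc63 (p, q) * inc63 (1, swap 0 1 * swap 1 2) = inc63 (1, swap 0 1 * swap 1 2) * inc63 (p, q) := by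
    rw [hpq, show inc63 (1, swap (0 : Fin 3) 1 * swap 1 2) = (theta r0)⁻¹ * fourU.π * theta r0 by decide +kernel]
    calc (theta r0)⁻¹ * σ * theta r0 * ((theta r0)⁻¹ * fourU.π * theta r0)
        = (theta r0)⁻¹ * (σ * fourU.π) * theta r0 := by group
      _ = _ := by rw [hcσ]; group
  rw [← map_mul, ← map_mul] at hc2
  have hq : q * (swap 0 1 * swap 1 2) = swap 0 1 * swap 1 2 * q := congrArg Prod.snd (inc63_injective hc2)
  have hq3 : q ^ 3 = 1 := (by decide +kernel : ∀ q : Perm (Fin 3),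
    q * (swap 0 1 * swap 1 2) = swap 0 1 * swap 1 2 * q → q ^ 3 = 1) q hq
  have hσn : σ ^ Nat.card (fourU.O F) = 1 := by
    refine F.val_injective (F.val_pow hσ _).1 (InBlk.one r0) ?_
    rw [(F.val_pow hσ _).2, F.val_one]
    exact congrArg Subtype.val (pow_card_eq_one' (x := (⟨_, hx⟩ : fourU.O F)))
  have hqn : q ^ Nat.card (fourU.O F) = 1 := by
    have : inc63 (p, q) ^ Nat.card (fourU.O F) = 1 := by
      rw [hpq, show (theta r0)⁻¹ * σ * theta r0 = MulAut.conj (theta r0)⁻¹ σ by simp, ← map_pow, hσn, map_one]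
    rw [← map_pow, ← map_one inc63] at this
    exact congrArg Prod.snd (inc63_injective this)
  have hq1 : q = 1 := orderOf_eq_one_iff.mp
    (Nat.eq_one_of_dvd_coprimes (fourU.O_coprime F) (orderOf_dvd_of_pow_eq_one hqn) (orderOf_dvd_of_pow_eq_one hq3))
  subst hq1
  have hp : sign p = 1 := by
    have := hσ.1
    rwa [← hpq, sign_inc63, map_one, mul_one] at this
  have hσp : σ = lift6 p := by rw [lift6, hpq]; group
  subst hσp
  obtain ⟨ψ, hψa⟩ : ∃ ψ : Perm (Fin 6) → G, ∀ p, ψ p = F.val r0 (lift6 p) := ⟨_, fun _ => rfl⟩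
  have hψ : ∀ a b : Perm (Fin 6), sign a = 1 → sign b = 1 → ψ (a * b) = ψ a * ψ b := fun a b ha hb => by
    rw [hψa, hψa, hψa, lift6_mul, F.val_mul (lift6_inBlk ha) (lift6_inBlk hb)]
  have hψinj : ∀ a b : Perm (Fin 6), sign a = 1 → sign b = 1 → ψ a = ψ b → a = b := fun a b ha hb h => by
    rw [hψa, hψa] at h
    have := F.val_injective (lift6_inBlk ha) (lift6_inBlk hb) h
    rw [lift6, lift6] at this
    exact congrArg Prod.fst (inc63_injective (mul_left_cancel (mul_right_cancel this)))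
  have hψ1 : ψ 1 = 1 := by
    rw [hψa]
    rw [show lift6 1 = 1 by rw [lift6, show ((1, 1) : Perm (Fin 6) × Perm (Fin 3)) = 1 from rfl, map_one, mul_one,
      mul_inv_cancel]]
    exact F.val_one r0
  have hψz : ψ z6 = FourPerm.im F z9 := by
    rw [hψa]
    rw [lift6_values.1, F.val_r0_z]; exact F.val_z.symm
  have hψt : ψ t6 = L.ι hT := by rw [hψa, lift6_values.2.1, F.val_r0_t]
  have hs : sign z6 = 1 ∧ sign t6 = 1 ∧ sign (z6 * z6) = 1 := by decide +kernel
  -- the core is normalized by the short translation and by the involution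
  have htK : L.ι hT ∈ fourU.K F := by
    rw [← im_t]
    exact (fourU.mem_K F).mpr ⟨FourPerm.im_commute F (by decide +kernel) fourU.m1 (by decide +kernel),
      FourPerm.im_commute F (by decide +kernel) fourU.m2 (by decide +kernel)⟩
  have hON : ∀ g ∈ fourU.K F, ∀ o ∈ fourU.O F, g * o * g⁻¹ ∈ fourU.O F := by
    rintro g hg _ ⟨o, ho, rfl⟩
    haveI := CfsgLib.pPrimeCore_characteristic (G := fourU.K F) 3
    exact ⟨_, (inferInstance : (Cfsg.pPrimeCore 3 (fourU.K F)).Normal).conj_mem o ho ⟨g, hg⟩, rfl⟩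
  have hconj : ∀ a b : Perm (Fin 6), sign a = 1 → sign b = 1 → ψ a ∈ fourU.K F → ψ b ∈ fourU.O F →
      ψ (a * b * a⁻¹) ∈ fourU.O F := by
    intro a b ha hb hga hgb
    have e : ψ (a * b * a⁻¹) = ψ a * ψ b * (ψ a)⁻¹ := by
      have hai : sign a⁻¹ = 1 := by rw [map_inv, ha, inv_one]
      rw [hψ (a * b) a⁻¹ (by rw [map_mul, ha, hb, mul_one]) hai, hψ a b ha hb]
      congr 1
      refine eq_inv_of_mul_eq_one_left ?_
      rw [← hψ a⁻¹ a hai ha, inv_mul_cancel, hψ1]
    rw [e]; exact hON _ hga _ hgb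
  have hzK : ψ z6 ∈ fourU.K F := by rw [hψz]; exact (fourU.zK F).2
  have hzzK : ψ (z6 * z6) ∈ fourU.K F := by rw [hψ z6 z6 hs.1 hs.1]; exact mul_mem hzK hzK
  have hx' : ψ p ∈ fourU.O F := by rw [hψa]; exact hx
  -- an element of the core commuting with both elements of order three is trivial
  have hnone : ∀ w : Perm (Fin 6), sign w = 1 → ψ w ∈ fourU.O F →
      (w ^ 6 = 1 ∧ w ^ 2 ≠ 1) ∨ (w ≠ 1 ∧ w * z6 = z6 * w) → False := by
    intro w hw hwO h
    rcases h with ⟨h6, h2⟩ | ⟨h1, hwz⟩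
    · refine h2 (hψinj _ _ (by rw [map_pow, hw, one_pow]) (map_one _) ?_)
      rw [hψ1]
      have e2 : ψ (w ^ 2) = ψ w * ψ w := by rw [pow_two, hψ w w hw hw]
      have hO2 : ψ (w ^ 2) ∈ fourU.O F := e2 ▸ mul_mem hwO hwO
      have h3 : ψ (w ^ 2) ^ 3 = 1 := by
        have e6 : ψ (w ^ 6) = ψ (w ^ 2) ^ 3 := by
          have hw2 : sign (w ^ 2) = 1 := by rw [map_pow, hw, one_pow]
          rw [show w ^ 6 = w ^ 2 * w ^ 2 * w ^ 2 by group, hψ (w ^ 2 * w ^ 2) (w ^ 2) (by rw [map_mul, hw2, mul_one]) hw2,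
            hψ (w ^ 2) (w ^ 2) hw2 hw2, pow_succ (ψ (w ^ 2)) 2, pow_two (ψ (w ^ 2))]
        rw [← e6, h6, hψ1]
      exact orderOf_eq_one_iff.mp (Nat.eq_one_of_dvd_coprimes (fourU.O_coprime F)
        (Subgroup.orderOf_dvd_natCard _ hO2) (orderOf_dvd_of_pow_eq_one h3))
    · have hcz : Commute (ψ w) (FourPerm.im F z9) := by
        rw [← hψz, hψa, hψa]
        exact F.val_commute (lift6_inBlk hw) (lift6_inBlk hs.1) (by rw [← lift6_mul, hwz, lift6_mul])
      have hV := fourU.O_z F hwO hcz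
      have hcπ : Commute (ψ w) (FourPerm.im F fourU.π) := by
        rw [← hπv, hψa]
        refine F.val_commute (lift6_inBlk hw) hπI ?_
        rw [show fourU.π = theta r0 * inc63 (1, swap 0 1 * swap 1 2) * (theta r0)⁻¹ by decide +kernel, lift6,
          show theta r0 * inc63 (w, 1) * (theta r0)⁻¹ * (theta r0 * inc63 (1, swap (0 : Fin 3) 1 * swap 1 2) * (theta r0)⁻¹) =
            theta r0 * (inc63 (w, 1) * inc63 (1, swap (0 : Fin 3) 1 * swap 1 2)) * (theta r0)⁻¹ by group,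
          ← map_mul, show ((w, 1) : Perm (Fin 6) × Perm (Fin 3)) * (1, swap 0 1 * swap 1 2) =
            (1, swap 0 1 * swap 1 2) * (w, 1) by simp, map_mul]
        group
      refine h1 (hψinj _ _ hw (map_one _) ?_)
      rw [hψ1]
      rcases (fourU.closure_cases F).mp hV with e | e | e | e
      · exact e
      all_goals
        exfalso
        rw [e] at hcπ
      · exact (by decide +kernel : fourU.v1 * fourU.π ≠ fourU.π * fourU.v1) (FourPerm.im_inj F
          (mul_mem fourU.m1 fourU.mπ) (mul_mem fourU.mπ fourU.m1)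
          (by rw [FourPerm.im_mul F fourU.m1 fourU.mπ, FourPerm.im_mul F fourU.mπ fourU.m1]; exact hcπ.eq))
      · exact (by decide +kernel : fourU.v2 * fourU.π ≠ fourU.π * fourU.v2) (FourPerm.im_inj F
          (mul_mem fourU.m2 fourU.mπ) (mul_mem fourU.mπ fourU.m2)
          (by rw [FourPerm.im_mul F fourU.m2 fourU.mπ, FourPerm.im_mul F fourU.mπ fourU.m2]; exact hcπ.eq))
      · rw [← FourPerm.im_mul F fourU.m1 fourU.m2] at hcπ
        have hm := mul_mem fourU.m1 fourU.m2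
        exact (by decide +kernel : fourU.v1 * fourU.v2 * fourU.π ≠ fourU.π * (fourU.v1 * fourU.v2)) (FourPerm.im_inj F
          (mul_mem hm fourU.mπ) (mul_mem fourU.mπ hm)
          (by rw [FourPerm.im_mul F hm fourU.mπ, FourPerm.im_mul F fourU.mπ hm]; exact hcπ.eq))
  -- the four-group on the last six points is excluded by the other four-group
  have hexcl : ψ (swap 0 5 * swap 3 4) ∉ fourU.O F := by
    intro hO
    have hxK : F.val r0 (swap 3 8 * swap 6 7) ∈ fourU.K F := by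
      rw [← lift6_values.2.2, ← hψa]; exact Subgroup.map_subtype_le _ hO
    obtain ⟨h, e1, e2⟩ : ∃ h : HM, theta h * fourR.v1 * (theta h)⁻¹ = swap 3 8 * swap 6 7 ∧
        theta h * fourR.v2 * (theta h)⁻¹ = swap 3 8 * swap 4 5 := by decide +kernel
    have hh : InBlk r0 (theta h * fourR.v1 * (theta h)⁻¹) ∧ InBlk r0 (theta h * fourR.v2 * (theta h)⁻¹) := by
      rw [e1, e2]; decide +kernel
    have hblk : theta (r0⁻¹ * h) ∈ M2 := by
      have key : ∀ h : HM, theta h * fourR.v1 * (theta h)⁻¹ = swap 3 8 * swap 6 7 ∧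
          theta h * fourR.v2 * (theta h)⁻¹ = swap 3 8 * swap 4 5 → theta (r0⁻¹ * h) ∈ M2 := by decide +kernel
      exact key h ⟨e1, e2⟩
    have hv : ∀ v : Perm (Fin 9), v ∈ M2 → InBlk r0 (theta h * v * (theta h)⁻¹) →
        F.val r0 (theta h * v * (theta h)⁻¹) = L.ι h * FourPerm.im F v * (L.ι h)⁻¹ := fun v hvM hvI => by
      rw [← (F.val_block hblk hvI).2, ← F.val_shift 1 h v, mul_one]
    have h38 : F.val r0 (swap 3 8 * swap 4 5) ∈ fourU.K F := by
      have : F.val r0 (swap 3 8 * swap 4 5) = F.val r0 (swap 3 8 * swap 6 7) * L.ι hT := by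
        rw [← F.val_r0_t, ← F.val_mul (e1 ▸ hh.1) (by decide +kernel)]
        exact congrArg (F.val r0) (by decide +kernel)
      rw [this]; exact mul_mem hxK htK
    set u := FourPerm.im F fourU.v1 with hu
    have hK' : (L.ι h)⁻¹ * u * L.ι h ∈ fourR.K F := by
      have hc1 := ((fourU.mem_K F).mp hxK).1
      have hc2 := ((fourU.mem_K F).mp h38).1
      rw [← e1, hv _ fourR.m1 hh.1] at hc1
      rw [← e2, hv _ fourR.m2 hh.2] at hc2
      refine (fourR.mem_K F).mpr ⟨?_, ?_⟩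
      · have := hc1.symm.map (MulAut.conj (L.ι h)⁻¹).toMonoidHom
        simpa [mul_assoc] using this
      · have := hc2.symm.map (MulAut.conj (L.ι h)⁻¹).toMonoidHom
        simpa [mul_assoc] using this
    have hz := fourR_small F _ hK'
    rw [show FourPerm.im F z9 = L.ι (tr aV) from F.val_z] at hz
    have he : L.ι h * L.ι (tr aV) * (L.ι h)⁻¹ = FourPerm.im F fourU.π ∨
        L.ι h * L.ι (tr aV) * (L.ι h)⁻¹ = (FourPerm.im F fourU.π)⁻¹ := by
      rw [fourU_π, ← map_inv, ← map_mul, ← map_mul, ← map_inv]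
      have key : ∀ h : HM, theta (r0⁻¹ * h) ∈ M2 → h * tr aV * h⁻¹ = tr (1, 0, 0) ∨ h * tr aV * h⁻¹ = (tr (1, 0, 0))⁻¹ := by
        decide +kernel
      rcases key h hblk with e | e
      · exact Or.inl (congrArg L.ι e)
      · exact Or.inr (congrArg L.ι e)
    have hm := fourU.m1
    have hp := fourU.mπ
    have hπu : u * FourPerm.im F fourU.π * u⁻¹ = FourPerm.im F fourU.π ∨
        u * FourPerm.im F fourU.π * u⁻¹ = (FourPerm.im F fourU.π)⁻¹ := by
      rcases hz with e | e <;> rcases he with e' | e'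
      · left
        rw [← e']
        calc u * (L.ι h * L.ι (tr aV) * (L.ι h)⁻¹) * u⁻¹
            = L.ι h * ((L.ι h)⁻¹ * u * L.ι h * L.ι (tr aV) * ((L.ι h)⁻¹ * u * L.ι h)⁻¹) * (L.ι h)⁻¹ := by group
          _ = _ := by rw [e]
      · left
        rw [← inv_inv (FourPerm.im F fourU.π), ← e', ← conj_inv, inv_inj]
        calc u * (L.ι h * L.ι (tr aV) * (L.ι h)⁻¹) * u⁻¹
            = L.ι h * ((L.ι h)⁻¹ * u * L.ι h * L.ι (tr aV) * ((L.ι h)⁻¹ * u * L.ι h)⁻¹) * (L.ι h)⁻¹ := by group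
          _ = _ := by rw [e]
      · right
        rw [← e']
        calc u * (L.ι h * L.ι (tr aV) * (L.ι h)⁻¹) * u⁻¹
            = L.ι h * ((L.ι h)⁻¹ * u * L.ι h * L.ι (tr aV) * ((L.ι h)⁻¹ * u * L.ι h)⁻¹) * (L.ι h)⁻¹ := by group
          _ = _ := by rw [e, conj_inv]
      · right
        rw [← inv_inv (FourPerm.im F fourU.π), ← e', ← conj_inv, inv_inj]
        calc u * (L.ι h * L.ι (tr aV) * (L.ι h)⁻¹) * u⁻¹
            = L.ι h * ((L.ι h)⁻¹ * u * L.ι h * L.ι (tr aV) * ((L.ι h)⁻¹ * u * L.ι h)⁻¹) * (L.ι h)⁻¹ := by group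
          _ = _ := by rw [e, conj_inv]
    have hval : u * FourPerm.im F fourU.π * u⁻¹ = FourPerm.im F (fourU.v1 * fourU.π * fourU.v1⁻¹) :=
      (F.val_conj (inBlk_one.mpr hm) (inBlk_one.mpr hp)).symm
    rw [hval] at hπu
    rcases hπu with e | e
    · exact (by decide +kernel : fourU.v1 * fourU.π * fourU.v1⁻¹ ≠ fourU.π)
        (FourPerm.im_inj F (mul_mem (mul_mem hm hp) (inv_mem hm)) hp e)
    · have ei : (FourPerm.im F fourU.π)⁻¹ = FourPerm.im F fourU.π⁻¹ := (F.val_inv (inBlk_one.mpr hp)).symm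
      rw [ei] at e
      exact (by decide +kernel : fourU.v1 * fourU.π * fourU.v1⁻¹ ≠ fourU.π⁻¹)
        (FourPerm.im_inj F (mul_mem (mul_mem hm hp) (inv_mem hm)) (inv_mem hp) e)
  -- conclusion
  rcases check6 p hp with rfl | rfl | rfl | rfl | ⟨w, hw, hbad⟩
  · rw [← hψa, hψ1]; exact one_mem _
  · refine absurd ?_ hexcl
    rw [show swap (0 : Fin 6) 5 * swap 3 4 = z6 * z6 * (swap 0 3 * swap 4 5) * (z6 * z6)⁻¹ by decide +kernel]
    exact hconj _ _ hs.2.2 hp hzzK hx'
  · refine absurd ?_ hexcl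
    rw [show swap (0 : Fin 6) 5 * swap 3 4 = z6 * (swap 0 4 * swap 3 5) * z6⁻¹ by decide +kernel]
    exact hconj _ _ hs.1 hp hzK hx'
  · exact absurd hx' hexcl
  · exfalso
    have htK' : ψ t6 ∈ fourU.K F := hψt ▸ htK
    have ha := hconj _ _ hs.1 hp hzK hx'
    have hb := hconj _ _ hs.2.2 hp hzzK hx'
    have hc' := hconj _ _ hs.2.1 hp htK' hx'
    have sa : sign (z6 * p * z6⁻¹) = 1 := by rw [map_mul, map_mul, map_inv, hp, hs.1]; rfl
    have sb : sign (z6 * z6 * p * (z6 * z6)⁻¹) = 1 := by rw [map_mul, map_mul _ (z6 * z6), map_inv, hp, hs.2.2]; rfl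
    have sc : sign (t6 * p * t6⁻¹) = 1 := by rw [map_mul, map_mul, map_inv, hp, hs.2.1]; rfl
    have hmul : ∀ a b : Perm (Fin 6), sign a = 1 ∧ ψ a ∈ fourU.O F → sign b = 1 ∧ ψ b ∈ fourU.O F →
        sign (a * b) = 1 ∧ ψ (a * b) ∈ fourU.O F := fun a b ha hb =>
      ⟨by rw [map_mul, ha.1, hb.1, mul_one], by rw [hψ a b ha.1 hb.1]; exact mul_mem ha.2 hb.2⟩
    have Hp : sign p = 1 ∧ ψ p ∈ fourU.O F := ⟨hp, hx'⟩
    have Ha := And.intro sa ha
    have Hb := And.intro sb hb
    have Hc := And.intro sc hc'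
    have hall : sign w = 1 ∧ ψ w ∈ fourU.O F := by
      simp only [words6, List.mem_cons, List.not_mem_nil, or_false] at hw
      rcases hw with rfl | rfl | rfl | rfl | rfl | rfl
      exacts [hmul _ _ (hmul _ _ (hmul _ _ Hp Hp) Ha) Hb, hmul _ _ (hmul _ _ (hmul _ _ Hp Hp) Hb) Ha,
        hmul _ _ (hmul _ _ (hmul _ _ Hp Ha) Hp) Hb, hmul _ _ Hp Hc, hmul _ _ Ha Hc, hmul _ _ Hb Hc]
    exact hnone w hall.1 hall.2 hbad

theorem fourU_cases : fourU.Small F ∨ Nonempty (fourU.K F ⧸ fourU.V F ≃* alternatingGroup (Fin 5)) := by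
  refine fourU.cases' F (fourU_core F) fun y hy d hd hne hc => ?_
  obtain ⟨k, hk⟩ := fourU.reduce_A F hd hne hc
  by_cases hk0 : k = 0
  · subst hk0
    rw [show z9 ^ (0 : Fin 3).val = 1 from pow_zero _, one_mul] at hk
    obtain ⟨σ, hσ, hσy⟩ := exists_val_r0 F hk
    have h7 : σ ^ 7 = 1 := F.val_injective (F.val_pow hσ 7).1 (InBlk.one r0) (by
      rw [(F.val_pow hσ 7).2, hσy, F.val_one, ← hy]; exact pow_orderOf_eq_one y)
    have h1 : σ = 1 := by
      have := M2_no_seven (show (theta r0)⁻¹ * σ * theta r0 ∈ M2 from hσ)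
        (by rw [show (theta r0)⁻¹ * σ * theta r0 = MulAut.conj (theta r0)⁻¹ σ by simp, ← map_pow, h7, map_one])
      calc σ = theta r0 * ((theta r0)⁻¹ * σ * theta r0) * (theta r0)⁻¹ := by group
        _ = 1 := by rw [this]; group
    rw [← hσy, h1, F.val_one, orderOf_one] at hy
    norm_num at hy
  · have := fourU.good_order F (fourU_good k hk0) hk
    rw [hy] at this
    norm_num at this

end CfsgLib.A9Three
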