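import Cfsg.Agent.Lib.ShortPres.Carmichael
import Mathlib

set_option autoImplicit false
set_option maxRecDepth 8000

/-!
Facts about the symmetric group of degree six: the normalizer of a Sylow 3-subgroup determines an automorphism
of the alternating group, and every embedding of it extends.
-/

namespace CfsgLib.A9Three

open Equiv Equiv.Perm CfsgLib.ShortPres

/-- `(0 1 2)` -/
abbrev e6 : Perm (Fin 6) := swap 0 1 * swap 1 2

/-- `(0 3)(1 5 2 4)` -/
abbrev r6 : Perm (Fin 6) := swap 0 3 * (swap 1 5 * swap 5 2 * swap 2 4)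

/-- `(0 1 3)` -/
abbrev y6 : Perm (Fin 6) := swap 0 1 * swap 1 3

/-- `(0 1 2)(3 4 5)` -/
abbrev d6 : Perm (Fin 6) := swap 0 1 * swap 1 2 * (swap 3 4 * swap 4 5)

theorem r6_values : r6 0 = 3 ∧ r6 1 = 5 ∧ r6 2 = 4 ∧ r6 3 = 0 ∧ r6 4 = 1 ∧ r6 5 = 2 := by decide +kernel

theorem y6_unique : ∀ y : Perm (Fin 6), y ^ 3 = 1 → (e6 * y) ^ 2 = 1 → (r6 * y) ^ 5 = 1 →
    (e6 * r6 * y) ^ 2 = 1 → y = y6 := by decide +kernel

theorem y6_spec : y6 ^ 3 = 1 ∧ (e6 * y6) ^ 2 = 1 ∧ (r6 * y6) ^ 5 = 1 ∧ (e6 * r6 * y6) ^ 2 = 1 := by decide +kernel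

theorem class_cases : ∀ u : Perm (Fin 6), u ^ 3 = 1 → u ≠ 1 →
    ∃ s, s * e6 * s⁻¹ = u ∨ s * d6 * s⁻¹ = u := by decide +kernel

theorem r_cases : ∀ w : Perm (Fin 6), sign w = 1 → w ^ 4 = 1 → w * w * e6 * (w * w)⁻¹ = e6⁻¹ →
    (w * e6 * w⁻¹) * e6 = e6 * (w * e6 * w⁻¹) → ∃ s, s * e6 * s⁻¹ = e6 ∧ s * r6 * s⁻¹ = w := by decide +kernel

theorem even6 : sign e6 = 1 ∧ sign r6 = 1 ∧ sign y6 = 1 ∧ sign d6 = 1 := by decide +kernel

/-- `(0 1 2)` in the alternating group. -/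
def eA6 : alternatingGroup (Fin 6) := ⟨e6, mem_alternatingGroup.mpr even6.1⟩

/-- `(0 3)(1 5 2 4)` in the alternating group. -/
def rA6 : alternatingGroup (Fin 6) := ⟨r6, mem_alternatingGroup.mpr even6.2.1⟩

/-- `(0 1 3)` in the alternating group. -/
def yA6 : alternatingGroup (Fin 6) := ⟨y6, mem_alternatingGroup.mpr even6.2.2.1⟩


theorem gen_more : ∀ x : Fin 6, x ≠ 0 → x ≠ 1 →
    cyc3 (0 : Fin 6) 1 x = e6 ∨ cyc3 (0 : Fin 6) 1 x = y6 ∨
    cyc3 (0 : Fin 6) 1 x = (r6 * e6 * r6⁻¹) ^ 2 * y6 * ((r6 * e6 * r6⁻¹) ^ 2)⁻¹ ∨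
    cyc3 (0 : Fin 6) 1 x = (r6 * e6 * r6⁻¹) * y6 * (r6 * e6 * r6⁻¹)⁻¹ := by decide +kernel

theorem alt6_closure : Subgroup.closure ({eA6, rA6, yA6} : Set (alternatingGroup (Fin 6))) = ⊤ := by
  set S := Subgroup.closure ({eA6, rA6, yA6} : Set (alternatingGroup (Fin 6))) with hS
  have he : eA6 ∈ S := Subgroup.subset_closure (by simp)
  have hr : rA6 ∈ S := Subgroup.subset_closure (by simp)
  have hy : yA6 ∈ S := Subgroup.subset_closure (by simp)
  have hz := mul_mem (mul_mem hr he) (inv_mem hr)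
  refine eq_top_iff.mpr fun σ _ => ?_
  have hle : altOn (Set.univ : Set (Fin 6)) ≤ S.map (alternatingGroup (Fin 6)).subtype := by
    refine (altOn_le_closure (a := 0) (b := 1) (Set.mem_univ _) (Set.mem_univ _) (by decide)).trans
      ((Subgroup.closure_le _).mpr ?_)
    rintro _ ⟨x, -, hxa, hxb, rfl⟩
    rcases gen_more x hxa hxb with e | e | e | e
    · exact ⟨eA6, he, e.symm⟩
    · exact ⟨yA6, hy, e.symm⟩
    · exact ⟨_, mul_mem (mul_mem (pow_mem hz 2) hy) (inv_mem (pow_mem hz 2)), e.symm⟩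
    · exact ⟨_, mul_mem (mul_mem hz hy) (inv_mem hz), e.symm⟩
  obtain ⟨s, hs, e⟩ := hle (show (σ : Perm (Fin 6)) ∈ altOn (Set.univ : Set (Fin 6)) from
    mem_altOn.mpr ⟨fun c hc => absurd (Set.mem_univ c) hc, mem_alternatingGroup.mp σ.2⟩)
  rwa [Subtype.ext (show (σ : Perm (Fin 6)) = s from e.symm)]

/-- An endomorphism fixing the normalizer of a Sylow 3-subgroup is the identity. -/
theorem alt6_rigid (γ : alternatingGroup (Fin 6) →* alternatingGroup (Fin 6)) (he : γ eA6 = eA6) (hr : γ rA6 = rA6)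
    (x : alternatingGroup (Fin 6)) : γ x = x := by
  have hy : γ yA6 = yA6 := by
    obtain ⟨h1, h2, h3, h4⟩ := y6_spec
    have k1 : γ yA6 ^ 3 = 1 := by rw [← map_pow, show yA6 ^ 3 = 1 from Subtype.ext h1, map_one]
    have k2 : (eA6 * γ yA6) ^ 2 = 1 := by
      rw [← he, ← map_mul, ← map_pow, show (eA6 * yA6) ^ 2 = 1 from Subtype.ext h2, map_one]
    have k3 : (rA6 * γ yA6) ^ 5 = 1 := by
      rw [← hr, ← map_mul, ← map_pow, show (rA6 * yA6) ^ 5 = 1 from Subtype.ext h3, map_one]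
    have k4 : (eA6 * rA6 * γ yA6) ^ 2 = 1 := by
      rw [← he, ← hr, ← map_mul, ← map_mul, ← map_pow, show (eA6 * rA6 * yA6) ^ 2 = 1 from Subtype.ext h4, map_one]
    exact Subtype.ext (y6_unique _ (congrArg Subtype.val k1) (congrArg Subtype.val k2) (congrArg Subtype.val k3)
      (congrArg Subtype.val k4))
  have h : Set.EqOn γ (MonoidHom.id _) ({eA6, rA6, yA6} : Set (alternatingGroup (Fin 6))) := by
    rintro z (rfl | rfl | rfl)
    exacts [he, hr, hy]
  exact MonoidHom.eqOn_closure h (alt6_closure ▸ Subgroup.mem_top x)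

/-- Conjugation by a permutation. -/
def conjA6 (s : Perm (Fin 6)) : alternatingGroup (Fin 6) →* alternatingGroup (Fin 6) where
  toFun x := ⟨s * x * s⁻¹, mem_alternatingGroup.mpr (by
    rw [map_mul, map_mul, map_inv, mem_alternatingGroup.mp x.2, mul_one, mul_inv_cancel])⟩
  map_one' := Subtype.ext (by simp)
  map_mul' x y := Subtype.ext (by simp [mul_assoc])

theorem conjA6_val (s : Perm (Fin 6)) (x : alternatingGroup (Fin 6)) :
    (conjA6 s x : Perm (Fin 6)) = s * x * s⁻¹ := rfl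

/-- The images of `(0 1 i)` under an outer automorphism. -/
def outerImg : Fin 4 → Perm (Fin 6)
  | 0 => swap 0 1 * swap 1 2 * (swap 3 4 * swap 4 5)
  | 1 => swap 0 2 * swap 2 4 * (swap 1 3 * swap 3 5)
  | 2 => swap 0 3 * swap 3 1 * (swap 2 5 * swap 5 4)
  | 3 => swap 0 4 * swap 4 3 * (swap 1 5 * swap 5 2)

theorem outerImg_even : ∀ i, sign (outerImg i) = 1 := by decide +kernel

theorem outerImg_carm : (∀ i, outerImg i ^ 3 = 1) ∧ ∀ i j, i ≠ j → (outerImg i * outerImg j) ^ 2 = 1 := by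
  decide +kernel

/-- An endomorphism exchanging the classes of elements of order three. -/
theorem exists_outer : ∃ τ : alternatingGroup (Fin 6) →* alternatingGroup (Fin 6), (τ eA6 : Perm (Fin 6)) = d6 := by
  let y : Fin 4 → alternatingGroup (Fin 6) := fun i => ⟨outerImg i, mem_alternatingGroup.mpr (outerImg_even i)⟩
  have hy : Carm y := ⟨fun i => Subtype.ext (outerImg_carm.1 i), fun i j h => Subtype.ext (outerImg_carm.2 i j h)⟩
  let e : Fin 4 → Fin 6 := fun i => ⟨i.val + 2, by omega⟩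
  have he : Function.Injective e := fun i j h => Fin.ext (by simpa [e, Fin.ext_iff] using h)
  obtain ⟨φ, hφ⟩ := hy.exists_hom (a := (0 : Fin 6)) (b := 1) he (by decide) (by decide) (by decide)
  have hX : ∀ c : Fin 6, c ∈ insert (0 : Fin 6) (insert 1 (Set.range e)) := by
    intro c
    rcases (by decide : ∀ c : Fin 6, c = 0 ∨ c = 1 ∨ ∃ i : Fin 4, (⟨i.val + 2, by omega⟩ : Fin 6) = c) c with
      rfl | rfl | ⟨i, rfl⟩
    · exact Set.mem_insert _ _
    · exact Set.mem_insert_of_mem _ (Set.mem_insert _ _)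
    · exact Set.mem_insert_of_mem _ (Set.mem_insert_of_mem _ ⟨i, rfl⟩)
  have hle : alternatingGroup (Fin 6) ≤ altOn (insert (0 : Fin 6) (insert 1 (Set.range e))) := fun σ hσ =>
    mem_altOn.mpr ⟨fun c hc => absurd (hX c) hc, mem_alternatingGroup.mp hσ⟩
  refine ⟨φ.comp (Subgroup.inclusion hle), ?_⟩
  have h0 := hφ 0
  show ((φ (Subgroup.inclusion hle eA6) : alternatingGroup (Fin 6)) : Perm (Fin 6)) = d6
  have he0 : (⟨cyc3 0 1 (e 0), cyc3_mem_altOn (Set.mem_insert _ _) (Set.mem_insert_of_mem _ (Set.mem_insert _ _))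
      (Set.mem_insert_of_mem _ (Set.mem_insert_of_mem _ ⟨0, rfl⟩)) (by decide) (by decide)⟩ :
        altOn (insert (0 : Fin 6) (insert 1 (Set.range e)))) = Subgroup.inclusion hle eA6 :=
    Subtype.ext (show cyc3 (0 : Fin 6) 1 2 = e6 by decide +kernel)
  rw [← he0, h0]
  rfl

/-- Every pair with the relations of the normalizer of a Sylow 3-subgroup is the image of the standard one
under an endomorphism. -/
theorem exists_endo {u w : alternatingGroup (Fin 6)} (hu : u ^ 3 = 1) (hu1 : u ≠ 1) (hw : w ^ 4 = 1)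
    (hinv : w * w * u * (w * w)⁻¹ = u⁻¹) (hc : (w * u * w⁻¹) * u = u * (w * u * w⁻¹)) :
    ∃ γ : alternatingGroup (Fin 6) →* alternatingGroup (Fin 6), Function.Injective γ ∧ γ eA6 = u ∧ γ rA6 = w := by
  have hinj : ∀ γ : alternatingGroup (Fin 6) →* alternatingGroup (Fin 6), γ eA6 ≠ 1 → Function.Injective γ := by
    intro γ h
    haveI : IsSimpleGroup (alternatingGroup (Fin 6)) := alternatingGroup.isSimpleGroup (by simp)
    rcases IsSimpleGroup.eq_bot_or_eq_top_of_normal _ (MonoidHom.normal_ker γ) with e | e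
    · exact (MonoidHom.ker_eq_bot_iff γ).mp e
    · exact absurd (show eA6 ∈ γ.ker from e ▸ Subgroup.mem_top _) h
  have hd : (d6 : Perm (Fin 6)) ≠ 1 ∧ e6 ≠ 1 := by decide +kernel
  obtain ⟨τ, hτ⟩ := exists_outer
  obtain ⟨γ₁, h1, hγ₁⟩ : ∃ γ₁ : alternatingGroup (Fin 6) →* alternatingGroup (Fin 6),
      Function.Injective γ₁ ∧ γ₁ eA6 = u := by
    obtain ⟨s, hs | hs⟩ := class_cases u (congrArg Subtype.val hu) (fun e => hu1 (Subtype.ext e))
    · refine ⟨conjA6 s, hinj _ ?_, Subtype.ext hs⟩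
      intro e
      exact hd.2 (conj_eq_one_iff.mp (congrArg Subtype.val e : s * e6 * s⁻¹ = 1))
    · refine ⟨(conjA6 s).comp τ, hinj _ ?_, Subtype.ext (by rw [MonoidHom.comp_apply, conjA6_val, hτ, hs])⟩
      intro e
      have e' : s * (τ eA6 : Perm (Fin 6)) * s⁻¹ = 1 := congrArg Subtype.val e
      rw [hτ] at e'
      exact hd.1 (conj_eq_one_iff.mp e')
  obtain ⟨w', hw'⟩ := (Finite.injective_iff_surjective.mp h1) w
  obtain ⟨s, hs1, hs2⟩ := r_cases w' (mem_alternatingGroup.mp w'.2)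
    (congrArg Subtype.val (show w' ^ 4 = 1 from h1 (by rw [map_pow, hw', hw, map_one])))
    (congrArg Subtype.val (show w' * w' * eA6 * (w' * w')⁻¹ = eA6⁻¹ from h1 (by
      simp only [map_mul, map_inv, hw', hγ₁]; exact hinv)))
    (congrArg Subtype.val (show w' * eA6 * w'⁻¹ * eA6 = eA6 * (w' * eA6 * w'⁻¹) from h1 (by
      simp only [map_mul, map_inv, hw', hγ₁]; exact hc)))
  refine ⟨γ₁.comp (conjA6 s), ?_, ?_, ?_⟩
  · refine hinj _ ?_
    rw [MonoidHom.comp_apply, show conjA6 s eA6 = eA6 from Subtype.ext hs1, hγ₁]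
    exact hu1
  · rw [MonoidHom.comp_apply, show conjA6 s eA6 = eA6 from Subtype.ext hs1, hγ₁]
  · rw [MonoidHom.comp_apply, show conjA6 s rA6 = w' from Subtype.ext hs2, hw']

end CfsgLib.A9Three
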