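import Cfsg.Agent.Lib.A9Three.CentA
import Cfsg.Agent.Lib.A9Three.Perm6

set_option autoImplicit false
set_option maxRecDepth 8000
set_option synthInstance.maxSize 2000

/-!
The normalizer of the short translation, as the stabilizer of a block in the alternating group of degree nine.
-/

namespace CfsgLib.A9Three

open CfsgLib.A9Local Equiv Equiv.Perm
open scoped commutatorElement

universe u

/-- Two permutations side by side. -/
def inc63 : Perm (Fin 6) × Perm (Fin 3) →* Perm (Fin 9) :=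
  (finSumFinEquiv (m := 6) (n := 3)).permCongrHom.toMonoidHom.comp (sumCongrHom (Fin 6) (Fin 3))

theorem inc63_injective : Function.Injective inc63 :=
  (finSumFinEquiv (m := 6) (n := 3)).permCongrHom.injective.comp sumCongrHom_injective

theorem sign_inc63 (x : Perm (Fin 6) × Perm (Fin 3)) : sign (inc63 x) = sign x.1 * sign x.2 := by
  obtain ⟨p, q⟩ := x
  show sign ((finSumFinEquiv (m := 6) (n := 3)).permCongr (Equiv.Perm.sumCongr p q)) = _
  rw [sign_permCongr, sign_sumCongr]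

/-- The stabilizer of the last block in the alternating group. -/
def M2 : Subgroup (Perm (Fin 9)) where
  carrier := {σ | sign σ = 1 ∧ ∀ i : Fin 9, 6 ≤ (σ i).val ↔ 6 ≤ i.val}
  mul_mem' {a b} ha hb := ⟨by rw [map_mul, ha.1, hb.1, one_mul], fun i => (ha.2 (b i)).trans (hb.2 i)⟩
  one_mem' := ⟨map_one _, fun _ => Iff.rfl⟩
  inv_mem' {a} ha := ⟨by rw [map_inv, ha.1, inv_one], fun i => by
    have := ha.2 (a⁻¹ i)
    rw [show a (a⁻¹ i) = i from a.apply_symm_apply i] at this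
    exact this.symm⟩

theorem mem_M2_iff {σ : Perm (Fin 9)} : σ ∈ M2 ↔ sign σ = 1 ∧ ∀ i : Fin 9, 6 ≤ (σ i).val ↔ 6 ≤ i.val := Iff.rfl

instance : DecidablePred (· ∈ M2) := fun _ => decidable_of_iff _ mem_M2_iff.symm

theorem exists_inc63 {σ : Perm (Fin 9)} (hσ : σ ∈ M2) : ∃ x, inc63 x = σ := by
  set e := (finSumFinEquiv (m := 6) (n := 3)).permCongrHom with he
  obtain ⟨⟨p, q⟩, hpq⟩ := mem_sumCongrHom_range_of_perm_mapsTo_inl (m := Fin 6) (n := Fin 3) (σ := e.symm σ) (by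
    rintro _ ⟨i, rfl⟩
    have h1 : (σ (finSumFinEquiv (m := 6) (n := 3) (Sum.inl i))).val < 6 := by
      by_contra hc
      have := (hσ.2 _).mp (Nat.le_of_not_lt hc)
      rw [finSumFinEquiv_apply_left] at this
      simp only [Fin.val_castAdd] at this
      omega
    refine ⟨⟨_, h1⟩, ?_⟩
    show _ = (finSumFinEquiv (m := 6) (n := 3)).symm (σ (finSumFinEquiv (m := 6) (n := 3) (Sum.inl i)))
    rw [← finSumFinEquiv.injective.eq_iff, apply_symm_apply]
    exact Fin.ext rfl)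
  refine ⟨(p, q), ?_⟩
  show e (sumCongrHom (Fin 6) (Fin 3) (p, q)) = σ
  rw [hpq, MulEquiv.apply_symm_apply]

theorem inc63_mem {x : Perm (Fin 6) × Perm (Fin 3)} (h : sign x.1 * sign x.2 = 1) : inc63 x ∈ M2 := by
  refine ⟨by rw [sign_inc63, h], fun i => ?_⟩
  obtain ⟨s, rfl⟩ := (finSumFinEquiv (m := 6) (n := 3)).surjective i
  show 6 ≤ ((finSumFinEquiv (m := 6) (n := 3)).permCongr (Equiv.Perm.sumCongr x.1 x.2) _).val ↔ _
  rw [Equiv.permCongr_apply, Equiv.symm_apply_apply]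
  cases s with
  | inl j =>
    show 6 ≤ (Fin.castAdd 3 (x.1 j)).val ↔ 6 ≤ (Fin.castAdd 3 j).val
    simp only [Fin.val_castAdd]
    omega
  | inr j =>
    show 6 ≤ (Fin.natAdd 6 (x.2 j)).val ↔ 6 ≤ (Fin.natAdd 6 j).val
    simp only [Fin.val_natAdd]
    omega

/-- The element of the model inverting the last translation. -/
abbrev hJ : HM := ⟨(0, 0, 1), 2⟩

/-- Its permutation of the first six points. -/
abbrev pJ : Perm (Fin 6) := swap 1 2

theorem theta_gens63 : theta (tr (1, 0, 0)) = inc63 (e6, 1) ∧ theta ⟨0, 9⟩ = inc63 (r6, 1) ∧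
    theta (tr aV) = inc63 (1, swap 0 1 * swap 1 2) ∧ theta hJ = inc63 (pJ, swap 0 1) := by decide +kernel

theorem hJ_spec : hJ * hJ = 1 ∧ hJ * tr aV * hJ⁻¹ = tr (2 • aV) ∧
    hJ * tr (1, 0, 0) * hJ⁻¹ = tr (2, 0, 0) := by decide +kernel

theorem pJ_spec : sign pJ = -1 ∧ pJ * pJ = 1 ∧ pJ * e6 * pJ⁻¹ = e6⁻¹ := by decide +kernel

theorem hJ_r : hJ * ⟨0, 9⟩ * hJ⁻¹ ∈ DA := by decide +kernel

theorem DA_words : ∀ h : HM, h ∈ DA → ∃ i j : Fin 3, ∃ k : Fin 4,
    h = tr (1, 0, 0) ^ i.val * ((⟨0, 9⟩ : HM) * tr (1, 0, 0) * (⟨0, 9⟩ : HM)⁻¹) ^ j.val * (⟨0, 9⟩ : HM) ^ k.val := by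
  decide +kernel

theorem DA_gens : tr (1, 0, 0) ∈ DA ∧ (⟨0, 9⟩ : HM) ∈ DA := by decide +kernel

theorem three_parts : ∀ q : Perm (Fin 3), sign q = 1 → q = (swap 0 1 * swap 1 2) ^ (q 0).val := by decide +kernel

theorem three_mul : ∀ q q' : Perm (Fin 3), sign q = 1 → sign q' = 1 →
    ((q * q') 0).val % 3 = ((q 0).val + (q' 0).val) % 3 := by decide +kernel

theorem three_conj : ∀ q : Perm (Fin 3), sign q = 1 →
    ((swap (0 : Fin 3) 1 * q * swap 0 1 : Perm (Fin 3)) 0).val % 3 = 2 * (q 0).val % 3 := by decide +kernel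

theorem aV_pow : ∀ k : Fin 3, tr (k.val • aV) = tr aV ^ k.val := by decide +kernel

variable {G : Type u} [Group G] [Finite G] {L : Loc G}

theorem Loc.Six.centralizes (S : L.Six) (p : alternatingGroup (Fin 6)) (k : ℕ) :
    Commute (S.φ p) (L.ι (tr (k • aV))) := by
  rw [← tr_pow, map_pow]
  exact (show Commute (S.φ p) (L.ι (tr aV)) from S.comm p).pow_right k

/-- Any homomorphism commuting with the short translation maps into the six-point part. -/
theorem Loc.Six.range_of_comm (S : L.Six) (ψ : alternatingGroup (Fin 6) →* G)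
    (h : ∀ p, ψ p * L.ι (tr aV) = L.ι (tr aV) * ψ p) (p : alternatingGroup (Fin 6)) : ψ p ∈ S.φ.range := by
  have hp : p ∈ commutator (alternatingGroup (Fin 6)) := by
    rw [commutator_alternatingGroup_eq_top (by simp)]; exact Subgroup.mem_top _
  rw [commutator_def] at hp
  refine (Subgroup.commutator_le.mpr fun a _ b _ => ?_ : ⁅(⊤ : Subgroup (alternatingGroup (Fin 6))), ⊤⁆ ≤
    S.φ.range.comap ψ) hp
  rw [Subgroup.mem_comap, map_commutatorElement]
  obtain ⟨pa, ka, ha⟩ := S.split _ (h a)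
  obtain ⟨pb, kb, hb⟩ := S.split _ (h b)
  refine ⟨⁅pa, pb⁆, ?_⟩
  rw [map_commutatorElement, ha, hb]
  set x := L.ι (tr (ka.val • aV))
  set y := L.ι (tr (kb.val • aV))
  have h1 : Commute x (S.φ pb) := (S.centralizes pb _).symm
  have h2 : Commute y (S.φ pa) := (S.centralizes pa _).symm
  have h3 : Commute x y := (show Commute _ _ from tr_comm _ _).map L.ι
  rw [commutatorElement_def, commutatorElement_def]
  calc S.φ pa * S.φ pb * (S.φ pa)⁻¹ * (S.φ pb)⁻¹
      = S.φ pa * S.φ pb * (x * y * (x⁻¹ * y⁻¹)) * (S.φ pa)⁻¹ * (S.φ pb)⁻¹ := by rw [h3.eq]; group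
    _ = S.φ pa * (S.φ pb * x) * y * x⁻¹ * (y⁻¹ * (S.φ pa)⁻¹) * (S.φ pb)⁻¹ := by group
    _ = S.φ pa * (x * S.φ pb) * y * x⁻¹ * ((S.φ pa)⁻¹ * y⁻¹) * (S.φ pb)⁻¹ := by
      rw [h1.eq, (h2.inv_inv).eq]
    _ = S.φ pa * x * (S.φ pb * y) * (S.φ pa * x)⁻¹ * (S.φ pb * y)⁻¹ := by
      rw [mul_inv_rev, mul_inv_rev]; group

theorem Loc.Six.norm_agree (S : L.Six) : ∃ φ : alternatingGroup (Fin 6) →* G, Function.Injective φ ∧
    φ.range = S.φ.range ∧ φ eA6 = L.ι (tr (1, 0, 0)) ∧ φ rA6 = L.ι ⟨0, 9⟩ := by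
  obtain ⟨u, hu⟩ := S.local_le ⟨_, DA_gens.1, rfl⟩
  obtain ⟨w, hw⟩ := S.local_le ⟨_, DA_gens.2, rfl⟩
  have hs : (tr (1, 0, 0) : HM) ^ 3 = 1 ∧ tr (1, 0, 0) ≠ 1 ∧ (⟨0, 9⟩ : HM) ^ 4 = 1 ∧
      (⟨0, 9⟩ : HM) * ⟨0, 9⟩ * tr (1, 0, 0) * ((⟨0, 9⟩ : HM) * ⟨0, 9⟩)⁻¹ = (tr (1, 0, 0))⁻¹ ∧
      ((⟨0, 9⟩ : HM) * tr (1, 0, 0) * (⟨0, 9⟩ : HM)⁻¹) * tr (1, 0, 0) =
        tr (1, 0, 0) * ((⟨0, 9⟩ : HM) * tr (1, 0, 0) * (⟨0, 9⟩ : HM)⁻¹) := by decide +kernel
  obtain ⟨γ, hγ, hγe, hγr⟩ := exists_endo (u := u) (w := w)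
    (S.inj (by rw [map_pow, hu, ← map_pow, hs.1, map_one, map_one]))
    (fun e => hs.2.1 (L.inj (by rw [map_one, ← hu, e, map_one])))
    (S.inj (by rw [map_pow, hw, ← map_pow, hs.2.2.1, map_one, map_one]))
    (S.inj (by simp only [map_mul, map_inv, hu, hw]; simp only [← map_mul, ← map_inv, hs.2.2.2.1]))
    (S.inj (by simp only [map_mul, map_inv, hu, hw]; simp only [← map_mul, ← map_inv, hs.2.2.2.2]))
  refine ⟨S.φ.comp γ, S.inj.comp hγ, ?_, by rw [MonoidHom.comp_apply, hγe, hu], by rw [MonoidHom.comp_apply, hγr, hw]⟩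
  rw [MonoidHom.range_comp, MonoidHom.range_eq_top.mpr (Finite.injective_iff_surjective.mp hγ), MonoidHom.range_eq_map]

/-- The normalizer of the short translation in permutations. -/
structure Frame (L : Loc G) where
  /-- the identification -/
  φ : M2 →* G
  inj : Function.Injective φ
  agree : ∀ h : HM, ∀ hh : theta h ∈ M2, φ ⟨theta h, hh⟩ = L.ι h
  norm : ∀ g : G, (g * L.ι (tr aV) * g⁻¹ = L.ι (tr aV) ∨ g * L.ι (tr aV) * g⁻¹ = (L.ι (tr aV))⁻¹) →
    ∃ σ : M2, φ σ = g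

theorem stab_words : ∀ h : HM, (∀ i : Fin 9, 6 ≤ (theta h i).val ↔ 6 ≤ i.val) →
    (h * tr aV = tr aV * h ∨ (h * hJ) * tr aV = tr aV * (h * hJ)) := by decide +kernel

theorem Loc.exists_frame (L : Loc G) (hne : L.ι.range ≠ ⊤) : Nonempty (Frame L) := by
  obtain ⟨S⟩ := L.exists_six hne
  obtain ⟨φ', hinj, hrange, hφe, hφr⟩ := S.norm_agree
  set a := L.ι (tr aV) with ha
  set j := L.ι hJ with hj
  have hj2 : j * j = 1 := by rw [hj, ← map_mul, hJ_spec.1, map_one]
  have hja : j * a * j⁻¹ = a⁻¹ := by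
    rw [hj, ha, ← map_inv, ← map_mul, ← map_mul, hJ_spec.2.1, ← map_inv]
    exact congrArg L.ι (by decide +kernel)
  have hcomm : ∀ p, φ' p * a = a * φ' p := fun p => by
    obtain ⟨q, hq⟩ : φ' p ∈ S.φ.range := hrange ▸ ⟨p, rfl⟩
    rw [← hq]; exact S.comm q
  have hcommk : ∀ p (k : ℕ), φ' p * a ^ k = a ^ k * φ' p := fun p k =>
    ((show Commute (φ' p) a from hcomm p).pow_right k).eq
  -- conjugation by `j`
  have hjc : ∀ (p : alternatingGroup (Fin 6)) (hp : pJ * p * pJ⁻¹ ∈ alternatingGroup (Fin 6)),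
      j * φ' p * j⁻¹ = φ' ⟨pJ * p * pJ⁻¹, hp⟩ := by
    have hmem : ∀ p, j * φ' p * j⁻¹ ∈ φ'.range := fun p => by
      rw [hrange]
      refine S.range_of_comm ((MulAut.conj j).toMonoidHom.comp φ') (fun q => ?_) p
      show j * φ' q * j⁻¹ * a = a * (j * φ' q * j⁻¹)
      have hja' : j * a⁻¹ * j⁻¹ = a := by rw [← conj_inv, hja, inv_inv]
      conv_lhs => rw [← hja']
      conv_rhs => rw [← hja']
      rw [show j * φ' q * j⁻¹ * (j * a⁻¹ * j⁻¹) = j * (φ' q * a⁻¹) * j⁻¹ by group,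
        show φ' q * a⁻¹ = a⁻¹ * φ' q from ((show Commute (φ' q) a from hcomm q).inv_right).eq]
      group
    let e := MonoidHom.ofInjective hinj
    let α : alternatingGroup (Fin 6) →* alternatingGroup (Fin 6) :=
      e.symm.toMonoidHom.comp (((MulAut.conj j).toMonoidHom.comp φ').codRestrict φ'.range hmem)
    have hα : ∀ p, φ' (α p) = j * φ' p * j⁻¹ := fun p => by
      exact congrArg Subtype.val (e.apply_symm_apply ⟨_, hmem p⟩)
    have hfix : ∀ (p : alternatingGroup (Fin 6)) (h : HM), φ' p = L.ι h → ∀ q : alternatingGroup (Fin 6),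
        φ' q = L.ι (hJ * h * hJ⁻¹) → α p = q := fun p h hp q hq => hinj (by
      rw [hα, hp, hq, map_mul, map_mul, map_inv])
    have hid := alt6_rigid ((conjA6 pJ).comp α) ?_ ?_
    · intro p hp
      rw [← hα]
      congr 1
      have h1 := congrArg Subtype.val (hid p)
      rw [MonoidHom.comp_apply, conjA6_val] at h1
      refine Subtype.ext ?_
      show (α p : Perm (Fin 6)) = pJ * p * pJ⁻¹
      rw [← h1, show pJ⁻¹ = pJ from inv_eq_of_mul_eq_one_right pJ_spec.2.1]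
      calc (α p : Perm (Fin 6)) = (pJ * pJ) * α p * (pJ * pJ) := by rw [pJ_spec.2.1, one_mul, mul_one]
        _ = _ := by group
    · rw [MonoidHom.comp_apply, hfix eA6 _ hφe eA6⁻¹ (by
        rw [map_inv, hφe, ← map_inv]; exact congrArg L.ι (by decide +kernel))]
      exact Subtype.ext (by show pJ * e6⁻¹ * pJ⁻¹ = e6; decide +kernel)
    · rw [MonoidHom.comp_apply, hfix rA6 _ hφr (conjA6 pJ rA6) ?_]
      · exact Subtype.ext (by show pJ * (pJ * r6 * pJ⁻¹) * pJ⁻¹ = r6; decide +kernel)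
      -- the conjugate of the rotation
      obtain ⟨i, k, l, hw⟩ := DA_words _ hJ_r
      have hth := congrArg theta hw
      simp only [map_mul, map_inv, map_pow] at hth
      rw [theta_gens63.1, theta_gens63.2.1, theta_gens63.2.2.2] at hth
      simp only [← map_mul, ← map_inv, ← map_pow] at hth
      have hp := congrArg Prod.fst (inc63_injective hth)
      have hp' : pJ * r6 * pJ⁻¹ = e6 ^ i.val * (r6 * e6 * r6⁻¹) ^ k.val * r6 ^ l.val := hp
      have hA : conjA6 pJ rA6 = eA6 ^ i.val * (rA6 * eA6 * rA6⁻¹) ^ k.val * rA6 ^ l.val :=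
        Subtype.ext (by rw [conjA6_val]; exact hp')
      rw [hA, hw]
      simp only [map_mul, map_inv, map_pow, hφe, hφr]
  classical
  -- extend to the whole stabilizer
  let E : Perm (Fin 6) → G := fun p => if h : p ∈ alternatingGroup (Fin 6) then φ' ⟨p, h⟩ else 1
  have hE : ∀ p (h : p ∈ alternatingGroup (Fin 6)), E p = φ' ⟨p, h⟩ := fun p h => dif_pos h
  have hEmul : ∀ p q, sign p = 1 → sign q = 1 → E (p * q) = E p * E q := fun p q hp hq => by
    rw [hE p (mem_alternatingGroup.mpr hp), hE q (mem_alternatingGroup.mpr hq),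
      hE _ (mul_mem (mem_alternatingGroup.mpr hp) (mem_alternatingGroup.mpr hq)), ← map_mul]
    rfl
  let core : Perm (Fin 6) → Perm (Fin 3) → G := fun p q => E p * a ^ (q 0).val
  have hapow : ∀ m n : ℕ, m % 3 = n % 3 → a ^ m = a ^ n := fun m n h => by
    rw [← Nat.mod_add_div m 3, ← Nat.mod_add_div n 3, pow_add, pow_add, pow_mul, pow_mul, ha, L.tr_pow_three,
      one_pow, one_pow, h]
  have hcore : ∀ p q p' q', sign p = 1 → sign q = 1 → sign p' = 1 → sign q' = 1 →
      core p q * core p' q' = core (p * p') (q * q') := by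
    intro p q p' q' hp hq hp' hq'
    show E p * a ^ (q 0).val * (E p' * a ^ (q' 0).val) = E (p * p') * a ^ ((q * q') 0).val
    rw [hEmul p p' hp hp', hapow _ _ (three_mul q q' hq hq'), pow_add, mul_assoc (E p), ← mul_assoc (a ^ (q 0).val),
      hE p' (mem_alternatingGroup.mpr hp'), ← hcommk]
    group
  have hconj : ∀ p q, sign p = 1 → sign q = 1 → j * core p q = core (pJ * p * pJ) (swap 0 1 * q * swap 0 1) * j := by
    intro p q hp hq
    have hpJ : pJ⁻¹ = pJ := inv_eq_of_mul_eq_one_right pJ_spec.2.1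
    have hp2 : pJ * p * pJ ∈ alternatingGroup (Fin 6) := mem_alternatingGroup.mpr (by
      rw [map_mul, map_mul, hp, mul_one, ← map_mul, pJ_spec.2.1, map_one])
    show j * (E p * a ^ (q 0).val) = E (pJ * p * pJ) * a ^ ((swap (0 : Fin 3) 1 * q * swap 0 1 : Perm (Fin 3)) 0).val * j
    rw [hE p (mem_alternatingGroup.mpr hp), hE _ hp2, hapow _ _ (three_conj q hq), pow_mul]
    have e1 := hjc ⟨p, mem_alternatingGroup.mpr hp⟩ (by rw [hpJ]; exact hp2)
    have e2 : a ^ 2 = j * a * j⁻¹ := by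
      rw [hja]
      exact (inv_eq_of_mul_eq_one_right (by rw [← pow_succ', ha, L.tr_pow_three])).symm
    rw [show (⟨pJ * p * pJ, hp2⟩ : alternatingGroup (Fin 6)) = ⟨pJ * p * pJ⁻¹, by rw [hpJ]; exact hp2⟩ from
      Subtype.ext (by show pJ * p * pJ = pJ * p * pJ⁻¹; rw [hpJ]), ← e1, e2, conj_pow]
    group
  let Φ : Perm (Fin 6) × Perm (Fin 3) → G := fun x =>
    if sign x.2 = 1 then core x.1 x.2 else core (x.1 * pJ) (x.2 * swap 0 1) * j
  have hodd : ∀ (q : Perm (Fin 3)) (p : Perm (Fin 6)), sign p * sign q = 1 → ¬ sign q = 1 →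
      sign (p * pJ) = 1 ∧ sign (q * swap 0 1) = 1 := by
    intro q p h hq
    have hqm : sign q = -1 := (Int.units_eq_one_or _).resolve_left hq
    rw [hqm, mul_neg, mul_one, neg_eq_iff_eq_neg] at h
    rw [map_mul, map_mul, h, hqm, pJ_spec.1, sign_swap (by decide)]
    decide
  have heven : ∀ (q : Perm (Fin 3)) (p : Perm (Fin 6)), sign p * sign q = 1 → sign q = 1 → sign p = 1 := by
    intro q p h hq; rwa [hq, mul_one] at h
  have hsw : swap (0 : Fin 3) 1 * swap 0 1 = 1 := Equiv.swap_mul_self 0 1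
  have hs2 : sign (swap (0 : Fin 3) 1) = -1 := sign_swap (by decide)
  have hΦ : ∀ x y : Perm (Fin 6) × Perm (Fin 3), sign x.1 * sign x.2 = 1 → sign y.1 * sign y.2 = 1 →
      Φ (x * y) = Φ x * Φ y := by
    rintro ⟨p, q⟩ ⟨p', q'⟩ hx hy
    show (if sign (q * q') = 1 then core (p * p') (q * q') else core (p * p' * pJ) (q * q' * swap 0 1) * j) =
      (if sign q = 1 then core p q else core (p * pJ) (q * swap 0 1) * j) *
        (if sign q' = 1 then core p' q' else core (p' * pJ) (q' * swap 0 1) * j)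
    simp only at hx hy
    by_cases h1 : sign q = 1 <;> by_cases h2 : sign q' = 1
    · rw [if_pos h1, if_pos h2, if_pos (by rw [map_mul, h1, h2, mul_one]),
        hcore p q p' q' (heven q p hx h1) h1 (heven q' p' hy h2) h2]
    · obtain ⟨h3, h4⟩ := hodd q' p' hy h2
      rw [if_pos h1, if_neg h2, if_neg (by rwa [map_mul, h1, one_mul]), ← mul_assoc,
        hcore p q _ _ (heven q p hx h1) h1 h3 h4, mul_assoc p, mul_assoc q]
    · obtain ⟨h3, h4⟩ := hodd q p hx h1
      have h5 := heven q' p' hy h2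
      rw [if_neg h1, if_pos h2, if_neg (by rwa [map_mul, h2, mul_one]), mul_assoc _ j, hconj p' q' h5 h2, ← mul_assoc,
        hcore _ _ _ _ h3 h4 (by rw [map_mul, map_mul, h5, mul_one, ← map_mul, pJ_spec.2.1, map_one])
          (by rw [map_mul, map_mul, h2, mul_one, ← map_mul, hsw, map_one])]
      congr 2
      · calc p * p' * pJ = p * (pJ * pJ) * p' * pJ := by rw [pJ_spec.2.1, mul_one]
          _ = _ := by group
      · calc q * q' * swap 0 1 = q * (swap (0 : Fin 3) 1 * swap 0 1) * q' * swap 0 1 := by rw [hsw, mul_one]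
          _ = _ := by group
    · obtain ⟨h3, h4⟩ := hodd q p hx h1
      obtain ⟨h5, h6⟩ := hodd q' p' hy h2
      have h7 : sign (q * q') = 1 := by
        rw [map_mul, (Int.units_eq_one_or _).resolve_left h1, (Int.units_eq_one_or _).resolve_left h2]; decide
      rw [if_neg h1, if_neg h2, if_pos h7,
        show core (p * pJ) (q * swap 0 1) * j * (core (p' * pJ) (q' * swap 0 1) * j) =
          core (p * pJ) (q * swap 0 1) * (j * core (p' * pJ) (q' * swap 0 1)) * j by group,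
        hconj _ _ h5 h6, ← mul_assoc,
        hcore _ _ _ _ h3 h4 (by rw [map_mul, map_mul, h5, mul_one, ← map_mul, pJ_spec.2.1, map_one])
          (by rw [map_mul, map_mul, h6, mul_one, ← map_mul, hsw, map_one]), mul_assoc _ j j, hj2, mul_one]
      congr 1
      · calc p * p' = p * (pJ * pJ) * p' * (pJ * pJ) := by rw [pJ_spec.2.1, mul_one, mul_one]
          _ = p * pJ * (pJ * (p' * pJ) * pJ) := by group
      · calc q * q' = q * (swap (0 : Fin 3) 1 * swap 0 1) * q' * (swap 0 1 * swap 0 1) := by rw [hsw, mul_one, mul_one]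
          _ = q * swap 0 1 * (swap 0 1 * (q' * swap 0 1) * swap 0 1) := by group
  choose pre hpre using fun σ : M2 => exists_inc63 σ.2
  have hpres : ∀ σ : M2, sign (pre σ).1 * sign (pre σ).2 = 1 := fun σ => by
    rw [← sign_inc63, hpre]; exact σ.2.1
  let φ : M2 →* G := MonoidHom.mk' (fun σ => Φ (pre σ)) fun σ τ => by
    have : pre (σ * τ) = pre σ * pre τ := inc63_injective (by rw [hpre, map_mul, hpre, hpre]; rfl)
    rw [this]
    exact hΦ _ _ (hpres σ) (hpres τ)
  have hφ : ∀ (σ : M2) x, inc63 x = (σ : Perm (Fin 9)) → φ σ = Φ x := fun σ x hx => by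
    show Φ (pre σ) = Φ x
    rw [show pre σ = x from inc63_injective ((hpre σ).trans hx.symm)]
  have hEe : E e6 = L.ι (tr (1, 0, 0)) := by rw [hE e6 eA6.2]; exact hφe
  have hEr : E r6 = L.ι ⟨0, 9⟩ := by rw [hE r6 rA6.2]; exact hφr
  have hE1 : E 1 = 1 := by rw [hE 1 (one_mem _)]; exact map_one φ'
  refine ⟨⟨φ, ?_, ?_, ?_⟩⟩
  · rw [injective_iff_map_eq_one]
    intro σ hσ
    have hs := hpres σ
    obtain ⟨⟨p, q⟩, hx⟩ : ∃ x, x = pre σ := ⟨_, rfl⟩
    rw [← hx] at hs
    have hσ' : Φ (p, q) = 1 := by rw [hx]; exact hσ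
    have key : ∀ p q, sign p = 1 → core p q * a = a * core p q := fun p q hp => by
      show E p * a ^ (q 0).val * a = a * (E p * a ^ (q 0).val)
      rw [hE p (mem_alternatingGroup.mpr hp), mul_assoc, ← pow_succ, pow_succ', ← mul_assoc, hcomm, mul_assoc]
    by_cases h1 : sign q = 1
    · have hp := heven q p hs h1
      change (if sign q = 1 then core p q else _) = 1 at hσ'
      rw [if_pos h1] at hσ'
      have hσ2 : E p * a ^ (q 0).val = 1 := hσ'
      rw [hE p (mem_alternatingGroup.mpr hp)] at hσ2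
      obtain ⟨p₀, hp₀⟩ : φ' ⟨p, mem_alternatingGroup.mpr hp⟩ ∈ S.φ.range := hrange ▸ ⟨_, rfl⟩
      obtain ⟨hk, hp1⟩ := S.disj p₀ ⟨(2 * (q 0).val) % 3, Nat.mod_lt _ (by norm_num)⟩ (by
        show S.φ p₀ = L.ι (tr (((2 * (q 0).val) % 3) • aV))
        rw [hp₀, eq_inv_of_mul_eq_one_left hσ2, ← smul_mod, ← tr_pow, map_pow, ← ha]
        refine inv_eq_of_mul_eq_one_right ?_
        rw [← pow_add, hapow _ 0 (by omega), pow_zero])
      have hp2 : p = 1 := congrArg Subtype.val (show (⟨p, mem_alternatingGroup.mpr hp⟩ : alternatingGroup (Fin 6)) = 1 from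
        hinj (by rw [← hp₀, hp1, map_one, map_one]))
      have hq : q = 1 := by
        have hk' : (2 * (q 0).val) % 3 = 0 := congrArg Fin.val hk
        have hlt := (q 0).isLt
        rw [three_parts q h1, show (q 0).val = 0 by omega, pow_zero]
      refine Subtype.ext ?_
      rw [← hpre σ, ← hx, hp2, hq]
      exact map_one inc63
    · exfalso
      change (if sign q = 1 then _ else core (p * pJ) (q * swap 0 1) * j) = 1 at hσ'
      rw [if_neg h1] at hσ'
      have hc : core (p * pJ) (q * swap 0 1) = j := by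
        rw [eq_inv_of_mul_eq_one_left hσ', inv_eq_of_mul_eq_one_right hj2]
      have hk := key (p * pJ) (q * swap 0 1) (hodd q p hs h1).1
      rw [hc] at hk
      rw [show j * a * j⁻¹ = a from mul_inv_eq_iff_eq_mul.mpr hk, ha, ← map_inv] at hja
      exact (by decide +kernel : (tr aV : HM) ≠ (tr aV)⁻¹) (L.inj hja)
  · -- agreement
    let θφ : ∀ h : HM, theta h ∈ M2 → G := fun h hh => φ ⟨theta h, hh⟩
    have hbase : ∀ h, h ∈ DA → ∀ hh : theta h ∈ M2, φ ⟨theta h, hh⟩ = L.ι h := by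
      have he : theta (tr (1, 0, 0)) ∈ M2 := by decide +kernel
      have hr : theta ⟨0, 9⟩ ∈ M2 := by decide +kernel
      have he' : φ ⟨_, he⟩ = L.ι (tr (1, 0, 0)) := by
        rw [hφ _ (e6, 1) theta_gens63.1.symm]
        show (if sign (1 : Perm (Fin 3)) = 1 then E e6 * a ^ 0 else _) = _
        rw [if_pos (map_one _), pow_zero, mul_one, hEe]
      have hr' : φ ⟨_, hr⟩ = L.ι ⟨0, 9⟩ := by
        rw [hφ _ (r6, 1) theta_gens63.2.1.symm]
        show (if sign (1 : Perm (Fin 3)) = 1 then E r6 * a ^ 0 else _) = _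
        rw [if_pos (map_one _), pow_zero, mul_one, hEr]
      intro h hD hh
      obtain ⟨i, k, l, rfl⟩ := DA_words h hD
      rw [show (⟨theta _, hh⟩ : M2) = (⟨_, he⟩ : M2) ^ i.val * ((⟨_, hr⟩ : M2) * ⟨_, he⟩ * (⟨_, hr⟩ : M2)⁻¹) ^ k.val *
        (⟨_, hr⟩ : M2) ^ l.val from Subtype.ext (by simp only [map_mul, map_pow, map_inv]; rfl)]
      simp only [map_mul, map_pow, map_inv, he', hr']
    have hda : theta (tr aV) ∈ M2 := by decide +kernel
    have hdj : theta hJ ∈ M2 := by decide +kernel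
    have ha' : φ ⟨_, hda⟩ = a := by
      rw [hφ _ (1, swap 0 1 * swap 1 2) theta_gens63.2.2.1.symm]
      show (if sign (swap (0 : Fin 3) 1 * swap 1 2) = 1 then E 1 * a ^ 1 else _) = _
      rw [if_pos (by decide), hE1, one_mul, pow_one]
    have hj' : φ ⟨_, hdj⟩ = j := by
      rw [hφ _ (pJ, swap 0 1) theta_gens63.2.2.2.symm]
      show (if sign (swap (0 : Fin 3) 1) = 1 then _ else E (pJ * pJ) * a ^ ((swap (0 : Fin 3) 1 * swap 0 1 : Perm (Fin 3)) 0).val * j) = _
      rw [if_neg (by decide), pJ_spec.2.1, hE1, hsw, one_mul]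
      show a ^ 0 * j = j
      rw [pow_zero, one_mul]
    have hcent : ∀ h : HM, h * tr aV = tr aV * h → ∀ hh : theta h ∈ M2, φ ⟨theta h, hh⟩ = L.ι h := by
      intro h hc hh
      obtain ⟨hr, k, hk⟩ := alpha_split h hc
      have hD : h * tr (k.val • aV) ∈ DA :=
        ⟨by show act (rMul h.g 0) aV = aV; rw [(rMul_one h.g).2]; exact hr, hk⟩
      have hh2 : theta (h * tr (k.val • aV)) ∈ M2 := by
        rw [map_mul, aV_pow, map_pow]; exact mul_mem hh (pow_mem hda _)
      have e := hbase _ hD hh2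
      rw [show (⟨theta _, hh2⟩ : M2) = (⟨theta h, hh⟩ : M2) * ⟨_, hda⟩ ^ k.val from Subtype.ext (by
        show theta (h * tr (k.val • aV)) = theta h * theta (tr aV) ^ k.val
        rw [map_mul, aV_pow, map_pow]), map_mul, map_pow, ha', map_mul L.ι, aV_pow, map_pow] at e
      exact mul_right_cancel e
    intro h hh
    rcases stab_words h (fun i => hh.2 i) with hc | hc
    · exact hcent h hc hh
    · have hh2 : theta (h * hJ) ∈ M2 := by rw [map_mul]; exact mul_mem hh hdj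
      have e := hcent _ hc hh2
      rw [show (⟨theta _, hh2⟩ : M2) = (⟨theta h, hh⟩ : M2) * ⟨_, hdj⟩ from Subtype.ext (map_mul theta _ _),
        map_mul, hj', map_mul L.ι] at e
      exact mul_right_cancel e
  · -- everything normalizing the translation is reached
    have hcen : ∀ g : G, g * a = a * g → ∃ σ : M2, φ σ = g := by
      intro g hg
      obtain ⟨p, k, hp⟩ := S.split g hg
      obtain ⟨p', hp'⟩ : S.φ p ∈ φ'.range := hrange.symm ▸ ⟨p, rfl⟩
      have hs : sign (p' : Perm (Fin 6)) * sign ((swap (0 : Fin 3) 1 * swap 1 2) ^ k.val) = 1 := by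
        rw [mem_alternatingGroup.mp p'.2, one_mul, map_pow, show sign (swap (0 : Fin 3) 1 * swap 1 2) = 1 by decide,
          one_pow]
      refine ⟨⟨_, inc63_mem (x := ((p' : Perm (Fin 6)), _)) hs⟩, ?_⟩
      rw [hφ _ _ rfl]
      show (if sign ((swap (0 : Fin 3) 1 * swap 1 2) ^ k.val) = 1 then
        E p' * a ^ (((swap (0 : Fin 3) 1 * swap 1 2) ^ k.val : Perm (Fin 3)) 0).val else _) = g
      rw [if_pos (by rw [map_pow, show sign (swap (0 : Fin 3) 1 * swap 1 2) = 1 by decide, one_pow]),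
        hE _ p'.2, hp', hp, (by decide : ∀ k : Fin 3, (((swap (0 : Fin 3) 1 * swap 1 2) ^ k.val : Perm (Fin 3)) 0).val = k.val) k,
        ← tr_pow, map_pow]
    intro g hg
    rcases hg with hg | hg
    · exact hcen g (mul_inv_eq_iff_eq_mul.mp hg)
    · obtain ⟨σ, hσ⟩ := hcen (g * j) (by
        refine mul_inv_eq_iff_eq_mul.mp ?_
        calc g * j * a * (g * j)⁻¹ = g * (j * a * j⁻¹) * g⁻¹ := by group
          _ = (g * a * g⁻¹)⁻¹ := by rw [hja]; group
          _ = a := by rw [hg, inv_inv])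
      have hdj : theta hJ ∈ M2 := by decide +kernel
      refine ⟨σ * ⟨_, hdj⟩, ?_⟩
      rw [map_mul, hσ, hφ _ (pJ, swap 0 1) theta_gens63.2.2.2.symm]
      show g * j * (if sign (swap (0 : Fin 3) 1) = 1 then _ else E (pJ * pJ) * a ^ ((swap (0 : Fin 3) 1 * swap 0 1 : Perm (Fin 3)) 0).val * j) = _
      rw [if_neg (by decide), pJ_spec.2.1, hE1, hsw, one_mul]
      show g * j * (a ^ 0 * j) = g
      rw [pow_zero, one_mul, mul_assoc, hj2, mul_one]

end CfsgLib.A9Three
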