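import Cfsg.Agent.Lib.A9Three.Cross

set_option autoImplicit false
set_option maxRecDepth 8000
set_option maxHeartbeats 400000
set_option synthInstance.maxSize 2000

/-!
The three copies of the stabilizer of a block generate an alternating group of degree nine.
-/

namespace CfsgLib.A9Three

open CfsgLib.A9Local Equiv Equiv.Perm CfsgLib.ShortPres

universe u

/-- The third points of Carmichael's three-cycles. -/
abbrev pt7 (i : Fin 7) : Fin 9 := ⟨i.val + 2, by omega⟩

/-- Carmichael's three-cycles. -/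
abbrev cl (i : Fin 7) : Perm (Fin 9) := cyc3 0 1 (pt7 i)

theorem cl_facts : ∀ i : Fin 7, cl i * cl i * cl i = 1 ∧ (i.val < 4 → InBlk 1 (cl i)) ∧
    (i = 0 ∨ 4 ≤ i.val → InBlk r1 (cl i)) := by decide +kernel

theorem cl_pair : ∀ i j : Fin 7, i ≠ j → (cl i * cl j) ^ 2 = 1 := by decide +kernel

theorem cl_shift : ∀ i j : Fin 7, 1 ≤ i.val → i.val < 4 → 4 ≤ j.val → ∃ k l : Fin 3,
    theta (tr (0, (k.val : ZMod 3), (l.val : ZMod 3))) * cyc3 0 1 3 * (theta (tr (0, (k.val : ZMod 3), (l.val : ZMod 3))))⁻¹ = cl i ∧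
    theta (tr (0, (k.val : ZMod 3), (l.val : ZMod 3))) * cyc3 0 1 8 * (theta (tr (0, (k.val : ZMod 3), (l.val : ZMod 3))))⁻¹ = cl j ∧
    theta ((tr (0, (k.val : ZMod 3), (l.val : ZMod 3)) * 1)⁻¹ * 1) ∈ M2 ∧
    theta ((tr (0, (k.val : ZMod 3), (l.val : ZMod 3)) * r1)⁻¹ * r1) ∈ M2 := by decide +kernel

/-- The first six points. -/
abbrev front : Set (Fin 9) := {c | c.val < 6}

/-- The first and the last block. -/
abbrev outer : Set (Fin 9) := {c | c.val < 3 ∨ 6 ≤ c.val}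

theorem inc63_fix : ∀ p : Perm (Fin 6), ∀ c : Fin 9, ¬ c.val < 6 → inc63 (p, 1) c = c := by decide +kernel

theorem q_cases : ∀ q : Perm (Fin 3), ∃ k : Fin 3, ∃ e : Fin 2,
    q * ((swap 0 1 * swap 1 2) ^ k.val * swap 0 1 ^ e.val) = 1 := by decide +kernel

theorem outer_elems : (z9 : Perm (Fin 9)) ∈ altOn outer ∧ (swap 0 1 * swap 6 7 : Perm (Fin 9)) ∈ altOn outer ∧
    (swap 0 6 * swap 1 7 * swap 2 8 * swap 7 8 : Perm (Fin 9)) ∈ altOn outer := by
  simp only [mem_altOn]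
  decide +kernel

/-- The element exchanging the first and the last block. -/
theorem cC_spec : ∃ c : HM, theta c = swap 0 6 * swap 1 7 * swap 2 8 * swap 7 8 ∧ InBlk r1 (theta c) := by
  decide +kernel

theorem cC_blocks : ∀ h : HM, theta h ∈ M2 ∨ swap 0 6 * swap 1 7 * swap 2 8 * swap 7 8 * theta h ∈ M2 ∨
    swap 0 6 * swap 1 7 * swap 2 8 * swap 7 8 * theta ⟨(0, 0, 1), 8⟩ * theta h ∈ M2 := by decide +kernel

theorem cC_cosets (c : HM) (hc : theta c = swap 0 6 * swap 1 7 * swap 2 8 * swap 7 8) (h : HM) :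
    theta h ∈ M2 ∨ theta (c * h) ∈ M2 ∨ theta (c * ⟨(0, 0, 1), 8⟩ * h) ∈ M2 := by
  rw [map_mul, map_mul, map_mul, hc]
  exact cC_blocks h

variable {G : Type u} [Group G] [Finite G] {L : Loc G} (F : Frame L)

theorem fourU_iso : Nonempty (fourU.K F ⧸ fourU.V F ≃* alternatingGroup (Fin 5)) :=
  (fourU_cases F).resolve_left (fourU_not_small F)

/-- The images of Carmichael's three-cycles. -/
noncomputable def Frame.X (i : Fin 7) : G := if i.val < 4 then F.val 1 (cl i) else F.val r1 (cl i)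

theorem Frame.X_one {i : Fin 7} (hi : i.val < 4) : F.X i = F.val 1 (cl i) := if_pos hi

theorem Frame.X_r1 {i : Fin 7} (hi : i = 0 ∨ 4 ≤ i.val) : F.X i = F.val r1 (cl i) := by
  rcases hi with rfl | hi
  · rw [F.X_one (by decide), show cl 0 = fourU.π by decide +kernel, F.val_e0 (by decide +kernel),
      F.val_e0 (by decide +kernel)]
  · exact if_neg (by omega)

theorem Frame.X_carm : Carm F.X := by
  refine ⟨fun i => ?_, fun i j hij => ?_⟩
  · obtain ⟨h3, h1, hr⟩ := cl_facts i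
    rw [pow_succ, pow_two]
    by_cases hi : i.val < 4
    · rw [F.X_one hi, ← F.val_mul (h1 hi) (h1 hi), ← F.val_mul ((h1 hi).mul (h1 hi)) (h1 hi), h3, F.val_one]
    · have hi' : i = 0 ∨ 4 ≤ i.val := Or.inr (by omega)
      rw [F.X_r1 hi', ← F.val_mul (hr hi') (hr hi'), ← F.val_mul ((hr hi').mul (hr hi')) (hr hi'), h3, F.val_one]
  · obtain ⟨-, hi1, hir⟩ := cl_facts i
    obtain ⟨-, hj1, hjr⟩ := cl_facts j
    have hsame : ∀ r, InBlk r (cl i) → InBlk r (cl j) → F.X i = F.val r (cl i) → F.X j = F.val r (cl j) →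
        (F.X i * F.X j) ^ 2 = 1 := fun r hi hj ei ej => by
      rw [ei, ej, ← F.val_mul hi hj, ← (F.val_pow (hi.mul hj) 2).2, cl_pair i j hij, F.val_one]
    have hmix : ∀ a b : Fin 7, 1 ≤ a.val → a.val < 4 → 4 ≤ b.val → (F.X a * F.X b) ^ 2 = 1 := by
      intro a b ha1 ha4 hb
      obtain ⟨k, l, ea, eb, hb1, hbr⟩ := cl_shift a b ha1 ha4 hb
      set d := tr (0, (k.val : ZMod 3), (l.val : ZMod 3))
      have h1 := (F.val_move (h := d) (inBlk_one.mpr (by decide +kernel : cyc3 (0 : Fin 9) 1 3 ∈ M2)) hb1).2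
      have h2 := (F.val_move (h := d) (show InBlk r1 (cyc3 (0 : Fin 9) 1 8) by decide +kernel) hbr).2
      rw [ea] at h1
      rw [eb] at h2
      obtain ⟨e⟩ := fourU_iso F
      rw [F.X_one ha4, F.X_r1 (Or.inr hb), h1, h2,
        show L.ι d * F.val 1 (cyc3 0 1 3) * (L.ι d)⁻¹ * (L.ι d * F.val r1 (cyc3 0 1 8) * (L.ι d)⁻¹) =
          L.ι d * (F.val 1 (cyc3 0 1 3) * F.val r1 (cyc3 0 1 8)) * (L.ι d)⁻¹ by group,
        conj_pow, cross_relation F e]
      group
    by_cases hi : i.val < 4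
    · by_cases hj : j.val < 4
      · exact hsame 1 (hi1 hi) (hj1 hj) (F.X_one hi) (F.X_one hj)
      · have hj' : j = 0 ∨ 4 ≤ j.val := Or.inr (by omega)
        by_cases hi0 : i = 0
        · exact hsame r1 (hir (Or.inl hi0)) (hjr hj') (F.X_r1 (Or.inl hi0)) (F.X_r1 hj')
        · exact hmix i j (Nat.pos_of_ne_zero fun e => hi0 (Fin.ext e)) hi (by omega)
    · have hi' : i = 0 ∨ 4 ≤ i.val := Or.inr (by omega)
      by_cases hj : j.val < 4
      · by_cases hj0 : j = 0
        · exact hsame r1 (hir hi') (hjr (Or.inl hj0)) (F.X_r1 hi') (F.X_r1 (Or.inl hj0))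
        · have := hmix j i (Nat.pos_of_ne_zero fun e => hj0 (Fin.ext e)) hj (by omega)
          calc (F.X i * F.X j) ^ 2 = F.X i * (F.X j * F.X i) ^ 2 * (F.X i)⁻¹ := by rw [pow_two, pow_two]; group
            _ = 1 := by rw [this]; group
      · have hj' : j = 0 ∨ 4 ≤ j.val := Or.inr (by omega)
        exact hsame r1 (hir hi') (hjr hj') (F.X_r1 hi') (F.X_r1 hj')

/-- The alternating group inside, compatible with the model and with the copies. -/
theorem Frame.exists_alt : ∃ φ : alternatingGroup (Fin 9) →* G, Function.Injective φ ∧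
    (∀ h : HM, φ ⟨theta h, mem_alternatingGroup.mpr (theta_even h)⟩ = L.ι h) ∧
    ∀ (r : HM) (σ : Perm (Fin 9)) (hs : σ ∈ alternatingGroup (Fin 9)), InBlk r σ → φ ⟨σ, hs⟩ = F.val r σ := by
  have hinj7 : Function.Injective pt7 := fun i j h => Fin.ext (by simpa [Fin.ext_iff] using h)
  obtain ⟨φ₀, hφ₀⟩ := F.X_carm.exists_hom (α := Fin 9) (a := 0) (b := 1) (e := pt7) hinj7 (by decide)
    (by decide) (by decide)
  have hX : ∀ c : Fin 9, c ∈ insert (0 : Fin 9) (insert 1 (Set.range pt7)) := by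
    intro c
    rcases (by decide : ∀ c : Fin 9, c = 0 ∨ c = 1 ∨ ∃ i : Fin 7, pt7 i = c) c with rfl | rfl | ⟨i, rfl⟩
    · exact Set.mem_insert _ _
    · exact Set.mem_insert_of_mem _ (Set.mem_insert _ _)
    · exact Set.mem_insert_of_mem _ (Set.mem_insert_of_mem _ ⟨i, rfl⟩)
  have hle : alternatingGroup (Fin 9) ≤ altOn (insert (0 : Fin 9) (insert 1 (Set.range pt7))) := fun σ hσ =>
    mem_altOn.mpr ⟨fun c hc => absurd (hX c) hc, mem_alternatingGroup.mp hσ⟩
  obtain ⟨φ, hφ⟩ : ∃ φ : alternatingGroup (Fin 9) →* G, ∀ i (hs : cl i ∈ alternatingGroup (Fin 9)),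
      φ ⟨cl i, hs⟩ = F.X i := ⟨φ₀.comp (Subgroup.inclusion hle), fun i hs => hφ₀ i⟩
  refine ⟨φ, ?_⟩
  -- agreement on a copy is closed under products
  let S : HM → Subgroup (Perm (Fin 9)) := fun r =>
    { carrier := {σ | ∃ hs : σ ∈ alternatingGroup (Fin 9), InBlk r σ ∧ φ ⟨σ, hs⟩ = F.val r σ}
      mul_mem' := by
        rintro a b ⟨ha, hai, hae⟩ ⟨hb, hbi, hbe⟩
        exact ⟨mul_mem ha hb, hai.mul hbi, by
          rw [F.val_mul hai hbi, ← hae, ← hbe, ← map_mul]; rfl⟩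
      one_mem' := ⟨one_mem _, InBlk.one r, by
        rw [F.val_one, show (⟨1, one_mem _⟩ : alternatingGroup (Fin 9)) = 1 from rfl, map_one]⟩
      inv_mem' := by
        rintro a ⟨ha, hai, hae⟩
        exact ⟨inv_mem ha, hai.inv, by rw [F.val_inv hai, ← hae, ← map_inv]; rfl⟩ }
  have hcl : ∀ i : Fin 7, cl i ∈ alternatingGroup (Fin 9) := fun i =>
    mem_alternatingGroup.mpr (sign_cyc3 (by decide) (fun e => absurd (congrArg Fin.val e) (by simp)))
  have hfront : altOn front ≤ S 1 := by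
    refine (altOn_le_closure (show (0 : Fin 9) ∈ front by decide) (show (1 : Fin 9) ∈ front by decide)
      (by decide)).trans ((Subgroup.closure_le _).mpr ?_)
    rintro _ ⟨x, hx, hx0, hx1, rfl⟩
    obtain ⟨i, hi, rfl⟩ := (by decide : ∀ x : Fin 9, x.val < 6 → x ≠ 0 → x ≠ 1 →
      ∃ i : Fin 7, i.val < 4 ∧ pt7 i = x) x hx hx0 hx1
    exact ⟨hcl i, (cl_facts i).2.1 hi, by rw [hφ i, F.X_one hi]⟩
  have houter : altOn outer ≤ S r1 := by
    refine (altOn_le_closure (show (0 : Fin 9) ∈ outer by decide) (show (1 : Fin 9) ∈ outer by decide)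
      (by decide)).trans ((Subgroup.closure_le _).mpr ?_)
    rintro _ ⟨x, hx, hx0, hx1, rfl⟩
    obtain ⟨i, hi, rfl⟩ := (by decide : ∀ x : Fin 9, (x.val < 3 ∨ 6 ≤ x.val) → x ≠ 0 → x ≠ 1 →
      ∃ i : Fin 7, (i = 0 ∨ 4 ≤ i.val) ∧ pt7 i = x) x hx hx0 hx1
    exact ⟨hcl i, (cl_facts i).2.2 hi, by rw [hφ i, F.X_r1 hi]⟩
  -- elements of the model in both copies
  have hboth : ∀ h : HM, theta h ∈ M2 → theta h ∈ altOn outer → InBlk r1 (theta h) → theta h ∈ S 1 := by
    intro h hM ho hI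
    obtain ⟨hs, -, he⟩ := houter ho
    exact ⟨hs, inBlk_one.mpr hM, by rw [he, F.val_theta hI, F.val_theta (inBlk_one.mpr hM)]⟩
  have hz : z9 ∈ S 1 := by
    rw [← z9_eq]
    exact hboth _ (by decide +kernel) (by rw [z9_eq]; exact outer_elems.1) (by decide +kernel)
  have hJ' : (swap 0 1 * swap 6 7 : Perm (Fin 9)) ∈ S 1 := by
    rw [← hInv_eq]
    exact hboth _ (by decide +kernel) (by rw [hInv_eq]; exact outer_elems.2.1) (by decide +kernel)
  have hM2 : M2 ≤ S 1 := by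
    intro σ hσ
    obtain ⟨⟨p, q⟩, rfl⟩ := exists_inc63 hσ
    obtain ⟨k, e, hq⟩ := q_cases q
    obtain ⟨w, hw⟩ : ∃ w, w = (z9 ^ k.val * (swap 0 1 * swap 6 7) ^ e.val : Perm (Fin 9)) := ⟨_, rfl⟩
    have hwS : w ∈ S 1 := hw ▸ mul_mem (pow_mem hz _) (pow_mem hJ' _)
    have hwi : w = inc63 (swap 0 1 ^ e.val, (swap 0 1 * swap 1 2) ^ k.val * swap 0 1 ^ e.val) := by
      rw [hw, show z9 = inc63 (1, swap 0 1 * swap 1 2) by decide +kernel,
        show (swap 0 1 * swap 6 7 : Perm (Fin 9)) = inc63 (swap 0 1, swap 0 1) by decide +kernel,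
        ← map_pow, ← map_pow, ← map_mul]
      congr 1
      simp
    have hprod : inc63 (p, q) * w = inc63 (p * swap 0 1 ^ e.val, 1) := by
      rw [hwi, ← map_mul]
      exact congrArg inc63 (Prod.ext rfl hq)
    have hmem : inc63 (p, q) * w ∈ altOn front := by
      refine mem_altOn.mpr ⟨fun c hc => by rw [hprod]; exact inc63_fix _ c hc, ?_⟩
      obtain ⟨hws, -, -⟩ := hwS
      rw [map_mul, hσ.1, mem_alternatingGroup.mp hws, mul_one]
    have := mul_mem (hfront hmem) (inv_mem hwS)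
    rwa [mul_inv_cancel_right] at this
  -- agreement on the model
  let E : Subgroup HM :=
    { carrier := {h | φ ⟨theta h, mem_alternatingGroup.mpr (theta_even h)⟩ = L.ι h}
      mul_mem' := by
        intro a b ha hb
        show φ _ = _
        rw [map_mul L.ι, ← ha, ← hb, ← map_mul]
        exact congrArg φ (Subtype.ext (map_mul theta a b))
      one_mem' := by
        show φ _ = _
        rw [map_one L.ι, ← map_one φ]
        exact congrArg φ (Subtype.ext (map_one theta))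
      inv_mem' := by
        intro a ha
        show φ _ = _
        rw [map_inv L.ι, ← ha, ← map_inv]
        exact congrArg φ (Subtype.ext (map_inv theta a)) }
  have hEM : ∀ h : HM, theta h ∈ M2 → h ∈ E := by
    intro h hh
    obtain ⟨hs, -, he⟩ := hM2 hh
    exact he.trans (F.val_theta (inBlk_one.mpr hh))
  obtain ⟨c, hc, hcI⟩ := cC_spec
  have hcE : c ∈ E := by
    obtain ⟨hs, -, he⟩ := houter (hc ▸ outer_elems.2.2 : theta c ∈ altOn outer)
    exact he.trans (F.val_theta hcI)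
  have ha : (⟨(0, 0, 1), 8⟩ : HM) ∈ E := hEM _ (by decide +kernel)
  have hE : ∀ h, h ∈ E := by
    intro h
    rcases cC_cosets c hc h with h1 | h1 | h1
    · exact hEM h h1
    · have := mul_mem (inv_mem hcE) (hEM _ h1)
      rwa [inv_mul_cancel_left] at this
    · have := mul_mem (inv_mem (mul_mem hcE ha)) (hEM _ h1)
      rwa [inv_mul_cancel_left] at this
  refine ⟨?_, hE, ?_⟩
  · haveI : IsSimpleGroup (alternatingGroup (Fin 9)) := alternatingGroup.isSimpleGroup (by simp)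
    rcases IsSimpleGroup.eq_bot_or_eq_top_of_normal _ (MonoidHom.normal_ker φ) with h | h
    · exact (MonoidHom.ker_eq_bot_iff φ).mp h
    · exfalso
      have h1 : φ ⟨theta (tr (1, 0, 0)), mem_alternatingGroup.mpr (theta_even _)⟩ = 1 :=
        (MonoidHom.mem_ker).mp (h ▸ Subgroup.mem_top _)
      rw [show φ _ = L.ι _ from hE (tr (1, 0, 0))] at h1
      exact (by decide +kernel : (tr (1, 0, 0) : HM) ≠ 1) (L.inj (h1.trans (map_one _).symm))
  · intro r σ hs hσ
    obtain ⟨τ, hτ⟩ : ∃ τ, τ = (theta r)⁻¹ * σ * theta r := ⟨_, rfl⟩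
    have hτM : τ ∈ M2 := hτ ▸ hσ
    obtain ⟨hτs, -, he⟩ := hM2 hτM
    have e1 : (⟨σ, hs⟩ : alternatingGroup (Fin 9)) =
        ⟨theta r, mem_alternatingGroup.mpr (theta_even r)⟩ * ⟨τ, hτs⟩ *
          (⟨theta r, mem_alternatingGroup.mpr (theta_even r)⟩)⁻¹ :=
      Subtype.ext (by show σ = theta r * τ * (theta r)⁻¹; rw [hτ]; group)
    rw [e1, map_mul, map_mul, map_inv, he, show φ _ = L.ι r from hE r]
    show L.ι r * F.val 1 τ * (L.ι r)⁻¹ = F.val r σ
    rw [← F.val_shift 1 r τ, mul_one, hτ]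
    exact congrArg (F.val r) (by group)

end CfsgLib.A9Three
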