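import Cfsg.Agent.Lib.A9Three.CentT
import Cfsg.Agent.Lib.SelfCentThree.Parts

set_option autoImplicit false
set_option maxRecDepth 8000
set_option maxHeartbeats 400000
set_option synthInstance.maxSize 2000

/-!
The two classes of involutions and the control of the first one by the embedded alternating group.
-/

namespace CfsgLib.A9Three

open CfsgLib.A9Local Equiv Equiv.Perm

universe u

/-- The involution moving eight points, as a permutation. -/
abbrev s9 : Perm (Fin 9) := swap 0 3 * swap 1 4 * swap 2 5 * swap 6 7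

theorem s9_basics : sign s9 = 1 ∧ s9 * s9 = 1 ∧ s9 ≠ 1 ∧ s9 * swap 0 3 = swap 0 3 * s9 ∧
    fourU.v1 * swap 0 1 = swap 0 1 * fourU.v1 := by decide +kernel

theorem cycleType_two {σ : Perm (Fin 9)} (h2 : σ * σ = 1) (h1 : σ ≠ 1) :
    ∃ n, σ.cycleType = Multiset.replicate (n + 1) 2 ∧ σ.support.card = 2 * (n + 1) := by
  haveI := Fact.mk Nat.prime_two
  have ho : orderOf σ = 2 := orderOf_eq_prime (by rw [pow_two, h2]) h1
  obtain ⟨n, hn⟩ := cycleType_prime_order (σ := σ) (by rw [ho]; exact Nat.prime_two)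
  rw [ho] at hn
  refine ⟨n, hn, ?_⟩
  rw [← sum_cycleType, hn, Multiset.sum_replicate, smul_eq_mul, mul_comm]

theorem cycleType_v1 : fourU.v1.cycleType = Multiset.replicate 2 2 := by
  obtain ⟨n, hn, hc⟩ := cycleType_two fourU.sq1 fourU.ne1
  rw [show fourU.v1.support.card = 4 by decide +kernel] at hc
  rw [hn, show n + 1 = 2 by omega]

theorem cycleType_s9 : s9.cycleType = Multiset.replicate 4 2 := by
  obtain ⟨n, hn, hc⟩ := cycleType_two s9_basics.2.1 s9_basics.2.2.1
  rw [show s9.support.card = 8 by decide +kernel] at hc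
  rw [hn, show n + 1 = 4 by omega]

/-- Conjugate permutations are conjugate by an even one when an odd one centralizes. -/
theorem exists_even_conj {σ τ d : Perm (Fin 9)} (h : σ.cycleType = τ.cycleType) (hd : sign d = -1)
    (hc : τ * d = d * τ) : ∃ k, sign k = 1 ∧ k * σ * k⁻¹ = τ := by
  obtain ⟨k, hk⟩ := isConj_iff.mp (isConj_iff_cycleType_eq.mpr h)
  rcases Int.units_eq_one_or (sign k) with hs | hs
  · exact ⟨k, hs, hk⟩
  · refine ⟨d * k, by rw [map_mul, hd, hs]; rfl, ?_⟩
    rw [show d * k * σ * (d * k)⁻¹ = d * (k * σ * k⁻¹) * d⁻¹ by group, hk, ← hc, mul_inv_cancel_right]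

/-- The two classes of involutions. -/
theorem invol_nine {σ : Perm (Fin 9)} (hs : sign σ = 1) (h2 : σ * σ = 1) (h1 : σ ≠ 1) :
    ∃ k, sign k = 1 ∧ (k * σ * k⁻¹ = fourU.v1 ∨ k * σ * k⁻¹ = s9) := by
  obtain ⟨n, hn, hc⟩ := cycleType_two h2 h1
  have h9 := σ.sum_cycleType_le
  rw [hn, Multiset.sum_replicate, smul_eq_mul, Fintype.card_fin] at h9
  rw [sign_of_cycleType, hn, Multiset.sum_replicate, Multiset.card_replicate, smul_eq_mul] at hs
  have : n = 1 ∨ n = 3 := by
    have : n ≤ 3 := by omega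
    interval_cases n
    · exact absurd hs (by decide)
    · exact Or.inl rfl
    · exact absurd hs (by decide)
    · exact Or.inr rfl
  rcases this with rfl | rfl
  · obtain ⟨k, hk, e⟩ := exists_even_conj (hn.trans cycleType_v1.symm) (sign_swap (by decide : (0 : Fin 9) ≠ 1))
      s9_basics.2.2.2.2
    exact ⟨k, hk, Or.inl e⟩
  · obtain ⟨k, hk, e⟩ := exists_even_conj (hn.trans cycleType_s9.symm) (sign_swap (by decide : (0 : Fin 9) ≠ 3))
      s9_basics.2.2.2.1
    exact ⟨k, hk, Or.inr e⟩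

variable {G : Type u} [Group G] [Finite G] {L : Loc G} {F : Frame L} (B : Big F)

theorem Big.at_s9 : B.at' s9 = L.ι hS := by
  rw [← B.at_theta, hS_eq]

/-- The two classes are not fused. -/
theorem Big.not_fused (g : G) : g * B.at' fourU.v1 * g⁻¹ ≠ B.at' s9 := by
  intro e
  refine not_comm_s F g ?_
  have h := (FourPerm.im_commute F z9_mem fourU.m1 fourU.z1).map (MulAut.conj g).toMonoidHom
  simp only [MulEquiv.coe_toMonoidHom, MulAut.conj_apply] at h
  rw [show FourPerm.im F z9 = L.ι (tr aV) from F.val_z, ← B.at_im fourU.m1, e, B.at_s9] at h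
  exact h

/-- Conjugation of an involution moving four points into the subgroup happens in the subgroup. -/
theorem Big.ctrl {g : G} (h : g * B.at' fourU.v1 * g⁻¹ ∈ B.R) : g ∈ B.R := by
  obtain ⟨σ, hs, hσ⟩ := B.exists_at h
  have su : sign fourU.v1 = 1 := fourU.m1.1
  have h2 : σ * σ = 1 := B.at_inj (by rw [map_mul, hs, mul_one]) (map_one _) (by
    rw [B.at_mul hs hs, hσ, B.at_one,
      show g * B.at' fourU.v1 * g⁻¹ * (g * B.at' fourU.v1 * g⁻¹) = g * (B.at' fourU.v1 * B.at' fourU.v1) * g⁻¹ by group,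
      ← B.at_mul su su, fourU.sq1, B.at_one]
    group)
  have h1 : σ ≠ 1 := fun e => fourU.ne1 (B.at_inj su (map_one _) (by
    rw [e, B.at_one] at hσ
    rw [B.at_one]; exact conj_eq_one_iff.mp hσ.symm))
  obtain ⟨k, hk, hc⟩ := invol_nine hs h2 h1
  have hc' : B.at' k * g * B.at' fourU.v1 * (B.at' k * g)⁻¹ = B.at' (k * σ * k⁻¹) := by
    rw [B.at_conj hk hs, hσ]; group
  rcases hc with e | e <;> rw [e] at hc'
  · have := B.cent_u (g₀ := B.at' k * g) (mul_inv_eq_iff_eq_mul.mp hc')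
    have := mul_mem (inv_mem (B.at_mem k)) this
    rwa [inv_mul_cancel_left] at this
  · exact absurd hc' (B.not_fused _)

/-- The centralizer of an involution conjugate to the first one. -/
theorem Big.cent_four {σ : Perm (Fin 9)} (hs : sign σ = 1) {k : Perm (Fin 9)} (hk : sign k = 1)
    (he : k * σ * k⁻¹ = fourU.v1) {g : G} (hg : Commute g (B.at' σ)) : g ∈ B.R := by
  have h := hg.map (MulAut.conj (B.at' k)).toMonoidHom
  simp only [MulEquiv.coe_toMonoidHom, MulAut.conj_apply] at h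
  rw [← B.at_conj hk hs, he] at h
  have := mul_mem (mul_mem (inv_mem (B.at_mem k)) (B.cent_u h)) (B.at_mem k)
  rwa [show (B.at' k)⁻¹ * (B.at' k * g * (B.at' k)⁻¹) * B.at' k = g by group] at this

/-- A two-subgroup containing an involution of the first class lies in the subgroup. -/
theorem Big.two_le {σ : Perm (Fin 9)} (hs : sign σ = 1) {k : Perm (Fin 9)} (hk : sign k = 1)
    (he : k * σ * k⁻¹ = fourU.v1) {P : Subgroup G} (hP : IsPGroup 2 P) (hσP : B.at' σ ∈ P) : P ≤ B.R := by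
  haveI := Fact.mk Nat.prime_two
  by_contra hle
  have hlt : P ⊓ B.R < P := lt_of_le_of_ne inf_le_left fun e => hle (e ▸ inf_le_right)
  obtain ⟨g, hgN, hg⟩ := SetLike.exists_of_lt (SelfCentThree.normalizer_grows hP hlt)
  refine hg ⟨hgN.1, ?_⟩
  have h1 : g * B.at' σ * g⁻¹ ∈ B.R :=
    ((Subgroup.mem_normalizer_iff.mp hgN.2 _).mp ⟨hσP, B.at_mem σ⟩).2
  have e1 : B.at' σ = (B.at' k)⁻¹ * B.at' fourU.v1 * B.at' k := by
    rw [← he, B.at_conj hk hs]; group
  have h2 := B.ctrl (g := g * (B.at' k)⁻¹) (by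
    rw [show g * (B.at' k)⁻¹ * B.at' fourU.v1 * (g * (B.at' k)⁻¹)⁻¹ =
      g * ((B.at' k)⁻¹ * B.at' fourU.v1 * B.at' k) * g⁻¹ by group, ← e1]
    exact h1)
  have := mul_mem h2 (B.at_mem k)
  rwa [inv_mul_cancel_right] at this

end CfsgLib.A9Three
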