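import Cfsg.Agent.Lib.A9Local.Frame
import Cfsg.Agent.S0659
import Cfsg.Agent.Lib.SelfCentThree.Basic

set_option autoImplicit false
set_option synthInstance.maxSize 2000

/-!
The three-local data of the alternating group of degree nine: the Sylow 3-subgroup and the centralizer of
a translation moving all blocks.
-/

namespace CfsgLib.A9Three

open CfsgLib.A9Local

universe u

/-- The local data. -/
structure Loc (G : Type u) [Group G] where
  /-- the identification of the normalizer of the translations -/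
  ι : HM →* G
  inj : Function.Injective ι
  norm : Subgroup.normalizer ((transl.map ι : Subgroup G) : Set G) = ι.range
  cores : ∀ k : HM, k.g = 0 → k ≠ 1 → Cfsg.pPrimeCore 3 (Subgroup.centralizer ({ι k} : Set G)) = ⊥

/-- A translation by a vector. -/
abbrev tr (v : Vec) : HM := ⟨v, 0⟩

/-- The translation moving all three blocks. -/
abbrev xiH : HM := tr (1, 1, 1)

/-- The translation moving two blocks. -/
abbrev betaH : HM := tr (1, 1, 0)

/-- The translation moving the last block. -/
abbrev alphaH : HM := tr (0, 0, 1)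

/-- The Sylow 3-subgroup of the model, as the rotations it contains. -/
def inP (g : Fin 24) : Bool := g == 0 || g == 12 || g == rMul 12 12

theorem inP_mul : ∀ a b : Fin 24, inP a = true → inP b = true → inP (rMul a b) = true := by decide +kernel

theorem inP_inv : ∀ a : Fin 24, inP a = true → inP (rInv a) = true := by decide +kernel

/-- The Sylow 3-subgroup of the model. -/
def PM : Subgroup HM where
  carrier := {h | inP h.g = true}
  mul_mem' {a b} ha hb := inP_mul a.g b.g ha hb
  one_mem' := rfl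
  inv_mem' {a} ha := inP_inv a.g ha

instance : DecidablePred (· ∈ PM) := fun h => decidable_of_iff (inP h.g = true) Iff.rfl

theorem card_PM : Nat.card PM = 81 := by
  rw [Nat.card_eq_fintype_card (α := PM)]
  decide +kernel

theorem PM_noncomm : (⟨0, 12⟩ : HM) * tr (1, 0, 0) ≠ tr (1, 0, 0) * (⟨0, 12⟩ : HM) := by decide +kernel

theorem transl_le_PM : transl ≤ PM := fun h (hh : h.g = 0) => show inP h.g = true by rw [hh]; rfl

theorem cent_xi : ∀ h : HM, h * xiH = xiH * h ↔ inP h.g = true := by decide +kernel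

theorem sylow_norm : ∀ h : HM, cube (cube h) = 1 → (∀ g : Fin 24, inP g = true →
    inP (rMul (rMul h.g g) (rInv h.g)) = true) → inP h.g = true := by decide +kernel

variable {G : Type u} [Group G]

namespace Loc

variable (L : Loc G)

/-- The translations in the group. -/
abbrev J : Subgroup G := transl.map L.ι

/-- The Sylow 3-subgroup in the group. -/
abbrev P : Subgroup G := PM.map L.ι

theorem P_le : L.P ≤ L.ι.range := Subgroup.map_le_range _ _

theorem card_J : Nat.card L.J = 27 := by rw [Subgroup.card_map_of_injective L.inj, card_transl]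

theorem card_P : Nat.card L.P = 81 := by rw [Subgroup.card_map_of_injective L.inj, card_PM]

theorem J_comm : ∀ a ∈ L.J, ∀ b ∈ L.J, a * b = b * a := by
  rintro _ ⟨x, hx, rfl⟩ _ ⟨y, hy, rfl⟩
  rw [← map_mul, ← map_mul]
  obtain ⟨v, r⟩ := x
  obtain ⟨w, s⟩ := y
  replace hx : r = 0 := hx
  replace hy : s = 0 := hy
  subst hx hy
  refine congrArg L.ι ?_
  show (⟨_, _⟩ : HM) = ⟨_, _⟩
  simp [act_one, add_comm]

theorem J_le_P : L.J ≤ L.P := Subgroup.map_mono transl_le_PM

/-- A large abelian subgroup of the Sylow subgroup is the group of translations. -/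
theorem eq_J {A : Subgroup G} (hA : A ≤ L.P) (hc : ∀ a ∈ A, ∀ b ∈ A, a * b = b * a) (h27 : 27 ≤ Nat.card A) :
    A = L.J := by
  haveI : Finite L.P := Nat.finite_of_card_ne_zero (by rw [L.card_P]; norm_num)
  haveI : Finite A := Finite.of_injective (Subgroup.inclusion hA) (Subgroup.inclusion_injective hA)
  have hd : Nat.card A ∣ 81 := L.card_P ▸ Subgroup.card_dvd_of_le hA
  have h : Nat.card A = 27 ∨ Nat.card A = 81 := by
    rw [show (81 : ℕ) = 3 ^ 4 from rfl] at hd
    obtain ⟨k, hk, e⟩ := (Nat.dvd_prime_pow Nat.prime_three).mp hd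
    rw [e] at h27 ⊢
    interval_cases k <;> simp_all
  rcases h with h | h
  · exact comap_eq_transl L.inj (hA.trans L.P_le) hc h
  · exfalso
    have e : A = L.P := Subgroup.eq_of_le_of_card_ge hA (by rw [h, L.card_P])
    refine PM_noncomm (L.inj ?_)
    rw [map_mul, map_mul]
    exact hc _ (e ▸ ⟨_, show inP 12 = true from rfl, rfl⟩) _ (e ▸ ⟨_, show inP 0 = true from rfl, rfl⟩)

variable [Finite G]

/-- A three-subgroup of the group containing the Sylow subgroup of the model is equal to it. -/
theorem eq_P {Q : Subgroup G} (hQ : IsPGroup 3 Q) (hPQ : L.P ≤ Q) : Q = L.P := by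
  haveI : Fact (Nat.Prime 3) := ⟨Nat.prime_three⟩
  by_contra hne
  have hlt : L.P < Q := lt_of_le_of_ne hPQ (Ne.symm hne)
  haveI : Group.IsNilpotent Q := hQ.isNilpotent
  have hlt' : L.P.subgroupOf Q < ⊤ :=
    lt_top_iff_ne_top.mpr fun e => hne (le_antisymm (Subgroup.subgroupOf_eq_top.mp e) hPQ)
  obtain ⟨g, hgn, hg⟩ := SetLike.exists_of_lt (Group.normalizerCondition_of_isNilpotent _ hlt')
  have hnorm : ∀ z, z ∈ L.P → (g : G) * z * (g : G)⁻¹ ∈ L.P := fun z hz =>
    (Subgroup.mem_normalizer_iff.mp hgn ⟨z, hPQ hz⟩).mp hz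
  have hJ : L.J.map (MulAut.conj (g : G)).toMonoidHom = L.J := by
    refine L.eq_J (by rintro _ ⟨z, hz, rfl⟩; exact hnorm z (L.J_le_P hz)) ?_ ?_
    · rintro _ ⟨a, ha, rfl⟩ _ ⟨b, hb, rfl⟩
      rw [← map_mul, ← map_mul, L.J_comm a ha b hb]
    · rw [Subgroup.card_map_of_injective (MulAut.conj (g : G)).injective, L.card_J]
  have hgN : (g : G) ∈ L.ι.range := by
    rw [← L.norm, Subgroup.mem_normalizer_iff]
    intro z
    refine ⟨fun hz => ?_, fun hz => ?_⟩
    · have : (g : G) * z * (g : G)⁻¹ ∈ L.J.map (MulAut.conj (g : G)).toMonoidHom := ⟨z, hz, rfl⟩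
      rwa [hJ] at this
    replace hz : (g : G) * z * (g : G)⁻¹ ∈ L.J := hz
    rw [← hJ] at hz
    obtain ⟨w, hw, e⟩ := hz
    exact mul_left_cancel (mul_right_cancel (show (g : G) * w * (g : G)⁻¹ = g * z * (g : G)⁻¹ from e)) ▸ hw
  obtain ⟨h, hh⟩ := hgN
  refine hg ?_
  show (g : G) ∈ L.P
  refine hh ▸ ⟨h, sylow_norm h ?_ ?_, rfl⟩
  · obtain ⟨k, hk⟩ := hQ g
    have h9 : h ^ 9 = 1 := by
      have h3 : h ^ 3 ^ k = 1 := L.inj (by
        rw [map_pow, hh, map_one]; exact congrArg Subtype.val hk)
      have hd : orderOf h ∣ 3 ^ k := orderOf_dvd_of_pow_eq_one h3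
      have hd2 : orderOf h ∣ 648 := by
        have := orderOf_dvd_natCard h
        rwa [Nat.card_eq_fintype_card (α := HM), card_HM] at this
      have hd81 : orderOf h ∣ 81 := by
        have h8 : (orderOf h).Coprime 8 := Nat.Coprime.coprime_dvd_left hd (Nat.Coprime.pow_left k (by norm_num))
        exact h8.dvd_of_dvd_mul_left (show orderOf h ∣ 8 * 81 from hd2)
      have hP9 : ∀ y : HM, cube (cube (cube (cube y))) = 1 → cube (cube y) = 1 := by decide +kernel
      have := hP9 h (by
        simp only [cube_eq, ← pow_mul]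
        exact orderOf_dvd_iff_pow_eq_one.mp hd81)
      rwa [cube_eq, cube_eq, ← pow_mul] at this
    rw [cube_eq, cube_eq, ← pow_mul]
    exact h9
  · intro r hr
    obtain ⟨k, hk, hke⟩ := hnorm (L.ι ⟨0, r⟩) ⟨_, hr, rfl⟩
    rw [← hh, ← map_inv, ← map_mul, ← map_mul] at hke
    have e := congrArg HM.g (L.inj hke)
    change k.g = rMul (rMul h.g r) (rInv h.g) at e
    rw [← e]; exact hk

/-- The centralizer of a translation moving all three blocks is the Sylow subgroup. -/
theorem cent_xi_eq : Subgroup.centralizer ({L.ι xiH} : Set G) = L.P := by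
  haveI : Fact (Nat.Prime 3) := ⟨Nat.prime_three⟩
  set C := Subgroup.centralizer ({L.ι xiH} : Set G) with hC
  have hPC : L.P ≤ C := by
    rintro _ ⟨h, hh, rfl⟩
    rw [hC, Subgroup.mem_centralizer_singleton_iff, ← map_mul, ← map_mul, (cent_xi h).mpr hh]
  obtain ⟨S, hS⟩ := (IsPGroup.of_card (p := 3) (n := 4) (G := L.P.subgroupOf C) (by
    rw [Nat.card_congr (Subgroup.subgroupOfEquivOfLe hPC).toEquiv, L.card_P]; norm_num)).exists_le_sylow
  have hSP : (S : Subgroup C).map C.subtype = L.P := L.eq_P (S.2.map _) fun z hz =>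
    ⟨⟨z, hPC hz⟩, hS (show (⟨z, hPC hz⟩ : C) ∈ L.P.subgroupOf C from hz), rfl⟩
  set JS : Subgroup (S : Subgroup C) := (L.J.subgroupOf C).subgroupOf (S : Subgroup C) with hJS
  have hmemJS : ∀ z : (S : Subgroup C), z ∈ JS ↔ ((z : C) : G) ∈ L.J := fun z => Iff.rfl
  have hJC : L.J ≤ C := L.J_le_P.trans hPC
  have hJS' : L.J.subgroupOf C ≤ (S : Subgroup C) := fun z hz => hS (L.J_le_P hz)
  have hcardJS : Nat.card JS = 27 := by
    rw [hJS, Nat.card_congr (Subgroup.subgroupOfEquivOfLe hJS').toEquiv,
      Nat.card_congr (Subgroup.subgroupOfEquivOfLe hJC).toEquiv, L.card_J]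
  have hcommJS : IsMulCommutative JS := ⟨⟨fun a b => Subtype.ext (Subtype.ext (Subtype.ext
    (L.J_comm _ ((hmemJS _).mp a.2) _ ((hmemJS _).mp b.2))))⟩⟩
  have hmax : Cfsg.maxAbelianSubgroups (S : Subgroup C) = {JS} := by
    have hbig : ∀ B : Subgroup (S : Subgroup C), IsMulCommutative B → 27 ≤ Nat.card B → B = JS := by
      intro B hB hcard
      set B' : Subgroup G := (B.map (S : Subgroup C).subtype).map C.subtype with hB'
      have e : B' = L.J := L.eq_J (by
          rw [hB', ← hSP]; exact Subgroup.map_mono (Subgroup.map_subtype_le _))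
        (by
          rintro _ ⟨_, ⟨a, ha, rfl⟩, rfl⟩ _ ⟨_, ⟨b, hb, rfl⟩, rfl⟩
          exact congrArg (fun z : (S : Subgroup C) => ((z : C) : G))
            (congrArg Subtype.val (hB.is_comm.comm (⟨a, ha⟩ : B) ⟨b, hb⟩)))
        (by rw [hB', Subgroup.card_map_of_injective C.subtype_injective,
          Subgroup.card_map_of_injective (S : Subgroup C).subtype_injective]; exact hcard)
      refine Subgroup.eq_of_le_of_card_ge (fun z hz => (hmemJS z).mpr (e ▸ ⟨_, ⟨z, hz, rfl⟩, rfl⟩)) ?_
      rw [hcardJS]; exact hcard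
    ext B
    simp only [Cfsg.maxAbelianSubgroups, Set.mem_setOf_eq, Set.mem_singleton_iff]
    constructor
    · rintro ⟨hB, hBmax⟩
      exact hbig B hB (hcardJS ▸ hBmax JS hcommJS)
    · rintro rfl
      refine ⟨hcommJS, fun D hD => ?_⟩
      by_contra h
      have := hbig D hD (by omega)
      subst this
      omega
  have hcenter : Cfsg.centerThompsonAOf (S : Subgroup C) = L.J.subgroupOf C := by
    have e : Cfsg.thompsonSubgroupAOf (S : Subgroup C) = L.J.subgroupOf C := by
      rw [Cfsg.thompsonSubgroupAOf, Cfsg.thompsonSubgroupA, hmax, sSup_singleton, hJS,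
        Subgroup.map_subgroupOf_eq_of_le hJS']
    rw [Cfsg.centerThompsonAOf, e, inf_eq_left]
    exact fun z hz => Subgroup.mem_centralizer_iff.mpr fun w hw => Subtype.ext (L.J_comm _ hw _ hz)
  have hNp : Cfsg.HasNormalPComplement 3
      ↥(Subgroup.normalizer ((Cfsg.centerThompsonAOf (S : Subgroup C) : Subgroup C) : Set C)) := by
    have hp : IsPGroup 3 ↥(Subgroup.normalizer ((Cfsg.centerThompsonAOf (S : Subgroup C) : Subgroup C) : Set C)) := by
      refine IsPGroup.of_injective S.2 (Subgroup.inclusion fun n hn => ?_) (Subgroup.inclusion_injective _)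
      rw [hcenter] at hn
      have hnJ : (n : G) ∈ Subgroup.normalizer (L.J : Set G) := by
        rw [Subgroup.mem_normalizer_iff]
        intro z
        refine ⟨fun hz => (Subgroup.mem_normalizer_iff.mp hn ⟨z, hJC hz⟩).mp hz, fun hz => ?_⟩
        have hzC : z ∈ C := by
          have := mul_mem (mul_mem (inv_mem n.2) (hJC hz)) n.2
          simpa [mul_assoc] using this
        exact (Subgroup.mem_normalizer_iff.mp hn ⟨z, hzC⟩).mpr hz
      rw [L.norm] at hnJ
      obtain ⟨h, hh⟩ := hnJ
      refine hS (show (n : G) ∈ L.P from hh ▸ ⟨h, (cent_xi h).mp (L.inj ?_), rfl⟩)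
      rw [map_mul, map_mul, hh]
      exact Subgroup.mem_centralizer_singleton_iff.mp n.2
    obtain ⟨Q⟩ := (inferInstance : Nonempty (Sylow 3
      ↥(Subgroup.normalizer ((Cfsg.centerThompsonAOf (S : Subgroup C) : Subgroup C) : Set C))))
    refine ⟨Q, ⊥, inferInstance, ?_⟩
    have hQtop := (Q.3 (hp.to_subgroup ⊤) le_top).symm
    rw [hQtop]
    exact Subgroup.isComplement'_bot_top
  obtain ⟨Q, N, hN, hcompl⟩ := Cfsg.Agent.S0659.result (by norm_num) S hNp
  haveI := hN
  have hNcop : (Nat.card N).Coprime 3 := by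
    rw [Nat.coprime_comm, Nat.prime_three.coprime_iff_not_dvd]
    have := hcompl.index_eq_card (H := (N : Subgroup C))
    intro h
    have h2 := hcompl.card_mul
    have hQi := Q.not_dvd_index
    apply hQi
    have h3 := (Q : Subgroup C).card_mul_index
    have : (Q : Subgroup C).index = Nat.card N := by
      apply Nat.eq_of_mul_eq_mul_left (Nat.card_pos (α := (Q : Subgroup C)))
      rw [h3, ← h2, mul_comm]
    rw [this]; exact h
  have hN1 : N = ⊥ := by
    have := CfsgLib.le_pPrimeCore hNcop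
    rwa [L.cores xiH (by decide +kernel) (by decide +kernel), le_bot_iff] at this
  have hQtop : (Q : Subgroup C) = ⊤ := by
    have := hcompl.sup_eq_top
    rwa [hN1, bot_sup_eq] at this
  have hStop : (S : Subgroup C) = ⊤ := Subgroup.eq_top_of_card_eq _ (by
    rw [S.card_eq_multiplicity, ← Q.card_eq_multiplicity, hQtop, Subgroup.card_top])
  rw [← hSP, hStop, ← MonoidHom.range_eq_map, Subgroup.range_subtype]

end Loc

end CfsgLib.A9Three
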