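import Cfsg.Agent.Lib.A9Three.FourU
import Cfsg.Agent.Lib.A9Three.Classes

set_option autoImplicit false
set_option maxRecDepth 8000
set_option synthInstance.maxSize 2000

/-!
The centralizer of the four-group on four points is not contained in the normalizer of the short translation.
-/

namespace CfsgLib.A9Three

open CfsgLib.A9Local Equiv Equiv.Perm

universe u

variable {G : Type u} [Group G] [Finite G] {L : Loc G} (F : Frame L)

/-- An element mapping one four-group into another small one normalizes the short translation. -/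
theorem FourPerm.norm_of_maps {D D' : FourPerm} (hS : D'.Small F) {g : G}
    (h1 : g * FourPerm.im F D.v1 * g⁻¹ ∈ Subgroup.closure ({FourPerm.im F D'.v1, FourPerm.im F D'.v2} : Set G))
    (h2 : g * FourPerm.im F D.v2 * g⁻¹ ∈ Subgroup.closure ({FourPerm.im F D'.v1, FourPerm.im F D'.v2} : Set G)) :
    g * FourPerm.im F z9 * g⁻¹ = FourPerm.im F z9 ∨ g * FourPerm.im F z9 * g⁻¹ = (FourPerm.im F z9)⁻¹ := by
  obtain ⟨a, ha⟩ : ∃ a, a = g * FourPerm.im F D.v1 * g⁻¹ := ⟨_, rfl⟩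
  obtain ⟨b, hb⟩ : ∃ b, b = g * FourPerm.im F D.v2 * g⁻¹ := ⟨_, rfl⟩
  rw [← ha] at h1
  rw [← hb] at h2
  have hne1 : a ≠ 1 := fun e => D.ne1 (FourPerm.im_inj F D.m1 (one_mem _)
    (by rw [FourPerm.im_one]; exact conj_eq_one_iff.mp (ha ▸ e)))
  have hne2 : b ≠ 1 := fun e => D.ne2 (FourPerm.im_inj F D.m2 (one_mem _)
    (by rw [FourPerm.im_one]; exact conj_eq_one_iff.mp (hb ▸ e)))
  have hne : a ≠ b := fun e => D.ne (FourPerm.im_inj F D.m1 D.m2
    (mul_left_cancel (mul_right_cancel (by rw [ha, hb] at e; exact e))))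
  obtain ⟨hz1, hz2⟩ := (D.mem_K F).mp (D.zK F).2
  set z := FourPerm.im F z9 with hz
  obtain ⟨w, hw⟩ : ∃ w, w = g * z * g⁻¹ := ⟨_, rfl⟩
  have hwa : Commute w a := by rw [hw, ha]; exact hz1.map (MulAut.conj g).toMonoidHom
  have hwb : Commute w b := by rw [hw, hb]; exact hz2.map (MulAut.conj g).toMonoidHom
  have hwK : w ∈ D'.K F := by
    -- the two images generate the second four-group
    have hboth : Commute w (FourPerm.im F D'.v1) ∧ Commute w (FourPerm.im F D'.v2) := by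
      set p := FourPerm.im F D'.v1
      set q := FourPerm.im F D'.v2
      have hp2 : p * p = 1 := by
        show FourPerm.im F D'.v1 * FourPerm.im F D'.v1 = 1
        rw [← FourPerm.im_mul F D'.m1 D'.m1, D'.sq1, FourPerm.im_one]
      have hq2 : q * q = 1 := by
        show FourPerm.im F D'.v2 * FourPerm.im F D'.v2 = 1
        rw [← FourPerm.im_mul F D'.m2 D'.m2, D'.sq2, FourPerm.im_one]
      have k1 : a = p ∨ a = q ∨ a = p * q := ((D'.closure_cases F).mp h1).resolve_left hne1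
      have k2 : b = p ∨ b = q ∨ b = p * q := ((D'.closure_cases F).mp h2).resolve_left hne2
      have e1 : p * (p * q) = q := by rw [← mul_assoc, hp2, one_mul]
      have e2 : p * q * q = p := by rw [mul_assoc, hq2, mul_one]
      rcases k1 with ea | ea | ea <;> rcases k2 with eb | eb | eb <;> rw [ea] at hwa hne <;> rw [eb] at hwb hne
      · exact absurd rfl hne
      · exact ⟨hwa, hwb⟩
      · exact ⟨hwa, e1 ▸ hwa.mul_right hwb⟩
      · exact ⟨hwb, hwa⟩
      · exact absurd rfl hne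
      · exact ⟨e2 ▸ hwb.mul_right hwa, hwa⟩
      · exact ⟨hwb, e1 ▸ hwb.mul_right hwa⟩
      · exact ⟨e2 ▸ hwa.mul_right hwb, hwb⟩
      · exact absurd rfl hne
    exact (D'.mem_K F).mpr hboth
  have hw3 : w ^ 3 = 1 := by
    rw [hw, conj_pow, FourPerm.im_z_pow, mul_one, mul_inv_cancel]
  have hcomm : Commute w z := by
    rcases hS w hwK with e | e
    · exact mul_inv_eq_iff_eq_mul.mp e
    · exfalso
      have e2 : w * (w * z * w⁻¹) * w⁻¹ = z := by rw [e, ← conj_inv, e, inv_inv]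
      have e3 : w ^ 3 * z * (w ^ 3)⁻¹ = z⁻¹ := by
        calc w ^ 3 * z * (w ^ 3)⁻¹ = w * (w * (w * z * w⁻¹) * w⁻¹) * w⁻¹ := by rw [pow_three]; group
          _ = z⁻¹ := by rw [e2, e]
      rw [hw3, one_mul, inv_one, mul_one] at e3
      have hzz : z * z = 1 := by nth_rw 1 [e3]; exact inv_mul_cancel z
      have h3 : z ^ 3 = 1 := FourPerm.im_z_pow F
      rw [pow_succ, pow_two, hzz, one_mul] at h3
      exact FourPerm.z_ne_one F h3
  obtain ⟨k, v, hv, e⟩ := D'.comm_z F hwK hcomm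
  have hv2 : v ^ 2 = 1 := by
    have := D'.V_sq F (v := ⟨v, D'.closure_le_K F hv⟩) hv
    rw [pow_two]; exact congrArg Subtype.val this
  have hv1 : v = 1 := by
    have h3 : v ^ 3 = 1 := by
      have h := hw3
      rw [e, ((D'.V_comm_z F hv).pow_right _).mul_pow, ← pow_mul, mul_comm k.val 3, pow_mul, FourPerm.im_z_pow,
        one_pow, mul_one] at h
      exact h
    rwa [pow_succ, hv2, one_mul] at h3
  rw [hv1, one_mul] at e
  rw [← hw, e]
  rcases (by decide : ∀ k : Fin 3, k.val = 0 ∨ k.val = 1 ∨ k.val = 2) k with hk | hk | hk <;> rw [hk]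
  · exfalso
    rw [hk, pow_zero, hw] at e
    exact FourPerm.z_ne_one F (conj_eq_one_iff.mp e)
  · exact Or.inl (pow_one z)
  · refine Or.inr ?_
    rw [eq_inv_iff_mul_eq_one, ← pow_succ]
    exact FourPerm.im_z_pow F

/-- The central involution `(0 2)(1 3)`. -/
abbrev c9 : Perm (Fin 9) := swap 0 2 * swap 1 3

/-- The central involution `(4 5)(6 7)`. -/
abbrev t9 : Perm (Fin 9) := swap 4 5 * swap 6 7

/-- A representative of a two-subgroup of order sixteen. -/
def inT (σ : Perm (Fin 9)) : Prop := σ ∈ M2 ∧ σ * c9 = c9 * σ ∧ σ * t9 = t9 * σ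

theorem T_pair : ∀ x : Perm (Fin 6) × Perm (Fin 3), sign x.1 * sign x.2 = 1 → inc63 x * c9 = c9 * inc63 x →
    inc63 x * t9 = t9 * inc63 x → (inc63 x) ^ 4 = 1 ∧
      (inc63 x * inc63 x = 1 ∨ inc63 x * inc63 x = c9) ∧
      (inc63 x * inc63 x = 1 → inc63 x = 1 ∨ inc63 x = c9 ∨ inc63 x = t9 ∨ inc63 x = c9 * t9 ∨
        inc63 x = fourU.v1 ∨ inc63 x = fourU.v2 ∨ inc63 x = fourU.v1 * t9 ∨ inc63 x = fourU.v2 * t9 ∨
        inc63 x = fourR.v2 ∨ inc63 x = fourR.v1 * fourR.v2 ∨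
        inc63 x = fourR.v2 * t9 ∨ inc63 x = fourR.v1 * fourR.v2 * t9) := by decide +kernel

theorem T_facts : inT c9 ∧ inT t9 ∧ inT fourU.v1 ∧ inT fourR.v2 ∧ inT (swap 0 1 * swap 1 2 * swap 2 3 * swap 4 5) ∧
    (swap 0 1 * swap 1 2 * swap 2 3 * swap 4 5) * (swap 0 1 * swap 1 2 * swap 2 3 * swap 4 5) = c9 ∧
    fourU.v1 * fourR.v2 ≠ fourR.v2 * fourU.v1 := by
  unfold inT
  decide +kernel

variable (hSm : fourU.Small F)

include hSm in
theorem fourU_not_small : False := by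
  haveI := Fact.mk Nat.prime_two
  let TM : Subgroup (Perm (Fin 9)) := M2 ⊓ Subgroup.centralizer {c9, t9}
  have hTM : ∀ σ, σ ∈ TM ↔ inT σ := by
    intro σ
    rw [Subgroup.mem_inf, Subgroup.mem_centralizer_iff]
    constructor
    · rintro ⟨h1, h2⟩
      exact ⟨h1, (h2 _ (Or.inl rfl)).symm, (h2 _ (Or.inr rfl)).symm⟩
    · rintro ⟨h1, h2, h3⟩
      refine ⟨h1, ?_⟩
      rintro y (rfl | rfl)
      exacts [h2.symm, h3.symm]
  let T : Subgroup G := (TM.subgroupOf M2).map F.φ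
  have himT : ∀ σ, inT σ → FourPerm.im F σ ∈ T := fun σ h =>
    ⟨⟨σ, h.1⟩, (hTM σ).mpr h, (F.val_one_eq h.1).symm⟩
  have hTim : ∀ g ∈ T, ∃ σ, inT σ ∧ g = FourPerm.im F σ := by
    rintro _ ⟨σ, hσ, rfl⟩
    exact ⟨σ, (hTM σ).mp hσ, (F.val_one_eq σ.2).symm⟩
  have hpair : ∀ σ, inT σ → σ ^ 4 = 1 ∧ (σ * σ = 1 ∨ σ * σ = c9) ∧
      (σ * σ = 1 → σ = 1 ∨ σ = c9 ∨ σ = t9 ∨ σ = c9 * t9 ∨
        σ = fourU.v1 ∨ σ = fourU.v2 ∨ σ = fourU.v1 * t9 ∨ σ = fourU.v2 * t9 ∨
        σ = fourR.v2 ∨ σ = fourR.v1 * fourR.v2 ∨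
        σ = fourR.v2 * t9 ∨ σ = fourR.v1 * fourR.v2 * t9) := by
    intro σ hσ
    obtain ⟨x, rfl⟩ := exists_inc63 hσ.1
    exact T_pair x (by rw [← sign_inc63]; exact hσ.1.1) hσ.2.1 hσ.2.2
  have hT2 : IsPGroup 2 T := by
    intro g
    obtain ⟨σ, hσ, e⟩ := hTim g g.2
    refine ⟨2, Subtype.ext ?_⟩
    rw [Subgroup.coe_pow, e, ← FourPerm.im_pow F hσ.1, show (2 : ℕ) ^ 2 = 4 from rfl, (hpair σ hσ).1, FourPerm.im_one]
    rfl
  obtain ⟨hc, ht, hu, hr, hq, hqq, huv⟩ := T_facts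
  set c := FourPerm.im F c9 with hcdef
  set t := FourPerm.im F t9 with htdef
  -- conjugacy of `c` and `t`
  obtain ⟨γ, hγ⟩ : ∃ γ : G, γ * c * γ⁻¹ = t := by
    obtain ⟨h, k, hh, hk, hkM⟩ : ∃ h k : HM, theta h * (swap 1 2 * swap 4 5) * (theta h)⁻¹ = t9 ∧
        theta k = swap 1 2 * swap 4 5 ∧ theta k ∈ M2 := by decide +kernel
    obtain ⟨p, hp, hpe⟩ : ∃ p : Perm (Fin 6), sign p = 1 ∧
        inc63 (p, 1) * c9 * (inc63 (p, 1))⁻¹ = swap 1 2 * swap 4 5 :=
      ⟨swap 0 1 * swap 1 4 * (swap 3 5 * swap 2 0), by decide +kernel, by decide +kernel⟩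
    have hσ : inc63 (p, 1) ∈ M2 := inc63_mem (by simp [hp])
    refine ⟨L.ι h * FourPerm.im F (inc63 (p, 1)), ?_⟩
    have e1 : FourPerm.im F (inc63 (p, 1)) * c * (FourPerm.im F (inc63 (p, 1)))⁻¹ = L.ι k := by
      rw [hcdef, ← F.val_theta (r := 1) (inBlk_one.mpr hkM), hk, ← hpe]
      exact (F.val_conj (inBlk_one.mpr hσ) (inBlk_one.mpr hc.1)).symm
    have hkk : theta (h * k * h⁻¹) = t9 := by rw [map_mul, map_mul, map_inv, hk, hh]
    have e2 : t = L.ι (h * k * h⁻¹) := by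
      rw [htdef, ← hkk]
      exact F.val_theta (inBlk_one.mpr (hkk ▸ ht.1))
    rw [e2, map_mul, map_mul L.ι, map_inv, ← e1]
    group
  -- the central involution is not conjugate to the product
  have hcs : ∀ g : G, g * c * g⁻¹ ≠ FourPerm.im F (c9 * t9) := by
    intro g e
    obtain ⟨p, q, hp, hpe⟩ : ∃ p : Perm (Fin 6), ∃ q : Perm (Fin 3), sign p * sign q = 1 ∧
        inc63 (p, q) * (c9 * t9) * (inc63 (p, q))⁻¹ = theta hS :=
      ⟨swap 2 3 * swap 3 4, 1, by decide +kernel, by decide +kernel⟩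
    have hσ := inc63_mem (x := (p, q)) hp
    have hsM : theta hS ∈ M2 := by decide +kernel
    have hct : (c9 * t9 : Perm (Fin 9)) ∈ M2 := mul_mem hc.1 ht.1
    have e1 : FourPerm.im F (inc63 (p, q)) * FourPerm.im F (c9 * t9) * (FourPerm.im F (inc63 (p, q)))⁻¹ = L.ι hS := by
      rw [← F.val_theta (r := 1) (inBlk_one.mpr hsM), ← hpe]
      exact (F.val_conj (inBlk_one.mpr hσ) (inBlk_one.mpr hct)).symm
    have hzc : Commute (FourPerm.im F z9) c := FourPerm.im_commute F z9_mem hc.1 (by decide +kernel)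
    refine not_comm_s F (FourPerm.im F (inc63 (p, q)) * g) ?_
    rw [← e1, ← e, ← F.val_z]
    have := hzc.map (MulAut.conj (FourPerm.im F (inc63 (p, q)) * g)).toMonoidHom
    simp only [MulEquiv.coe_toMonoidHom, MulAut.conj_apply] at this
    calc FourPerm.im F (inc63 (p, q)) * g * F.val 1 z9 * (FourPerm.im F (inc63 (p, q)) * g)⁻¹ *
          (FourPerm.im F (inc63 (p, q)) * (g * c * g⁻¹) * (FourPerm.im F (inc63 (p, q)))⁻¹)
        = FourPerm.im F (inc63 (p, q)) * g * FourPerm.im F z9 * (FourPerm.im F (inc63 (p, q)) * g)⁻¹ *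
          (FourPerm.im F (inc63 (p, q)) * g * c * (FourPerm.im F (inc63 (p, q)) * g)⁻¹) := by group
      _ = _ := this.eq
      _ = _ := by group
  -- a two-element normalizing the group fixes `c`
  have hfixc : ∀ g : G, (∀ x, x ∈ T ↔ g * x * g⁻¹ ∈ T) → g * c * g⁻¹ = c := by
    intro g hg
    set q := swap (0 : Fin 9) 1 * swap 1 2 * swap 2 3 * swap 4 5 with hqdef
    obtain ⟨σ, hσ, e⟩ := hTim _ ((hg _).mp (himT q hq))
    have e2 : g * c * g⁻¹ = FourPerm.im F (σ * σ) := by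
      rw [hcdef, ← hqq, FourPerm.im_mul F hq.1 hq.1, FourPerm.im_mul F hσ.1 hσ.1, ← e]; group
    rcases (hpair σ hσ).2.1 with h1 | h1 <;> rw [h1] at e2
    · rw [FourPerm.im_one] at e2
      exact absurd (conj_eq_one_iff.mp e2) fun hc1 => (by decide +kernel : c9 ≠ 1)
        (FourPerm.im_inj F hc.1 (one_mem _) (by rw [FourPerm.im_one]; exact hc1))
    · exact e2
  -- the group is a Sylow subgroup
  obtain ⟨S, hTS⟩ := hT2.exists_le_sylow
  have hST : (S : Subgroup G) = T := by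
    by_contra hne
    have hlt : T < (S : Subgroup G) := lt_of_le_of_ne hTS (Ne.symm hne)
    haveI : Group.IsNilpotent (S : Subgroup G) := S.2.isNilpotent
    have hlt' : T.subgroupOf (S : Subgroup G) < ⊤ :=
      lt_top_iff_ne_top.mpr fun e => hne (le_antisymm (Subgroup.subgroupOf_eq_top.mp e) hTS)
    obtain ⟨⟨g, hgS⟩, hgn, hgT⟩ := SetLike.exists_of_lt (Group.normalizerCondition_of_isNilpotent _ hlt')
    refine hgT (show g ∈ T from ?_)
    have hg : ∀ x, x ∈ T ↔ g * x * g⁻¹ ∈ T := fun x => by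
      constructor
      · exact fun hx => (Subgroup.mem_normalizer_iff.mp hgn ⟨x, hTS hx⟩).mp hx
      · intro hx
        have hxS : x ∈ (S : Subgroup G) := by
          have := mul_mem (mul_mem (inv_mem hgS) (hTS hx)) hgS
          simpa [mul_assoc] using this
        exact (Subgroup.mem_normalizer_iff.mp hgn ⟨x, hxS⟩).mpr hx
    have hgc := hfixc g hg
    have hcomm : ∀ σ τ, inT σ → inT τ → (σ * τ = τ * σ ↔ inT σ ∧ inT τ ∧
        FourPerm.im F σ * FourPerm.im F τ = FourPerm.im F τ * FourPerm.im F σ) := fun σ τ hσ hτ => by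
      constructor
      · exact fun e => ⟨hσ, hτ, (FourPerm.im_commute F hσ.1 hτ.1 e).eq⟩
      · rintro ⟨-, -, e⟩
        exact FourPerm.im_inj F (mul_mem hσ.1 hτ.1) (mul_mem hτ.1 hσ.1)
          (by rw [FourPerm.im_mul F hσ.1 hτ.1, FourPerm.im_mul F hτ.1 hσ.1, e])
    -- the images of the involutions
    have himg : ∀ τ, inT τ → τ * τ = 1 → ∃ σ, inT σ ∧ g * FourPerm.im F τ * g⁻¹ = FourPerm.im F σ ∧ σ * σ = 1 := by
      intro τ hτ hτ2
      obtain ⟨σ, hσ, e⟩ := hTim _ ((hg _).mp (himT τ hτ))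
      refine ⟨σ, hσ, e, FourPerm.im_inj F (mul_mem hσ.1 hσ.1) (one_mem _) ?_⟩
      rw [FourPerm.im_mul F hσ.1 hσ.1, FourPerm.im_one, ← e,
        show g * FourPerm.im F τ * g⁻¹ * (g * FourPerm.im F τ * g⁻¹) =
          g * (FourPerm.im F τ * FourPerm.im F τ) * g⁻¹ by group,
        ← FourPerm.im_mul F hτ.1 hτ.1, hτ2, FourPerm.im_one, mul_one, mul_inv_cancel]
    have hgt : g * t * g⁻¹ = t := by
      obtain ⟨σ, hσ, e, hσ2⟩ := himg t9 ht (by decide +kernel)
      have hcent : ∀ τ, inT τ → σ * τ = τ * σ := by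
        intro τ hτ
        refine FourPerm.im_inj F (mul_mem hσ.1 hτ.1) (mul_mem hτ.1 hσ.1) ?_
        rw [FourPerm.im_mul F hσ.1 hτ.1, FourPerm.im_mul F hτ.1 hσ.1, ← e]
        have hpre : g⁻¹ * FourPerm.im F τ * g ∈ T := (hg _).mpr (by
          rw [show g * (g⁻¹ * FourPerm.im F τ * g) * g⁻¹ = FourPerm.im F τ by group]; exact himT τ hτ)
        obtain ⟨τ', hτ', e'⟩ := hTim _ hpre
        have hc' := (FourPerm.im_commute F ht.1 hτ'.1 hτ'.2.2.symm).map (MulAut.conj g).toMonoidHom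
        rw [← e'] at hc'
        simp only [MulEquiv.coe_toMonoidHom, MulAut.conj_apply] at hc'
        rw [show g * (g⁻¹ * FourPerm.im F τ * g) * g⁻¹ = FourPerm.im F τ by group] at hc'
        exact hc'.eq
      have key : σ = 1 ∨ σ = c9 ∨ σ = t9 ∨ σ = c9 * t9 := by
        have h1 := hcent _ hu
        have h2 := hcent _ hr
        rcases (hpair σ hσ).2.2 hσ2 with h | h | h | h | h | h | h | h | h | h | h | h <;> subst h
        · exact Or.inl rfl
        · exact Or.inr (Or.inl rfl)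
        · exact Or.inr (Or.inr (Or.inl rfl))
        · exact Or.inr (Or.inr (Or.inr rfl))
        all_goals
          exfalso
          first
            | exact absurd h1 (by decide +kernel)
            | exact absurd h2 (by decide +kernel)
      rcases key with h | h | h | h <;> subst h
      · rw [FourPerm.im_one] at e
        exact absurd (conj_eq_one_iff.mp e) fun ht1 => (by decide +kernel : t9 ≠ 1)
          (FourPerm.im_inj F ht.1 (one_mem _) (by rw [FourPerm.im_one]; exact ht1))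
      · exfalso
        rw [← hcdef, ← hgc] at e
        exact (by decide +kernel : t9 ≠ c9) (FourPerm.im_inj F ht.1 hc.1 (mul_left_cancel (mul_right_cancel e)))
      · exact e
      · exfalso
        refine hcs (g * γ) ?_
        rw [← e, show FourPerm.im F t9 = γ * c * γ⁻¹ from hγ.symm]; group
    -- the image of a noncentral involution of the class
    have hclass : ∀ τ, inT τ → τ * τ = 1 → (∃ k : G, k * c * k⁻¹ = FourPerm.im F τ) →
        (∀ h1 : τ = c9 ∨ τ = t9, False) → τ ≠ 1 → τ ≠ c9 * t9 →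
        g * FourPerm.im F τ * g⁻¹ ∈ Subgroup.closure ({FourPerm.im F fourU.v1, FourPerm.im F fourU.v2} : Set G) ∨
        g * FourPerm.im F τ * g⁻¹ ∈ Subgroup.closure ({FourPerm.im F fourR.v1, FourPerm.im F fourR.v2} : Set G) ∨
        g * FourPerm.im F τ * g⁻¹ = FourPerm.im F (fourR.v2 * t9) ∨
        g * FourPerm.im F τ * g⁻¹ = FourPerm.im F (fourR.v1 * fourR.v2 * t9) := by
      intro τ hτ hτ2 hconj hnz h1 hct
      obtain ⟨σ, hσ, e, hσ2⟩ := himg τ hτ hτ2
      obtain ⟨k, hk⟩ := hconj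
      have hU : ∀ σ' : Perm (Fin 9), σ' = fourU.v1 * t9 ∨ σ' = fourU.v2 * t9 → σ ≠ σ' := by
        intro σ' hσ' he
        subst he
        obtain ⟨p, hp, hpe⟩ : ∃ p : Perm (Fin 6), sign p = 1 ∧ inc63 (p, 1) * σ * (inc63 (p, 1))⁻¹ = c9 * t9 := by
          rcases hσ' with rfl | rfl
          · exact ⟨swap 1 2 * swap 4 5, by decide +kernel, by decide +kernel⟩
          · exact ⟨swap 0 1 * swap 4 5, by decide +kernel, by decide +kernel⟩
        have hpM : inc63 (p, 1) ∈ M2 := inc63_mem (by simp [hp])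
        refine hcs (FourPerm.im F (inc63 (p, 1)) * g * k) ?_
        rw [← hpe, show FourPerm.im F (inc63 (p, 1) * σ * (inc63 (p, 1))⁻¹) = _ from
          F.val_conj (inBlk_one.mpr hpM) (inBlk_one.mpr hσ.1)]
        change _ = FourPerm.im F (inc63 (p, 1)) * FourPerm.im F σ * (FourPerm.im F (inc63 (p, 1)))⁻¹
        rw [← e, ← hk]; group
      have hfixed : ∀ ρ, ρ ∈ M2 → g * FourPerm.im F ρ * g⁻¹ = FourPerm.im F ρ → σ = ρ → τ = ρ := by
        intro ρ hρ hgρ he
        subst he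
        exact FourPerm.im_inj F hτ.1 hρ (mul_left_cancel (mul_right_cancel (e.trans hgρ.symm)))
      have hgct : g * FourPerm.im F (c9 * t9) * g⁻¹ = FourPerm.im F (c9 * t9) := by
        rw [FourPerm.im_mul F hc.1 ht.1,
          show g * (c * t) * g⁻¹ = g * c * g⁻¹ * (g * t * g⁻¹) by group, hgc, hgt]
      rcases (hpair σ hσ).2.2 hσ2 with h | h | h | h | h | h | h | h | h | h | h | h
      · exact absurd (hfixed 1 (one_mem _) (by rw [FourPerm.im_one, mul_one, mul_inv_cancel]) h) h1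
      · exact absurd (hfixed c9 hc.1 hgc h) fun h' => hnz (Or.inl h')
      · exact absurd (hfixed t9 ht.1 hgt h) fun h' => hnz (Or.inr h')
      · exact absurd (hfixed _ (mul_mem hc.1 ht.1) hgct h) hct
      · subst h; exact Or.inl ((fourU.closure_cases F).mpr (Or.inr (Or.inl e)))
      · subst h; exact Or.inl ((fourU.closure_cases F).mpr (Or.inr (Or.inr (Or.inl e))))
      · exact absurd h (hU _ (Or.inl rfl))
      · exact absurd h (hU _ (Or.inr rfl))
      · subst h; exact Or.inr (Or.inl ((fourR.closure_cases F).mpr (Or.inr (Or.inr (Or.inl e)))))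
      · subst h
        rw [FourPerm.im_mul F fourR.m1 fourR.m2] at e
        exact Or.inr (Or.inl ((fourR.closure_cases F).mpr (Or.inr (Or.inr (Or.inr e)))))
      · subst h; exact Or.inr (Or.inr (Or.inl e))
      · subst h; exact Or.inr (Or.inr (Or.inr e))
    have hcd : ∀ p : Perm (Fin 6), sign p = 1 → ∀ τ, inc63 (p, 1) * c9 * (inc63 (p, 1))⁻¹ = τ →
        ∃ k : G, k * c * k⁻¹ = FourPerm.im F τ := by
      intro p hp τ hτ
      refine ⟨FourPerm.im F (inc63 (p, 1)), ?_⟩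
      rw [← hτ]
      exact (F.val_conj (inBlk_one.mpr (inc63_mem (by simp [hp]))) (inBlk_one.mpr hc.1)).symm
    have hclU : g * c * g⁻¹ ∈ Subgroup.closure ({FourPerm.im F fourU.v1, FourPerm.im F fourU.v2} : Set G) := by
      rw [hgc]
      refine (fourU.closure_cases F).mpr (Or.inr (Or.inr (Or.inr ?_)))
      rw [hcdef, ← FourPerm.im_mul F fourU.m1 fourU.m2]
      exact congrArg _ (by decide +kernel)
    have hclR : g * c * g⁻¹ ∈ Subgroup.closure ({FourPerm.im F fourR.v1, FourPerm.im F fourR.v2} : Set G) := by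
      rw [hgc]; exact (fourR.closure_cases F).mpr (Or.inr (Or.inl rfl))
    -- second generator from the product with the central involution
    have hsecond : ∀ (V : Subgroup G) (a b : G), b = a * c → g * a * g⁻¹ ∈ V → g * c * g⁻¹ ∈ V → g * b * g⁻¹ ∈ V := by
      intro V a b hb h1 h2
      rw [hb, show g * (a * c) * g⁻¹ = g * a * g⁻¹ * (g * c * g⁻¹) by group]
      exact mul_mem h1 h2
    have hv2U : FourPerm.im F fourU.v2 = FourPerm.im F fourU.v1 * c := by
      rw [hcdef, ← FourPerm.im_mul F fourU.m1 hc.1]; exact congrArg _ (by decide +kernel)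
    have hnormz : g * FourPerm.im F z9 * g⁻¹ = FourPerm.im F z9 ∨
        g * FourPerm.im F z9 * g⁻¹ = (FourPerm.im F z9)⁻¹ := by
      rcases hclass _ hu fourU.sq1 (hcd (swap 1 2 * swap 4 5) (by decide +kernel) _ (by decide +kernel))
          (by decide +kernel) fourU.ne1 (by decide +kernel) with h | h | h
      · exact FourPerm.norm_of_maps F (D := fourU) hSm h (hsecond _ _ _ hv2U h hclU)
      · exact FourPerm.norm_of_maps F (D := fourU) (fourR_small F) h (hsecond _ _ _ hv2U h hclR)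
      rcases hclass _ hr fourR.sq2 (hcd (swap 0 1 * swap 1 4 * (swap 2 3 * swap 3 5)) (by decide +kernel) _ (by decide +kernel))
          (by decide +kernel) fourR.ne2 (by decide +kernel) with h' | h' | h'
      · exact FourPerm.norm_of_maps F (D := fourR) hSm hclU h'
      · exact FourPerm.norm_of_maps F (D := fourR) (fourR_small F) hclR h'
      exfalso
      have hcomm' : Commute (g * FourPerm.im F fourU.v1 * g⁻¹) (g * FourPerm.im F fourR.v2 * g⁻¹) := by
        have hab : Commute (FourPerm.im F (fourR.v2 * t9)) (FourPerm.im F (fourR.v1 * fourR.v2 * t9)) :=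
          FourPerm.im_commute F (mul_mem fourR.m2 ht.1) (mul_mem (mul_mem fourR.m1 fourR.m2) ht.1) (by decide +kernel)
        have mk : ∀ a b : G, Commute a b → g * FourPerm.im F fourU.v1 * g⁻¹ = a →
            g * FourPerm.im F fourR.v2 * g⁻¹ = b →
            Commute (g * FourPerm.im F fourU.v1 * g⁻¹) (g * FourPerm.im F fourR.v2 * g⁻¹) := by
          intro a b hc e1 e2
          show g * FourPerm.im F fourU.v1 * g⁻¹ * (g * FourPerm.im F fourR.v2 * g⁻¹) =
            g * FourPerm.im F fourR.v2 * g⁻¹ * (g * FourPerm.im F fourU.v1 * g⁻¹)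
          rw [e1, e2, hc.eq]
        rcases h with h | h <;> rcases h' with h' | h'
        · exact mk _ _ (Commute.refl _) h h'
        · exact mk _ _ hab h h'
        · exact mk _ _ hab.symm h h'
        · exact mk _ _ (Commute.refl _) h h'
      have hcm : Commute (FourPerm.im F fourU.v1) (FourPerm.im F fourR.v2) := by
        have := hcomm'.map (MulAut.conj g⁻¹).toMonoidHom
        simpa [mul_assoc] using this
      exact huv (((hcomm _ _ hu hr).mpr ⟨hu, hr, hcm.eq⟩))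
    rw [show FourPerm.im F z9 = L.ι (tr aV) from F.val_z] at hnormz
    obtain ⟨σ, hσ⟩ := F.norm g hnormz
    rw [← hσ]
    refine ⟨σ, (hTM _).mpr ⟨σ.2, ?_, ?_⟩, rfl⟩
    · show (σ : Perm (Fin 9)) * c9 = c9 * (σ : Perm (Fin 9))
      refine FourPerm.im_inj F (mul_mem σ.2 hc.1) (mul_mem hc.1 σ.2) ?_
      rw [FourPerm.im_mul F σ.2 hc.1, FourPerm.im_mul F hc.1 σ.2, show FourPerm.im F σ = g from (F.val_one_eq σ.2).trans hσ]
      exact mul_inv_eq_iff_eq_mul.mp hgc
    · show (σ : Perm (Fin 9)) * t9 = t9 * (σ : Perm (Fin 9))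
      refine FourPerm.im_inj F (mul_mem σ.2 ht.1) (mul_mem ht.1 σ.2) ?_
      rw [FourPerm.im_mul F σ.2 ht.1, FourPerm.im_mul F ht.1 σ.2, show FourPerm.im F σ = g from (F.val_one_eq σ.2).trans hσ]
      exact mul_inv_eq_iff_eq_mul.mp hgt
  -- fusion in the centre
  have hcen : ∀ σ, σ ∈ M2 → (∀ τ, inT τ → σ * τ = τ * σ) →
      FourPerm.im F σ ∈ Subgroup.centralizer ((S : Subgroup G) : Set G) := by
    intro σ hσ hcm
    rw [Subgroup.mem_centralizer_iff]
    intro x hx
    rw [SetLike.mem_coe, hST] at hx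
    obtain ⟨τ, hτ, rfl⟩ := hTim x hx
    exact (FourPerm.im_commute F hτ.1 hσ (hcm τ hτ).symm).eq
  obtain ⟨n, hn, hne⟩ := S.conj_eq_normalizer_conj_of_mem_centralizer c γ⁻¹
    (hcen c9 hc.1 fun τ hτ => hτ.2.1.symm) (by rw [inv_inv, hγ]; exact hcen t9 ht.1 fun τ hτ => hτ.2.2.symm)
  rw [inv_inv, hγ] at hne
  have hn' : ∀ x, x ∈ T ↔ n⁻¹ * x * n⁻¹⁻¹ ∈ T := fun x => by
    rw [← hST]; exact Subgroup.mem_normalizer_iff.mp (inv_mem hn) x
  have := hfixc n⁻¹ hn'
  rw [inv_inv, ← hne] at this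
  exact (by decide +kernel : t9 ≠ c9) (FourPerm.im_inj F ht.1 hc.1 this)

end CfsgLib.A9Three
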