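import Cfsg.Agent.Lib.A9Three.Loc

set_option autoImplicit false

/-!
Elements moving a translation to a translation, and the centralizer of a translation modulo the translation.
-/

namespace CfsgLib.A9Three

open CfsgLib.A9Local

universe u

theorem weight_three_conj : ∀ v : Vec, v.1 ≠ 0 → v.2.1 ≠ 0 → v.2.2 ≠ 0 → ∃ r : Fin 24, act r (1, 1, 1) = v := by
  decide +kernel

theorem tr_mul (v w : Vec) : tr v * tr w = tr (v + w) := by
  show (⟨_, _⟩ : HM) = ⟨_, _⟩
  rw [act_one, (rMul_one 0).1]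

theorem tr_pow (v : Vec) : ∀ n : ℕ, tr v ^ n = tr (n • v)
  | 0 => by rw [pow_zero, zero_smul, HM.one_def]
  | n + 1 => by rw [pow_succ, tr_pow v n, tr_mul, succ_nsmul]

/-- A normal subgroup of order prime to three of a central quotient by a subgroup of order three is trivial,
if the group has none. -/
theorem quotient_core {C : Type u} [Group C] [Finite C] (hcore : Cfsg.pPrimeCore 3 C = ⊥) (Z : Subgroup C)
    [Z.Normal] (hZ : Z ≤ Subgroup.center C) (h3 : Nat.card Z = 3) (K : Subgroup (C ⧸ Z)) (hK : K.Normal)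
    (hco : (Nat.card K).Coprime 3) : K = ⊥ := by
  haveI := hK
  set Kt : Subgroup C := K.comap (QuotientGroup.mk' Z) with hKt
  have hZK : Z ≤ Kt := fun z hz => by
    rw [hKt, Subgroup.mem_comap, QuotientGroup.mk'_apply, (QuotientGroup.eq_one_iff z).mpr hz]
    exact one_mem _
  set Z' : Subgroup Kt := Z.subgroupOf Kt with hZ'
  haveI : Z'.Normal := (inferInstance : Z.Normal).comap _
  have hcZ' : Nat.card Z' = 3 := by rw [hZ', Nat.card_congr (Subgroup.subgroupOfEquivOfLe hZK).toEquiv, h3]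
  have hidx : Z'.index = Nat.card K := by
    let f : Kt →* K := ((QuotientGroup.mk' Z).comp Kt.subtype).codRestrict K fun x => x.2
    have hf : Function.Surjective f := by
      rintro ⟨q, hq⟩
      obtain ⟨v, rfl⟩ := QuotientGroup.mk'_surjective Z q
      exact ⟨⟨v, hq⟩, rfl⟩
    have hk : f.ker = Z' := by
      ext x
      rw [MonoidHom.mem_ker, hZ', Subgroup.mem_subgroupOf, Subtype.ext_iff]
      exact QuotientGroup.eq_one_iff _
    rw [← hk, Subgroup.index_ker, MonoidHom.range_eq_top.mpr hf, Subgroup.card_top]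
  obtain ⟨L, hL⟩ := Subgroup.exists_right_complement'_of_coprime (N := Z') (by rw [hcZ', hidx]; exact hco.symm)
  have hLcard : Nat.card L = Nat.card K := by rw [← hidx, hL.symm.index_eq_card]
  set m := Nat.card K with hm
  have hchar : ∀ x : Kt, x ∈ L ↔ x ^ m = 1 := by
    intro x
    refine ⟨fun hx => ?_, fun hx => ?_⟩
    · have := congrArg Subtype.val (pow_card_eq_one' (x := (⟨x, hx⟩ : L)))
      rw [← hLcard]
      rwa [Subgroup.coe_pow, Subgroup.coe_one] at this
    · obtain ⟨⟨z, l⟩, rfl⟩ := hL.2 x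
      have hc : Commute (z : Kt) (l : Kt) :=
        Subtype.ext (Subgroup.mem_center_iff.mp (hZ z.2) (l : Kt).1).symm
      have hl : (l : Kt) ^ m = 1 := by
        rw [← hLcard]
        have := congrArg Subtype.val (pow_card_eq_one' (x := l))
        rwa [Subgroup.coe_pow, Subgroup.coe_one] at this
      rw [hc.mul_pow, hl, mul_one] at hx
      have hz3 : (z : Kt) ^ 3 = 1 := by
        rw [← hcZ']
        have := congrArg Subtype.val (pow_card_eq_one' (x := z))
        rwa [Subgroup.coe_pow, Subgroup.coe_one] at this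
      have : (z : Kt) = 1 := by
        refine orderOf_eq_one_iff.mp (Nat.eq_one_of_dvd_coprimes hco (orderOf_dvd_of_pow_eq_one hx)
          (orderOf_dvd_of_pow_eq_one hz3))
      show (z : Kt) * l ∈ L
      rw [this, one_mul]
      exact l.2
  have hbot : L.map Kt.subtype = ⊥ := by
    haveI : (L.map Kt.subtype).Normal := ⟨by
      rintro _ ⟨x, hx, rfl⟩ g
      have hmem : g * (x : C) * g⁻¹ ∈ Kt :=
        (inferInstance : (K.comap (QuotientGroup.mk' Z)).Normal).conj_mem _ x.2 g
      refine ⟨⟨_, hmem⟩, (hchar _).mpr (Subtype.ext ?_), rfl⟩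
      have h1 : (x : C) ^ m = 1 := by simpa using congrArg Subtype.val ((hchar x).mp hx)
      show (g * (x : C) * g⁻¹) ^ m = 1
      rw [conj_pow, h1, mul_one, mul_inv_cancel]⟩
    have := CfsgLib.le_pPrimeCore (p := 3) (N := L.map Kt.subtype)
      (by rw [Subgroup.card_map_of_injective Kt.subtype_injective, hLcard]; exact hco)
    rwa [hcore, le_bot_iff] at this
  rw [Subgroup.map_eq_bot_iff_of_injective _ Kt.subtype_injective] at hbot
  refine Subgroup.card_eq_one.mp ?_
  rw [show Nat.card K = m from rfl, ← hLcard, hbot, Subgroup.card_bot]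

variable {G : Type u} [Group G] [Finite G]

namespace Loc

variable (L : Loc G)

theorem tr_pow_three (v : Vec) : L.ι (tr v) ^ 3 = 1 := by
  rw [← map_pow, tr_pow, show (3 : ℕ) • v = 0 from (by decide : ∀ v : Vec, (3 : ℕ) • v = 0) v, show tr 0 = (1 : HM) from rfl, map_one]

theorem cent_weight_three (v : Vec) (h1 : v.1 ≠ 0) (h2 : v.2.1 ≠ 0) (h3 : v.2.2 ≠ 0) :
    Subgroup.centralizer ({L.ι (tr v)} : Set G) ≤ L.ι.range := by
  obtain ⟨r, hr⟩ := weight_three_conj v h1 h2 h3
  intro g hg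
  have hg' : (L.ι ⟨0, r⟩)⁻¹ * g * L.ι ⟨0, r⟩ ∈ Subgroup.centralizer ({L.ι xiH} : Set G) := by
    rw [Subgroup.mem_centralizer_singleton_iff]
    have e : L.ι (tr v) = L.ι ⟨0, r⟩ * L.ι xiH * (L.ι ⟨0, r⟩)⁻¹ := by
      rw [← map_inv, ← map_mul, ← map_mul, conj_transl, hr]
    have hc := Subgroup.mem_centralizer_singleton_iff.mp hg
    rw [e] at hc
    calc (L.ι ⟨0, r⟩)⁻¹ * g * L.ι ⟨0, r⟩ * L.ι xiH
        = (L.ι ⟨0, r⟩)⁻¹ * (g * (L.ι ⟨0, r⟩ * L.ι xiH * (L.ι ⟨0, r⟩)⁻¹)) * L.ι ⟨0, r⟩ := by group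
      _ = L.ι xiH * ((L.ι ⟨0, r⟩)⁻¹ * g * L.ι ⟨0, r⟩) := by rw [hc]; group
  rw [L.cent_xi_eq] at hg'
  have := mul_mem (mul_mem (⟨_, rfl⟩ : L.ι ⟨0, r⟩ ∈ L.ι.range) (L.P_le hg')) (inv_mem (⟨_, rfl⟩ : L.ι ⟨0, r⟩ ∈ L.ι.range))
  simpa [mul_assoc] using this

/-- An element carrying a translation to a translation with small centralizer lies in the range. -/
theorem mem_range_of_target {g : G} {k k' : Vec} (hk' : Subgroup.centralizer ({L.ι (tr k')} : Set G) ≤ L.ι.range)
    (h : g * L.ι (tr k) * g⁻¹ = L.ι (tr k')) : g ∈ L.ι.range := by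
  have e : L.J.map (MulAut.conj g).toMonoidHom = L.J :=
    comap_eq_transl L.inj ((conj_map_transl_le g rfl h).trans hk')
      (by rintro _ ⟨a, ha, rfl⟩ _ ⟨b, hb, rfl⟩; rw [← map_mul, ← map_mul, L.J_comm a ha b hb])
      (by rw [Subgroup.card_map_of_injective (MulAut.conj g).injective, L.card_J])
  rw [← L.norm, Subgroup.mem_normalizer_iff]
  intro z
  refine ⟨fun hz => ?_, fun hz => ?_⟩
  · have : g * z * g⁻¹ ∈ L.J.map (MulAut.conj g).toMonoidHom := ⟨z, hz, rfl⟩
    rwa [e] at this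
  · replace hz : g * z * g⁻¹ ∈ L.J := hz
    rw [← e] at hz
    obtain ⟨w, hw, he⟩ := hz
    exact mul_left_cancel (mul_right_cancel (show g * w * g⁻¹ = g * z * g⁻¹ from he)) ▸ hw

/-- An element carrying a translation with small centralizer to a translation lies in the range. -/
theorem mem_range_of_source {g : G} {k k' : Vec} (hk : Subgroup.centralizer ({L.ι (tr k)} : Set G) ≤ L.ι.range)
    (h : g * L.ι (tr k) * g⁻¹ = L.ι (tr k')) : g ∈ L.ι.range := by
  have := L.mem_range_of_target (g := g⁻¹) hk (k := k') (by rw [← h]; group)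
  simpa using inv_mem this

end Loc

end CfsgLib.A9Three
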